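import Cfsg.Agent.Lib.Recog.MTwelveAmalgam.Defs
import Mathlib.GroupTheory.Coset.Card

/-!
# The amalgam of type `M₁₂` / `L₃(3)`: the configuration in `G`

`Lt` and `Lτ` are the local data at the commuting involutions `t = t_A` and `τ = t_B`; `x = Lt.φ xM`,
`y = Lτ.φ xM` and `z` are the elements of order three centralising `t`, `τ` and `t * τ`, with
`Q_B = ⟨x, z⟩` and `Q_A = ⟨y, z⟩`; `u`, `u'` are elements of order four in the two quaternion groups. The data at `t * τ` is the conjugate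
by `u` of the data at `τ`.
-/

set_option autoImplicit false

namespace CfsgLib.Recog.MTwelveAmalgam

universe u

/-- The configuration given by the amalgam. -/
structure Cfg (G : Type u) [Group G] where
  Lt : Loc G
  Lτ : Loc G
  φt_tau : Lt.φ tauM = Lτ.t
  φτ_tau : Lτ.φ tauM = Lt.t
  z : G
  z_three : z * z * z = 1
  z_ne : z ≠ 1
  zx : z * Lt.φ xM = Lt.φ xM * z
  zy : z * Lτ.φ xM = Lτ.φ xM * z
  tz : Lt.t * z * Lt.t = z⁻¹
  τz : Lτ.t * z * Lτ.t = z⁻¹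
  ty : Lt.t * Lτ.φ xM * Lt.t = (Lτ.φ xM)⁻¹
  u_y : (Lt.φ uM)⁻¹ * Lτ.φ xM * Lt.φ uM = z ∨ (Lt.φ uM)⁻¹ * Lτ.φ xM * Lt.φ uM = z⁻¹
  u'_x : (Lτ.φ uM)⁻¹ * Lt.φ xM * Lτ.φ uM = z ∨ (Lτ.φ uM)⁻¹ * Lt.φ xM * Lτ.φ uM = z⁻¹
  l1x : ∀ U : Subgroup G, ¬ 3 ∣ Nat.card U → Lt.φ xM ∈ Subgroup.normalizer (U : Set G) →
    z ∈ Subgroup.normalizer (U : Set G) → U = ⊥
  l1y : ∀ U : Subgroup G, ¬ 3 ∣ Nat.card U → Lτ.φ xM ∈ Subgroup.normalizer (U : Set G) →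
    z ∈ Subgroup.normalizer (U : Set G) → U = ⊥

namespace Cfg

variable {G : Type u} [Group G] (C : Cfg G)

abbrev t : G := C.Lt.t
abbrev τ : G := C.Lτ.t
abbrev x : G := C.Lt.φ xM
abbrev y : G := C.Lτ.φ xM
abbrev u : G := C.Lt.φ uM
abbrev u' : G := C.Lτ.φ uM

end Cfg

end CfsgLib.Recog.MTwelveAmalgam
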