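import Cfsg.Agent.Lib.Recog.MTwelveAmalgam.Defs
import Mathlib.LinearAlgebra.Matrix.ToLin
import Mathlib.Algebra.Module.ZMod
import Mathlib.LinearAlgebra.Matrix.GeneralLinearGroup.Card

/-!
# A complement `GL₂(3)` in the normaliser of a natural module of order 9

`A` acts on the elementary subgroup `Q = ⟨z, y⟩` as its whole automorphism group with kernel `Q`
and `t ∈ A` inverts `Q`: then `C_A(t)` is a copy of `GL₂(3)`. The coordinates are twisted by the
determinant, so that `tauM` corresponds to an element inverting `z` and fixing `y`.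
-/

set_option autoImplicit false

namespace CfsgLib.Recog.MTwelveAmalgam

open Matrix

universe u

/-- `g ↦ det g · g`. -/
def twist (g : GL (Fin 2) (ZMod 3)) : GL (Fin 2) (ZMod 3) :=
  bif decide ((g : Matrix (Fin 2) (Fin 2) (ZMod 3)).det = 1) then g else -1 * g

theorem neg_one_central : ∀ g : GL (Fin 2) (ZMod 3), g * -1 = -1 * g := fun g => by
  rw [mul_neg, mul_one, neg_mul, one_mul]

theorem det_cases : ∀ g : GL (Fin 2) (ZMod 3), (g : Matrix (Fin 2) (Fin 2) (ZMod 3)).det = 1 ∨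
    (g : Matrix (Fin 2) (Fin 2) (ZMod 3)).det = -1 := by decide +kernel

theorem twist_mul (g h : GL (Fin 2) (ZMod 3)) : twist (g * h) = twist g * twist h := by
  have hne : (-1 : ZMod 3) ≠ 1 := by decide
  have hmul : ((g * h : GL (Fin 2) (ZMod 3)) : Matrix (Fin 2) (Fin 2) (ZMod 3)).det =
      (g : Matrix (Fin 2) (Fin 2) (ZMod 3)).det * (h : Matrix (Fin 2) (Fin 2) (ZMod 3)).det := by
    rw [Units.val_mul, det_mul]
  rcases det_cases g with hg | hg <;> rcases det_cases h with hh | hh <;>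
    simp [twist, hg, hh, hne]

theorem twist_twist : ∀ g : GL (Fin 2) (ZMod 3), twist (twist g) = g := by decide +kernel

theorem twist_values : twist xM = xM ∧ twist (-1) = -1 ∧ twist uM = uM ∧
    twist tauM = -1 * tauM := by decide +kernel

theorem twist_trans : ∀ v : Fin 2 → ZMod 3, v ≠ 0 → ∃ g : GL (Fin 2) (ZMod 3),
    (twist g : Matrix (Fin 2) (Fin 2) (ZMod 3)) *ᵥ ![1, 0] = v := by decide +kernel

/-- Twisting, as an automorphism. -/
def twistEquiv : GL (Fin 2) (ZMod 3) ≃* GL (Fin 2) (ZMod 3) where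
  toFun := twist
  invFun := twist
  left_inv := twist_twist
  right_inv := twist_twist
  map_mul' := twist_mul

/-- The natural module. -/
structure NatMod {G : Type u} [Group G] (A Q : Subgroup G) : Prop where
  le : Q ≤ A
  card : Nat.card Q = 9
  exp : ∀ q ∈ Q, q ^ 3 = 1
  comm : ∀ p ∈ Q, ∀ q ∈ Q, p * q = q * p
  norm : ∀ a ∈ A, ∀ q ∈ Q, a * q * a⁻¹ ∈ Q
  selfc : ∀ a ∈ A, (∀ q ∈ Q, a * q = q * a) → a ∈ Q
  cardA : Nat.card A = 432

variable {G : Type u} [Group G] {A Q : Subgroup G}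

theorem NatMod.cube_inv (N : NatMod A Q) {q : G} (hq : q ∈ Q) : q⁻¹ = q * q :=
  inv_eq_of_mul_eq_one_right (by rw [← mul_assoc, ← pow_two, ← pow_succ, N.exp q hq])

/-- An element of `Q` fixed by an element inverting `Q` is trivial. -/
theorem NatMod.eq_one_of_fixed (N : NatMod A Q) {q : G} (hq : q ∈ Q) (h : q = q⁻¹) : q = 1 := by
  have h3 := N.exp q hq
  rw [pow_succ, pow_two] at h3
  nth_rewrite 2 [h] at h3
  rwa [mul_inv_cancel, one_mul] at h3

/-- **Coordinates.** -/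
theorem NatMod.coords [Finite G] (N : NatMod A Q) {z y : G} (hz : z ∈ Q) (hy : y ∈ Q)
    (hz1 : z ≠ 1) (hyz : y ∉ Subgroup.zpowers z) :
    ∃ (ι : (Fin 2 → ZMod 3) → ↥Q) (ρ : ↥A →* GL (Fin 2) (ZMod 3)),
      (∀ i j : ZMod 3, (ι ![i, j] : G) = z ^ i.val * y ^ j.val) ∧
      Function.Bijective ι ∧ (∀ v w, ι (v + w) = ι v * ι w) ∧
      (∀ (a : ↥A) v, (a : G) * ι v * (a : G)⁻¹ =
        ι ((ρ a : Matrix (Fin 2) (Fin 2) (ZMod 3)) *ᵥ v)) ∧
      (∀ a : ↥A, ρ a = 1 ↔ (a : G) ∈ Q) ∧ Function.Surjective ρ := by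
  classical
  -- coordinates
  have z3 : orderOf z = 3 := orderOf_eq_prime (N.exp z hz) hz1
  have y3 : orderOf y = 3 := orderOf_eq_prime (N.exp y hy) fun h =>
    hyz (h ▸ one_mem _)
  have hpow : ∀ (g : G), g ^ 3 = 1 → ∀ i j : ZMod 3,
      g ^ (i + j).val = g ^ i.val * g ^ j.val := by
    intro g hg i j
    rw [← pow_add, ZMod.val_add]
    conv_rhs => rw [← Nat.mod_add_div (i.val + j.val) 3, pow_add, pow_mul, hg, one_pow, mul_one]
  let ι : (Fin 2 → ZMod 3) → ↥Q := fun v =>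
    ⟨z ^ (v 0).val * y ^ (v 1).val, mul_mem (pow_mem hz _) (pow_mem hy _)⟩
  have ι_add : ∀ v w, ι (v + w) = ι v * ι w := fun v w => Subtype.ext (by
    show z ^ (v 0 + w 0).val * y ^ (v 1 + w 1).val =
      z ^ (v 0).val * y ^ (v 1).val * (z ^ (w 0).val * y ^ (w 1).val)
    rw [hpow z (N.exp z hz), hpow y (N.exp y hy), mul_assoc, mul_assoc]
    congr 1
    rw [← mul_assoc, N.comm _ (pow_mem hz _) _ (pow_mem hy _), mul_assoc])
  have ι_inj : Function.Injective ι := by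
    have key : ∀ v, ι v = 1 → v = 0 := by
      intro v hv
      have e : z ^ (v 0).val * y ^ (v 1).val = 1 := congrArg Subtype.val hv
      have h1 : v 1 = 0 := by
        by_contra h1
        apply hyz
        have hy1 : y ^ (v 1).val ∈ Subgroup.zpowers z := by
          rw [eq_inv_of_mul_eq_one_right e]
          exact inv_mem (pow_mem (Subgroup.mem_zpowers z) _)
        have hv : (v 1).val = 1 ∨ (v 1).val = 2 := by
          have := ZMod.val_lt (v 1)
          have : (v 1).val ≠ 0 := fun h => h1 ((ZMod.val_eq_zero _).1 h)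
          omega
        rcases hv with h | h <;> rw [h] at hy1
        · rwa [pow_one] at hy1
        · rw [pow_two, ← N.cube_inv hy] at hy1
          exact inv_mem_iff.1 hy1
      rw [h1, ZMod.val_zero, pow_zero, mul_one] at e
      have h0 := orderOf_dvd_of_pow_eq_one e
      rw [z3] at h0
      have h00 : (v 0).val = 0 := Nat.eq_zero_of_dvd_of_lt h0 (ZMod.val_lt _)
      funext i
      fin_cases i
      · exact (ZMod.val_eq_zero _).1 h00
      · exact h1
    intro v w h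
    have h0 : ι (v - w) * ι w = ι w := by rw [← ι_add, sub_add_cancel, h]
    exact sub_eq_zero.1 (key _ (mul_eq_right.1 h0))
  have ι_bij : Function.Bijective ι := ι_inj.bijective_of_nat_card_le (by
    rw [N.card, Nat.card_fun, Nat.card_zmod, Nat.card_fin]; norm_num)
  let ιe := Equiv.ofBijective ι ι_bij
  have ι_symm : ∀ p q : ↥Q, ιe.symm (p * q) = ιe.symm p + ιe.symm q := fun p q => by
    refine ι_inj ?_
    show ιe (ιe.symm (p * q)) = _
    rw [ι_add]
    show ιe (ιe.symm (p * q)) = ιe (ιe.symm p) * ιe (ιe.symm q)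
    simp only [Equiv.apply_symm_apply]
  let act : ↥A → (Fin 2 → ZMod 3) →+ (Fin 2 → ZMod 3) := fun a =>
    AddMonoidHom.mk' (fun v => ιe.symm ⟨(a : G) * ι v * (a : G)⁻¹, N.norm a a.2 _ (ι v).2⟩)
      fun v w => by
        rw [← ι_symm]
        refine congrArg ιe.symm (Subtype.ext ?_)
        show (a : G) * (ι (v + w) : ↥Q) * (a : G)⁻¹ = (a : G) * ι v * (a : G)⁻¹ * ((a : G) * ι w * (a : G)⁻¹)
        rw [ι_add, Subgroup.coe_mul]
        group
  let mat : ↥A → Matrix (Fin 2) (Fin 2) (ZMod 3) := fun a =>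
    LinearMap.toMatrix' ((act a).toZModLinearMap 3)
  have hmat : ∀ (a : ↥A) v, ι (mat a *ᵥ v) = ⟨(a : G) * ι v * (a : G)⁻¹, N.norm a a.2 _ (ι v).2⟩ :=
    fun a v => by
      show ι (LinearMap.toMatrix' _ *ᵥ v) = _
      rw [LinearMap.toMatrix'_mulVec]
      exact ιe.apply_symm_apply _
  have mat_eq : ∀ (a : ↥A) (m : Matrix (Fin 2) (Fin 2) (ZMod 3)),
      (∀ v, (a : G) * ι v * (a : G)⁻¹ = ι (m *ᵥ v)) → mat a = m := by
    intro a m h
    refine Matrix.ext_of_mulVec_single fun i => ι_inj ?_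
    rw [hmat]
    exact Subtype.ext (h _)
  have mat_mul : ∀ a b : ↥A, mat (a * b) = mat a * mat b := fun a b => by
    refine mat_eq _ _ fun v => ?_
    rw [← Matrix.mulVec_mulVec, hmat, hmat]
    show (a : G) * b * ι v * ((a : G) * b)⁻¹ = (a : G) * ((b : G) * ι v * (b : G)⁻¹) * (a : G)⁻¹
    group
  have mat_one : mat 1 = 1 := mat_eq _ _ fun v => by simp
  let ρ : ↥A →* GL (Fin 2) (ZMod 3) :=
    MonoidHom.toHomUnits
      { toFun := mat
        map_one' := mat_one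
        map_mul' := mat_mul }
  have hρ : ∀ a : ↥A, ((ρ a : GL (Fin 2) (ZMod 3)) : Matrix (Fin 2) (Fin 2) (ZMod 3)) = mat a :=
    fun a => rfl
  have ρ_act : ∀ (a : ↥A) v, (a : G) * ι v * (a : G)⁻¹ =
      ι ((ρ a : Matrix (Fin 2) (Fin 2) (ZMod 3)) *ᵥ v) := fun a v => by
    rw [hρ, hmat]
  have hkerρ : ∀ a : ↥A, ρ a = 1 ↔ (a : G) ∈ Q := by
    intro a
    refine ⟨fun h => N.selfc a a.2 fun q hq => ?_, fun h => ?_⟩
    · obtain ⟨v, hv⟩ := ι_bij.2 ⟨q, hq⟩
      have := ρ_act a v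
      rw [h, Units.val_one, Matrix.one_mulVec, hv] at this
      exact mul_inv_eq_iff_eq_mul.1 this
    · refine Units.ext ?_
      rw [hρ]
      exact mat_eq a 1 fun v => by
        rw [Matrix.one_mulVec, N.comm _ h _ (ι v).2, mul_inv_cancel_right]
  have hQker : Nat.card ρ.ker = 9 := by
    have : ρ.ker = Q.subgroupOf A := by
      ext a; exact hkerρ a
    rw [this, Nat.card_congr (Subgroup.subgroupOfEquivOfLe N.le).toEquiv, N.card]
  have ρ_surj : Function.Surjective ρ := by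
    rw [← MonoidHom.range_eq_top]
    refine Subgroup.eq_top_of_card_eq _ ?_
    have h := ρ.ker.card_eq_card_quotient_mul_card_subgroup
    rw [N.cardA, hQker, Nat.card_congr (QuotientGroup.quotientKerEquivRange ρ).toEquiv] at h
    have h48 : Nat.card (GL (Fin 2) (ZMod 3)) = 48 := by
      rw [Matrix.card_GL_field]; simp [Fin.prod_univ_two]
    rw [h48]
    omega
  exact ⟨ι, ρ, fun i j => rfl, ι_bij, ι_add, ρ_act, hkerρ, ρ_surj⟩

/-- An involution inverting the module. -/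
theorem NatMod.exists_inv [Finite G] (N : NatMod A Q) :
    ∃ t ∈ A, t * t = 1 ∧ ∀ q ∈ Q, t * q * t = q⁻¹ := by
  obtain ⟨⟨z, hz⟩, hz1⟩ : ∃ z : ↥Q, z ≠ 1 := by
    by_contra! h
    have : Q = ⊥ := (Subgroup.eq_bot_iff_forall _).2 fun q hq => congrArg Subtype.val (h ⟨q, hq⟩)
    have h9 := N.card
    rw [this, Subgroup.card_bot] at h9
    omega
  have hz1' : z ≠ 1 := fun h => hz1 (Subtype.ext h)
  obtain ⟨y, hy, hyz⟩ : ∃ y ∈ Q, y ∉ Subgroup.zpowers z := by
    by_contra! h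
    have h9 := Subgroup.card_dvd_of_le (show Q ≤ Subgroup.zpowers z from h)
    rw [N.card, Nat.card_zpowers, orderOf_eq_prime (N.exp z hz) hz1'] at h9
    omega
  obtain ⟨ι, ρ, hι, ι_bij, ι_add, ρ_act, hker, ρ_surj⟩ := N.coords hz hy hz1' hyz
  obtain ⟨a, ha⟩ := ρ_surj (-1)
  have hρ3 : ρ (a ^ 3) = -1 := by rw [map_pow, ha]; decide
  have h6 : ((a : G) ^ 2) ∈ Q := (hker (a ^ 2)).1 (by rw [map_pow, ha, neg_one_sq])
  have ht : ((a : G) ^ 3) * (a : G) ^ 3 = 1 := by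
    rw [← pow_add]; exact (pow_mul (a : G) 2 3).trans (N.exp _ h6)
  refine ⟨(a : G) ^ 3, pow_mem a.2 3, ht, fun q hq => ?_⟩
  obtain ⟨v, hv⟩ := ι_bij.2 ⟨q, hq⟩
  obtain rfl : (ι v : G) = q := congrArg Subtype.val hv
  have := ρ_act (a ^ 3) v
  rw [hρ3, SubmonoidClass.coe_pow, inv_eq_of_mul_eq_one_right ht, Units.val_neg, Units.val_one,
    Matrix.neg_mulVec, Matrix.one_mulVec] at this
  rw [this]
  refine (inv_eq_of_mul_eq_one_right ?_).symm
  rw [← Subgroup.coe_mul, ← ι_add, add_neg_cancel,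
    show (0 : Fin 2 → ZMod 3) = ![0, 0] by funext i; fin_cases i <;> rfl, hι]
  simp

/-- **The complement.** -/
theorem NatMod.exists_phi [Finite G] (N : NatMod A Q) {t z y : G} (htA : t ∈ A) (htt : t * t = 1)
    (htQ : ∀ q ∈ Q, t * q * t = q⁻¹) (hz : z ∈ Q) (hy : y ∈ Q) (hz1 : z ≠ 1)
    (hyz : y ∉ Subgroup.zpowers z) :
    ∃ φ : GL (Fin 2) (ZMod 3) →* G, Function.Injective φ ∧ φ (-1) = t ∧ (∀ g, φ g ∈ A) ∧
      (∀ a ∈ A, ∃ q ∈ Q, ∃ g, a = q * φ g) ∧
      (∀ a ∈ A, a * t = t * a → a * z * a⁻¹ = z → a * y * a⁻¹ = z * y → φ xM = a) ∧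
      (∀ a ∈ A, a * t = t * a → a * z * a⁻¹ = z⁻¹ → a * y * a⁻¹ = y → φ tauM = a) ∧
      φ uM * z * (φ uM)⁻¹ = y ∧ φ uM * y * (φ uM)⁻¹ = z⁻¹ ∧
      ∀ q ∈ Q, q ≠ 1 → ∃ g, φ g * z * (φ g)⁻¹ = q := by
  classical
  obtain ⟨ι, ρ, hι, ι_bij, ι_add, ρ_act, hkerρ, ρ_surj⟩ := N.coords hz hy hz1 hyz
  have ι_inj := ι_bij.1
  have ρ_eq : ∀ (a : ↥A) (g : GL (Fin 2) (ZMod 3)),
      (a : G) * z * (a : G)⁻¹ = ι ((g : Matrix (Fin 2) (Fin 2) (ZMod 3)) *ᵥ ![1, 0]) →
      (a : G) * y * (a : G)⁻¹ = ι ((g : Matrix (Fin 2) (Fin 2) (ZMod 3)) *ᵥ ![0, 1]) →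
      ρ a = g := by
    intro a g h0 h1
    have ez : (ι ![1, 0] : G) = z := by
      rw [hι, ZMod.val_zero, pow_zero, mul_one, ZMod.val_one, pow_one]
    have ey : (ι ![0, 1] : G) = y := by
      rw [hι, ZMod.val_zero, pow_zero, one_mul, ZMod.val_one, pow_one]
    refine Units.ext (Matrix.ext_of_mulVec_single fun i => ι_inj (Subtype.ext ?_))
    rw [← ρ_act]
    fin_cases i
    · rw [show (Pi.single (⟨0, by norm_num⟩ : Fin 2) 1 : Fin 2 → ZMod 3) = ![1, 0] by
        funext j; fin_cases j <;> rfl, ez, h0]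
    · rw [show (Pi.single (⟨1, by norm_num⟩ : Fin 2) 1 : Fin 2 → ZMod 3) = ![0, 1] by
        funext j; fin_cases j <;> rfl, ey, h1]
  have hι0 : (ι 0 : G) = 1 := by
    rw [show (0 : Fin 2 → ZMod 3) = ![0, 0] by funext i; fin_cases i <;> rfl, hι]
    simp
  -- the complement
  set tA : ↥A := ⟨t, htA⟩
  set K := Subgroup.centralizer ({tA} : Set ↥A) with hK
  have ρt : ρ tA = -1 := by
    refine Units.ext (Matrix.ext_of_mulVec_single fun i => ι_inj (Subtype.ext ?_))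
    rw [← ρ_act]
    show t * ι _ * t⁻¹ = _
    rw [inv_eq_of_mul_eq_one_right htt, htQ _ (ι _).2, Units.val_neg, Units.val_one,
      Matrix.neg_mulVec, Matrix.one_mulVec]
    refine inv_eq_of_mul_eq_one_right ?_
    rw [← Subgroup.coe_mul, ← ι_add, add_neg_cancel, hι0]
  let r : ↥K →* GL (Fin 2) (ZMod 3) := ρ.comp K.subtype
  have r_inj : Function.Injective r := by
    rw [← MonoidHom.ker_eq_bot_iff, Subgroup.eq_bot_iff_forall]
    intro k hk
    have hkQ : ((k : ↥A) : G) ∈ Q := (hkerρ _).1 hk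
    have hc : ((k : ↥A) : G) * t = t * (k : ↥A) :=
      congrArg Subtype.val (Subgroup.mem_centralizer_singleton_iff.1 k.2)
    refine Subtype.ext (Subtype.ext (N.eq_one_of_fixed hkQ ?_))
    show ((k : ↥A) : G) = ((k : ↥A) : G)⁻¹
    rw [← htQ _ hkQ, ← hc, mul_assoc, htt, mul_one]
  have decomp : ∀ a : ↥A, ∃ q ∈ Q, ∃ k : ↥K, (a : G) = q * (k : ↥A) := by
    intro a
    set p := (a : G) * t * (a : G)⁻¹ * t with hp
    have hpQ : p ∈ Q := (hkerρ (a * tA * a⁻¹ * tA)).1 (by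
      rw [map_mul, map_mul, map_mul, map_inv, ρt, neg_one_central (ρ a), mul_inv_cancel_right]
      simp)
    set q := p * p with hq
    have hqQ : q ∈ Q := mul_mem hpQ hpQ
    have hqt : q * t * q⁻¹ = p * t := by
      have e : t * q⁻¹ = q * t := by
        have := htQ q hqQ
        calc t * q⁻¹ = t * (t * q * t) := by rw [this]
          _ = t * t * q * t := by group
          _ = q * t := by rw [htt, one_mul]
      rw [mul_assoc, e, ← mul_assoc, hq,
        show p * p * (p * p) = p ^ 3 * p by simp [pow_succ, mul_assoc], N.exp p hpQ, one_mul]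
    refine ⟨q, hqQ, ⟨⟨q⁻¹ * a, mul_mem (inv_mem (N.le hqQ)) a.2⟩,
      Subgroup.mem_centralizer_singleton_iff.2 (Subtype.ext ?_)⟩,
      (mul_inv_cancel_left q (a : G)).symm⟩
    show q⁻¹ * a * t = t * (q⁻¹ * a)
    have e : (a : G) * t * (a : G)⁻¹ = q * t * q⁻¹ := by
      rw [hqt, hp, mul_assoc _ t t, htt, mul_one]
    calc q⁻¹ * a * t = q⁻¹ * ((a : G) * t * (a : G)⁻¹) * a := by group
      _ = q⁻¹ * (q * t * q⁻¹) * a := by rw [e]
      _ = t * (q⁻¹ * a) := by group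
  have r_surj : Function.Surjective r := by
    intro g
    obtain ⟨a, rfl⟩ := ρ_surj g
    obtain ⟨q, hq, k, hk⟩ := decomp a
    refine ⟨k, ?_⟩
    have : a = (⟨q, N.le hq⟩ : ↥A) * (k : ↥A) := Subtype.ext hk
    rw [this, map_mul, (hkerρ ⟨q, N.le hq⟩).2 hq, one_mul]
    rfl
  let re := MulEquiv.ofBijective r ⟨r_inj, r_surj⟩
  let φ : GL (Fin 2) (ZMod 3) →* G :=
    (A.subtype.comp (K.subtype.comp re.symm.toMonoidHom)).comp twistEquiv.toMonoidHom
  have φ_eq : ∀ (a : G) (ha : a ∈ A), a * t = t * a → ∀ g, ρ ⟨a, ha⟩ = twist g → φ g = a := by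
    intro a ha hc g hg
    set k : ↥K := ⟨⟨a, ha⟩, Subgroup.mem_centralizer_singleton_iff.2 (Subtype.ext hc)⟩
    have : re.symm (twist g) = k := by
      rw [MulEquiv.symm_apply_eq]
      exact hg.symm
    show (((re.symm (twist g) : ↥K) : ↥A) : G) = a
    rw [this]
  have φ_conj : ∀ g v, φ g * ι v * (φ g)⁻¹ =
      ι ((twist g : Matrix (Fin 2) (Fin 2) (ZMod 3)) *ᵥ v) := by
    intro g v
    show (((re.symm (twist g) : ↥K) : ↥A) : G) * ι v * (((re.symm (twist g) : ↥K) : ↥A) : G)⁻¹ = _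
    rw [ρ_act]
    have : ρ ((re.symm (twist g) : ↥K) : ↥A) = twist g := re.apply_symm_apply (twist g)
    rw [this]
  obtain ⟨tw1, tw2, tw3, tw4⟩ := twist_values
  refine ⟨φ, ?_, φ_eq t htA rfl _ (by rw [tw2]; exact ρt),
    fun g => ((re.symm (twist g) : ↥K) : ↥A).2, ?_, ?_, ?_, ?_, ?_, ?_⟩
  · exact (Subtype.val_injective.comp (Subtype.val_injective.comp re.symm.injective)).comp
      twistEquiv.injective
  · intro a ha
    obtain ⟨q, hq, k, hk⟩ := decomp ⟨a, ha⟩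
    refine ⟨q, hq, twist (r k), hk.trans ?_⟩
    show _ = q * (((re.symm (twist (twist (r k))) : ↥K) : ↥A) : G)
    rw [twist_twist]
    show _ = q * (((re.symm (re k) : ↥K) : ↥A) : G)
    rw [re.symm_apply_apply]
  · intro a ha hc e0 e1
    refine φ_eq a ha hc _ (ρ_eq _ _ ?_ ?_)
    · rw [tw1, show ((xM : GL (Fin 2) (ZMod 3)) : Matrix (Fin 2) (Fin 2) (ZMod 3)) *ᵥ ![1, 0] =
        ![1, 0] by decide, hι, e0]
      simp [ZMod.val_one, pow_one]
    · rw [tw1, show ((xM : GL (Fin 2) (ZMod 3)) : Matrix (Fin 2) (Fin 2) (ZMod 3)) *ᵥ ![0, 1] =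
        ![1, 1] by decide, hι, e1]
      simp [ZMod.val_one, pow_one]
  · intro a ha hc e0 e1
    refine φ_eq a ha hc _ (ρ_eq _ _ ?_ ?_)
    · rw [tw4, show ((-1 * tauM : GL (Fin 2) (ZMod 3)) : Matrix (Fin 2) (Fin 2) (ZMod 3)) *ᵥ ![1, 0] =
        ![2, 0] by decide, hι, e0, N.cube_inv hz]
      simp [show (2 : ZMod 3).val = 2 from rfl, pow_two]
    · rw [tw4, show ((-1 * tauM : GL (Fin 2) (ZMod 3)) : Matrix (Fin 2) (Fin 2) (ZMod 3)) *ᵥ ![0, 1] =
        ![0, 1] by decide, hι, e1]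
      simp [ZMod.val_one, pow_one]
  · have ez : (ι ![1, 0] : G) = z := by rw [hι]; simp [ZMod.val_one, pow_one]
    have := φ_conj uM ![1, 0]
    rw [ez, tw3, show ((uM : GL (Fin 2) (ZMod 3)) : Matrix (Fin 2) (Fin 2) (ZMod 3)) *ᵥ ![1, 0] =
      ![0, 1] by decide, hι] at this
    simpa [ZMod.val_one, pow_one] using this
  · have ey : (ι ![0, 1] : G) = y := by rw [hι]; simp [ZMod.val_one, pow_one]
    have := φ_conj uM ![0, 1]
    rw [ey, tw3, show ((uM : GL (Fin 2) (ZMod 3)) : Matrix (Fin 2) (Fin 2) (ZMod 3)) *ᵥ ![0, 1] =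
      ![2, 0] by decide, hι] at this
    simpa [show (2 : ZMod 3).val = 2 from rfl, pow_two, N.cube_inv hz] using this
  · intro q hq hq1
    obtain ⟨v, hv⟩ := ι_bij.2 ⟨q, hq⟩
    have ez : (ι ![1, 0] : G) = z := by rw [hι]; simp [ZMod.val_one, pow_one]
    obtain ⟨g, hg⟩ := twist_trans v fun h => hq1 (by
      have : (ι v : G) = q := congrArg Subtype.val hv
      rw [← this, h]
      exact hι0)
    refine ⟨g, ?_⟩
    rw [← ez, φ_conj, hg, hv]

end CfsgLib.Recog.MTwelveAmalgam
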