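import Cfsg.Prelude.Def_Transfer
import Mathlib.LinearAlgebra.Matrix.GeneralLinearGroup.Defs
import Mathlib.GroupTheory.OrderOfElement
import Mathlib.SetTheory.Cardinal.Finite
import Mathlib.Tactic

/-!
# The involution centraliser in the amalgam of type `M₁₂` / `L₃(3)`: interface

`Loc G` is what the amalgam gives about the involution `t`: the copy `φ` of `GL₂(3)` in its
centraliser, the centraliser of the element `X` of order three there, and the 3-part of `|G|`.
-/

set_option autoImplicit false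

namespace CfsgLib.Recog.MTwelveAmalgam

universe u

/-- An element of order three. -/
def xM : GL (Fin 2) (ZMod 3) := ⟨!![1, 1; 0, 1], !![1, 2; 0, 1], by decide, by decide⟩

/-- An involution inverting `xM`. -/
def tauM : GL (Fin 2) (ZMod 3) := ⟨!![1, 0; 0, 2], !![1, 0; 0, 2], by decide, by decide⟩

/-- An element of order four with `tauM * uM * tauM = - uM`. -/
def uM : GL (Fin 2) (ZMod 3) := ⟨!![0, 2; 1, 0], !![0, 1; 2, 0], by decide, by decide⟩

/-- The relations between the three matrices. -/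
theorem gl_facts : xM * xM * xM = 1 ∧ xM ≠ 1 ∧ tauM * tauM = 1 ∧ tauM ≠ 1 ∧ tauM ≠ -1 ∧
    tauM * xM * tauM = xM * xM ∧ uM * uM = -1 ∧ tauM * uM * tauM = uM * -1 ∧
    (uM * (xM * uM * xM⁻¹)) * (uM * (xM * uM * xM⁻¹)) = -1 ∧
    (-1 : GL (Fin 2) (ZMod 3)) ≠ 1 := by decide

/-- The data at the involution `t`. -/
structure Loc (G : Type u) [Group G] where
  /-- the involution -/
  t : G
  /-- a copy of `GL₂(3)` centralising it -/
  φ : GL (Fin 2) (ZMod 3) →* G
  φ_inj : Function.Injective φ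
  φ_neg : φ (-1) = t
  cent_x : ∀ g : G, g * t = t * g → g * φ xM = φ xM * g →
    ∃ k < 3, g = φ xM ^ k ∨ g = φ xM ^ k * t
  res : Cfsg.pResidual 2 G = ⊤
  h27 : 27 ∣ Nat.card G
  h81 : ¬ 81 ∣ Nat.card G

namespace Loc

variable {G : Type u} [Group G] (L : Loc G)

/-- The centraliser of `t`. -/
def H : Subgroup G := Subgroup.centralizer ({L.t} : Set G)

theorem mem_H {g : G} : g ∈ L.H ↔ g * L.t = L.t * g :=
  Subgroup.mem_centralizer_singleton_iff

theorem φ_mem (g : GL (Fin 2) (ZMod 3)) : L.φ g ∈ L.H := by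
  rw [L.mem_H, ← L.φ_neg, ← map_mul, ← map_mul, mul_neg, mul_one, neg_mul, one_mul]

theorem orderOf_t : orderOf L.t = 2 := by
  refine orderOf_eq_prime ?_ fun h => ?_
  · rw [← L.φ_neg, ← map_pow, neg_one_sq, map_one]
  · exact gl_facts.2.2.2.2.2.2.2.2.2 (L.φ_inj (by rw [L.φ_neg, h, map_one]))

theorem tt : L.t * L.t = 1 := by rw [← pow_two, ← L.orderOf_t, pow_orderOf_eq_one]

theorem t_ne_one : L.t ≠ 1 := fun h => by simpa [h] using L.orderOf_t

end Loc

end CfsgLib.Recog.MTwelveAmalgam
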