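import Cfsg.Agent.S2916
import Cfsg.Agent.S3344
import Cfsg.Agent.Lib.Recog.MTwelveAmalgam.Defs

/-!
# The two endgames of the amalgam of type `M₁₂` / `L₃(3)`

With a Sylow 3-subgroup of order 27, the centraliser `GL₂(3)` gives `L₃(3)` and the centraliser
`2^(1+4).S₃` gives `M₁₂`.
-/

set_option autoImplicit false

namespace CfsgLib.Recog.MTwelveAmalgam

open Cfsg

/-- The small endgame. -/
theorem psl_of_gl_two_three {G : Type*} [Group G] [Finite G] (hO : Cfsg.pResidual 2 G = ⊤) (t : G)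
    (ht : orderOf t = 2)
    (e : ↥(Subgroup.centralizer ({t} : Set G)) ≃* GL (Fin 2) (ZMod 3)) (h27 : 27 ∣ Nat.card G) :
    Nonempty (G ≃* Matrix.ProjectiveSpecialLinearGroup (Fin 3) (ZMod 3)) := by
  obtain ⟨K⟩ := CfsgLib.GLTwoThree.exists_coord e
  haveI := CfsgLib.GLTwoThree.isSimple ht K hO
  rcases Cfsg.Agent.S0197.result t ht e with h | h
  · haveI : Fact (Nat.Prime 3) := ⟨Nat.prime_three⟩
    obtain ⟨f⟩ := CfsgLib.Recog.LThreeOrder.equiv_psl (Cfsg.Agent.S2916.hyp ht K h)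
    exact ⟨f⟩
  · rw [h] at h27
    norm_num at h27

/-- The large endgame. -/
theorem m12_of_extraspecial {G : Type*} [Group G] [Finite G]
    (s : G) (hs : orderOf s = 2) (L : Subgroup G) (hL : L = Subgroup.centralizer ({s} : Set G))
    (Q : Subgroup G) (hQ : Q = (Cfsg.pCore 2 L).map L.subtype)
    (hQex : Cfsg.IsExtraspecial 2 Q) (hQcard : Nat.card Q = 32)
    (e : L ⧸ Cfsg.pCore 2 L ≃* Equiv.Perm (Fin 3))
    (X : Sylow 3 L) (hCQX : Q ⊓ Subgroup.centralizer (((X : Subgroup L).map L.subtype : Subgroup G) : Set G) = Subgroup.zpowers s)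
    (hnwc : ∃ g : G, g * s * g⁻¹ ∈ Q ∧ g * s * g⁻¹ ≠ s)
    (h27 : 27 ∣ Nat.card G) (h81 : ¬ 81 ∣ Nat.card G) : Cfsg.Spor.IsoM12 G := by
  have h8 : ∀ n, 2 ≤ n → Nat.card (alternatingGroup (Fin n)) = n.factorial / 2 := fun n hn => by
    haveI : Nontrivial (Fin n) := Fin.nontrivial_iff_two_le.2 hn
    rw [nat_card_alternatingGroup, Nat.card_fin]
  rcases Cfsg.Agent.S3344.result s hs L hL Q hQ hQex hQcard e X hCQX hnwc with
    ⟨N, hN, -, -, hN8, ⟨f⟩⟩ | ⟨⟨f⟩⟩ | ⟨⟨f⟩⟩ | h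
  · exfalso
    obtain ⟨h168, ⟨g⟩⟩ := CfsgLib.Recog.QSThree.gl_psl
    have := N.card_eq_card_quotient_mul_card_subgroup
    rw [Nat.card_congr f.toEquiv, ← Nat.card_congr g.toEquiv, h168, hN8] at this
    rw [this] at h27
    norm_num at h27
  · exfalso
    rw [Nat.card_congr f.toEquiv, h8 8 (by norm_num), show Nat.factorial 8 = 40320 from rfl] at h27
    norm_num at h27
  · exfalso
    rw [Nat.card_congr f.toEquiv, h8 9 (by norm_num), show Nat.factorial 9 = 362880 from rfl] at h81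
    norm_num at h81
  · exact h


open Subgroup in
/-- `|H| = 48`. -/
theorem Loc.psl {G : Type*} [Group G] [Finite G] (L : Loc G) (h48 : Nat.card L.H = 48) :
    Nonempty (G ≃* Matrix.ProjectiveSpecialLinearGroup (Fin 3) (ZMod 3)) := by
  have hcard : Nat.card (GL (Fin 2) (ZMod 3)) = 48 := by
    rw [Matrix.card_GL_field]; simp [Fin.prod_univ_two]
  let f : GL (Fin 2) (ZMod 3) →* ↥L.H := L.φ.codRestrict L.H L.φ_mem
  have hf : Function.Injective f := fun a b h => L.φ_inj (congrArg Subtype.val h)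
  have hb := hf.bijective_of_nat_card_le (by rw [h48, hcard])
  exact psl_of_gl_two_three L.res L.t L.orderOf_t (MulEquiv.ofBijective f hb).symm L.h27

open Subgroup in
/-- `H` has an extraspecial `O₂` of order 32 with quotient `S₃` and `t` is not weakly closed. -/
theorem Loc.m12 {G : Type*} [Group G] [Finite G] (L : Loc G) (R : Subgroup G)
    (hR : R = (Cfsg.pCore 2 ↥L.H).map L.H.subtype) (hRex : Cfsg.IsExtraspecial 2 R)
    (hR32 : Nat.card R = 32) (e : ↥L.H ⧸ Cfsg.pCore 2 ↥L.H ≃* Equiv.Perm (Fin 3))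
    (hCx : ∀ r ∈ R, r * L.φ xM = L.φ xM * r → r = 1 ∨ r = L.t)
    (hnwc : ∃ g : G, g * L.t * g⁻¹ ∈ R ∧ g * L.t * g⁻¹ ≠ L.t) : Cfsg.Spor.IsoM12 G := by
  classical
  haveI : Fact (Nat.Prime 3) := ⟨Nat.prime_three⟩
  set x : ↥L.H := ⟨L.φ xM, L.φ_mem _⟩ with hx
  have hxo : orderOf x = 3 := by
    rw [← Subgroup.orderOf_coe]
    show orderOf (L.φ xM) = 3
    refine orderOf_eq_prime ?_ fun h => gl_facts.2.1 (L.φ_inj (h.trans (map_one L.φ).symm))
    rw [← map_pow, pow_succ, pow_two, gl_facts.1, map_one]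
  have hP : Nat.card (Cfsg.pCore 2 ↥L.H) = 32 := by
    rw [← hR32, hR]
    exact Nat.card_congr ((Cfsg.pCore 2 ↥L.H).equivMapOfInjective _ L.H.subtype_injective).toEquiv
  have hcard : Nat.card ↥L.H = 192 := by
    rw [(Cfsg.pCore 2 ↥L.H).card_eq_card_quotient_mul_card_subgroup, Nat.card_congr e.toEquiv,
      Nat.card_perm, Nat.card_fin, hP]
    rfl
  have h3 : (192 : ℕ).factorization 3 = 1 := by
    rw [Nat.factorization_def _ Nat.prime_three, show (192 : ℕ) = 3 ^ 1 * 64 by norm_num,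
      padicValNat.mul (by norm_num) (by norm_num), padicValNat.prime_pow,
      padicValNat.eq_zero_of_not_dvd (by norm_num)]
  let X : Sylow 3 ↥L.H := Sylow.ofCard (zpowers x) (by
    rw [Nat.card_zpowers, hxo, hcard, h3, pow_one])
  refine m12_of_extraspecial L.t L.orderOf_t L.H rfl R hR hRex hR32 e X ?_ hnwc L.h27 L.h81
  refine le_antisymm (fun r hr => ?_) ?_
  · obtain ⟨hrR, hrc⟩ := mem_inf.1 hr
    have hc := mem_centralizer_iff.1 hrc (L.φ xM) ⟨x, mem_zpowers x, rfl⟩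
    rcases hCx r hrR hc.symm with h | h <;> rw [h]
    exacts [one_mem _, mem_zpowers _]
  · rw [zpowers_le, mem_inf]
    refine ⟨?_, mem_centralizer_iff.2 ?_⟩
    · -- the centre of `R` is generated by `t`
      obtain ⟨z, hz, hz1⟩ : ∃ z ∈ Subgroup.center ↥R, z ≠ 1 := by
        by_contra h
        push Not at h
        have := hRex.2
        rw [(Subgroup.eq_bot_iff_forall _).2 h, Subgroup.card_bot] at this
        omega
      have hxR : ∀ r ∈ R, L.φ xM * r * (L.φ xM)⁻¹ ∈ R := by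
        rw [hR]
        rintro _ ⟨r, hr, rfl⟩
        exact ⟨x * r * x⁻¹, (inferInstance : (Cfsg.pCore 2 ↥L.H).Normal).conj_mem r hr x, rfl⟩
      have hzz : L.φ xM * z * (L.φ xM)⁻¹ = z := by
        set z' : ↥R := ⟨L.φ xM * z * (L.φ xM)⁻¹, hxR _ z.2⟩ with hz'
        have hz'c : z' ∈ Subgroup.center ↥R := mem_center_iff.2 fun r => Subtype.ext (by
          obtain ⟨q, hq, hqe⟩ : ∃ q ∈ R, L.φ xM * q * (L.φ xM)⁻¹ = r := by
            refine ⟨_, hxR _ (hxR _ r.2), ?_⟩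
            have e3 : L.φ xM * L.φ xM * L.φ xM = 1 := by
              rw [← map_mul, ← map_mul, gl_facts.1, map_one]
            calc L.φ xM * (L.φ xM * (L.φ xM * r * (L.φ xM)⁻¹) * (L.φ xM)⁻¹) * (L.φ xM)⁻¹
                = L.φ xM * L.φ xM * L.φ xM * r * (L.φ xM * L.φ xM * L.φ xM)⁻¹ := by group
              _ = r := by rw [e3, one_mul, inv_one, mul_one]
          have hcm : q * z = z * q := congrArg Subtype.val (mem_center_iff.1 hz ⟨q, hq⟩)
          show (r : G) * (L.φ xM * z * (L.φ xM)⁻¹) = L.φ xM * z * (L.φ xM)⁻¹ * r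
          rw [← hqe]
          calc L.φ xM * q * (L.φ xM)⁻¹ * (L.φ xM * z * (L.φ xM)⁻¹)
              = L.φ xM * (q * z) * (L.φ xM)⁻¹ := by group
            _ = _ := by rw [hcm]; group)
        have hz'1 : z' ≠ 1 := fun h => hz1 (Subtype.ext (conj_eq_one_iff.1 (congrArg Subtype.val h)))
        exact congrArg Subtype.val (CfsgLib.Transfer.es_two_central_eq hRex hz'c hz hz'1 hz1)
      rcases hCx z z.2 (mul_inv_eq_iff_eq_mul.1 hzz).symm with h | h
      · exact absurd (Subtype.ext h) hz1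
      · exact h ▸ z.2
    · rintro _ ⟨g, hg, rfl⟩
      exact L.mem_H.1 g.2

end CfsgLib.Recog.MTwelveAmalgam
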