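import Cfsg.Agent.Lib.Recog.MTwelveAmalgam.Pair

/-!
# The sign of an involution of `D` in a frame

`w^x w^(x²) w` is `1` (`Zero`) or `t` (`One`); the sign is transported by conjugation.
-/

set_option autoImplicit false
set_option linter.unusedSectionVars false

namespace CfsgLib.Recog.MTwelveAmalgam

open Subgroup

universe u

namespace Loc

variable {G : Type u} [Group G] [Finite G] (L : Loc G)

/-- Trivial sign. -/
def Zero (w : G) : Prop := L.c (L.c w) = w * L.c w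

/-- Non-trivial sign. -/
def One (w : G) : Prop := L.c (L.c w) = w * L.c w * L.t

theorem zero_or_one {w : G} (hw : w ∈ L.R) (hw2 : w * w = 1) : L.Zero w ∨ L.One w :=
  (L.eps hw hw2).2

theorem c_of_conj {L' : Loc G} {h : G} (hX : h * L.X * h⁻¹ = L'.X) (g : G) :
    L'.c (h * g * h⁻¹) = h * L.c g * h⁻¹ := by
  simp only [c, ← hX]; group

theorem c_of_conj_inv {L' : Loc G} {h : G} (hX : h * L.X * h⁻¹ = L'.X⁻¹) (g : G) :
    L'.c (h * g * h⁻¹) = h * L.c (L.c g) * h⁻¹ := by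
  have e : L.X⁻¹ = L.X * L.X := inv_eq_of_mul_eq_one_right (by rw [← mul_assoc]; exact L.X3)
  have hX' : h * (L.X * L.X) * h⁻¹ = L'.X := by
    rw [← e, ← inv_inv L'.X, ← hX]; group
  simp only [c, ← hX']; group

theorem zero_conj {L' : Loc G} {h w : G} (hX : h * L.X * h⁻¹ = L'.X ∨ h * L.X * h⁻¹ = L'.X⁻¹)
    (hw2 : w * w = 1) (hz : L.Zero w) : L'.Zero (h * w * h⁻¹) := by
  rcases hX with hX | hX
  · rw [Zero, L.c_of_conj hX, L.c_of_conj hX, hz]; group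
  · rw [Zero, L.c_of_conj_inv hX, L.c_of_conj_inv hX, L.ccc, hz,
      show h * w * h⁻¹ * (h * (w * L.c w) * h⁻¹) = h * (w * w * L.c w) * h⁻¹ by group, hw2, one_mul]

theorem one_conj {L' : Loc G} {h w : G} (hX : h * L.X * h⁻¹ = L'.X ∨ h * L.X * h⁻¹ = L'.X⁻¹)
    (ht : h * L.t * h⁻¹ = L'.t) (hw2 : w * w = 1) (hz : L.One w) : L'.One (h * w * h⁻¹) := by
  rcases hX with hX | hX
  · rw [One, L.c_of_conj hX, L.c_of_conj hX, hz, ← ht]; group
  · rw [One, L.c_of_conj_inv hX, L.c_of_conj_inv hX, L.ccc, hz, ← ht,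
      show h * w * h⁻¹ * (h * (w * L.c w * L.t) * h⁻¹) * (h * L.t * h⁻¹) =
        h * (w * w * L.c w * (L.t * L.t)) * h⁻¹ by group, hw2, one_mul, L.tt, mul_one]

theorem not_zero_one {w : G} (h0 : L.Zero w) (h1 : L.One w) : False := by
  rw [Zero] at h0
  rw [One, h0] at h1
  exact L.t_ne_one (mul_eq_left.1 h1.symm)

theorem c_sq {w : G} (hw2 : w * w = 1) : L.c w * L.c w = 1 := by rw [← L.c_mul, hw2, L.c_one]

theorem r_c {w : G} (hr : w * L.r = L.r * w) : L.r * L.c w * L.r = L.c (L.c w) := by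
  rw [L.rgr_c, ← hr, mul_assoc w, L.rr, mul_one]

theorem zero_flip {w : G} (hw : w ∈ L.D) (hw2 : w * w = 1) (hz : L.Zero w) :
    L.c w * L.r * (L.c w)⁻¹ = L.r * w := by
  have e := L.r_c (L.mem_D.1 hw).2
  rw [hz] at e
  calc L.c w * L.r * (L.c w)⁻¹ = L.r * (L.r * L.c w * L.r) * (L.c w)⁻¹ := by
        rw [← mul_assoc L.r (L.r * L.c w), ← mul_assoc L.r L.r, L.rr, one_mul]
    _ = _ := by rw [e]; group

theorem one_flip {w : G} (hw : w ∈ L.D) (hw2 : w * w = 1) (hz : L.One w) :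
    L.c w * L.r * (L.c w)⁻¹ = L.r * w * L.t := by
  have e := L.r_c (L.mem_D.1 hw).2
  rw [hz] at e
  calc L.c w * L.r * (L.c w)⁻¹ = L.r * (L.r * L.c w * L.r) * (L.c w)⁻¹ := by
        rw [← mul_assoc L.r (L.r * L.c w), ← mul_assoc L.r L.r, L.rr, one_mul]
    _ = L.r * w * (L.c w * L.t) * (L.c w)⁻¹ := by rw [e]; group
    _ = _ := by rw [L.R_comm (L.c_R (L.D_le hw))]; group

/-- Commutation modulo `t` passes to a product. -/
theorem MT_comm {a b n w : G} (ha : a ∈ L.R) (hb : b ∈ L.R) (hn : n ∈ L.R) (hw : w ∈ L.R)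
    (h1 : L.MT (a * w) (w * a)) (h2 : L.MT (b * w) (w * b)) (h3 : L.MT n (a * b)) :
    L.MT (n * w) (w * n) := by
  rw [L.MT_iff (mul_mem ha hw) (mul_mem hw ha)] at h1
  rw [L.MT_iff (mul_mem hb hw) (mul_mem hw hb)] at h2
  rw [L.MT_iff hn (mul_mem ha hb)] at h3
  rw [L.MT_iff (mul_mem hn hw) (mul_mem hw hn)]
  set A : ↥L.R ⧸ L.T := ↑(⟨a, ha⟩ : ↥L.R)
  set B : ↥L.R ⧸ L.T := ↑(⟨b, hb⟩ : ↥L.R)
  set W : ↥L.R ⧸ L.T := ↑(⟨w, hw⟩ : ↥L.R)
  show ((⟨n, hn⟩ : ↥L.R) : ↥L.R ⧸ L.T) * W = W * ((⟨n, hn⟩ : ↥L.R) : ↥L.R ⧸ L.T)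
  rw [show ((⟨n, hn⟩ : ↥L.R) : ↥L.R ⧸ L.T) = A * B from h3]
  exact (show Commute A W from h1).mul_left (show Commute B W from h2)

theorem MT_symm {p q : G} (h : L.MT p q) : L.MT q p := by
  rcases h with h | h
  · exact Or.inl h.symm
  · exact Or.inr (by rw [h, mul_assoc, L.tt, mul_one])

end Loc

end CfsgLib.Recog.MTwelveAmalgam
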