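import Cfsg.Agent.Lib.Recog.MTwelveAmalgam.Natural
import Cfsg.Agent.Lib.Recog.MTwelveAmalgam.Endgame
import Cfsg.Agent.Lib.Coprime.SymplecticType
import Cfsg.Agent.Lib.Amalgam.PCore

/-!
# `|D| = 4`: the centraliser of the involution is `2^(1+4).S₃`
-/

set_option autoImplicit false
set_option linter.unusedSectionVars false

namespace CfsgLib.Recog.MTwelveAmalgam

open Subgroup
open scoped commutatorElement

universe u

namespace Loc

variable {G : Type u} [Group G] [Finite G] (L : Loc G)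

/-- Without elements of order prime to six `N` is its 2-part. -/
theorem R_eq_N (h : ∀ m, m * L.t = L.t * m → (orderOf m).Coprime 6 → m = 1) : L.R = L.N := by
  refine le_antisymm L.R_le_N fun g hg => L.mem_R.2 ⟨hg, ?_⟩
  have h2 : IsPGroup 2 L.N := by
    refine IsPGroup.of_card (n := (Nat.card L.N).primeFactorsList.length) ?_
    refine Nat.eq_prime_pow_of_unique_prime_dvd Nat.card_pos.ne' fun {p} hp hpN => ?_
    by_contra hp2
    haveI : Fact p.Prime := ⟨hp⟩
    obtain ⟨x, hx⟩ := exists_prime_orderOf_dvd_card' p hpN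
    have h6 : (orderOf (x : G)).Coprime 6 := by
      rw [Subgroup.orderOf_coe, hx, show (6 : ℕ) = 2 * 3 from rfl]
      exact Nat.Coprime.mul_right ((Nat.coprime_primes hp Nat.prime_two).2 hp2)
        ((Nat.coprime_primes hp Nat.prime_three).2 fun h3 => L.N_three (h3 ▸ hpN))
    have := h _ (L.mem_H.1 (L.N_le x.2)) h6
    rw [← Subgroup.orderOf_coe, this, orderOf_one] at hx
    exact hp.one_lt.ne hx
  obtain ⟨k, hk⟩ := IsPGroup.iff_orderOf.1 h2 ⟨g, hg⟩
  exact ⟨k, by rw [← hk, Subgroup.orderOf_mk]⟩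

/-- The 2-core of the centraliser and its quotient. -/
theorem core_quot (h : L.R = L.N) :
    L.R = (Cfsg.pCore 2 ↥L.H).map L.H.subtype ∧
      Nonempty (↥L.H ⧸ Cfsg.pCore 2 ↥L.H ≃* Equiv.Perm (Fin 3)) := by
  haveI := L.N_normal
  have hN2 : IsPGroup 2 (L.N.subgroupOf L.H) := by
    have hR := L.R_two
    rw [h] at hR
    exact hR.of_equiv (subgroupOfEquivOfLe L.N_le).symm
  have e : Cfsg.pCore 2 ↥L.H = L.N.subgroupOf L.H := by
    refine le_antisymm (L.le_N CfsgLib.Amalgam.normal_pCore fun h3 => ?_)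
      (CfsgLib.Amalgam.le_pCore L.N_normal hN2)
    obtain ⟨k, hk⟩ := IsPGroup.iff_card.1
      (CfsgLib.Amalgam.isPGroup_pCore (G := ↥L.H) (p := 2))
    rw [hk] at h3
    have := Nat.prime_three.dvd_of_dvd_pow h3
    norm_num at this
  haveI := (CfsgLib.Amalgam.normal_pCore (G := ↥L.H) (p := 2))
  obtain ⟨f⟩ := L.six.equiv_perm
  exact ⟨by rw [e, h, map_subgroupOf_eq_of_le L.N_le],
    ⟨(QuotientGroup.quotientMulEquivOfEq e).trans f⟩⟩

end Loc

namespace Cfg

variable {G : Type u} [Group G] [Finite G] (C : Cfg G)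

/-- With a fixed point of non-trivial signs there are no elements of order prime to six. -/
theorem no_odd {f h : G} (hz : C.Cz f) (hf : f ∈ C.Lt.D)
    (e1 : h * C.t * h⁻¹ = f * C.t) (e2 : h * C.τ * h⁻¹ = C.Lt.c f) {m : G}
    (hm : m * C.t = C.t * m) (h6 : (orderOf m).Coprime 6) : m = 1 := by
  classical
  set L := C.Lt
  set M : Set G := {g | g * C.t = C.t * g ∧ (orderOf g).Coprime 6}
  set M0 : Set G := {g | g ∈ M ∧ g * C.τ = C.τ * g}
  have hmap : ∀ g ∈ M, h⁻¹ * g * h ∈ M0 := by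
    rintro g ⟨hg, hg6⟩
    have hgf : g * f = f * g := L.coprime_comm hg hg6 (L.D_le hf)
    have hgq : g * L.c f = L.c f * g := L.coprime_comm hg hg6 (L.c_R (L.D_le hf))
    have hgft : g * (f * C.t) = f * C.t * g := by rw [← mul_assoc, hgf, mul_assoc, hg, mul_assoc]
    refine ⟨⟨?_, ?_⟩, ?_⟩
    · calc h⁻¹ * g * h * C.t = h⁻¹ * (g * (h * C.t * h⁻¹)) * h := by group
        _ = h⁻¹ * (h * C.t * h⁻¹ * g) * h := by rw [e1, hgft]
        _ = _ := by group
    · rwa [show h⁻¹ * g * h = MulAut.conj h⁻¹ g by simp, MulEquiv.orderOf_eq]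
    · calc h⁻¹ * g * h * C.τ = h⁻¹ * (g * (h * C.τ * h⁻¹)) * h := by group
        _ = h⁻¹ * (h * C.τ * h⁻¹ * g) * h := by rw [e2, hgq]
        _ = _ := by group
  have heq : M0 = M := by
    refine Set.eq_of_subset_of_ncard_le (fun g hg => hg.1) ?_ (Set.toFinite _)
    exact Set.ncard_le_ncard_of_injOn (fun g => h⁻¹ * g * h) hmap
      (fun a _ b _ e => mul_left_cancel (mul_right_cancel e)) (Set.toFinite _)
  have hmM : m ∈ M := ⟨hm, h6⟩
  have hXt : L.X * C.t = C.t * L.X := L.φ_comm xM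
  have hconj : L.X * m * L.X⁻¹ ∈ M := by
    refine ⟨?_, by rwa [← MulAut.conj_apply, MulEquiv.orderOf_eq]⟩
    calc L.X * m * L.X⁻¹ * C.t = L.X * m * (L.X⁻¹ * C.t) := by group
      _ = L.X * m * (C.t * L.X⁻¹) := by rw [(show Commute L.X C.t from hXt).inv_left.eq]
      _ = L.X * (m * C.t) * L.X⁻¹ := by group
      _ = L.X * C.t * m * L.X⁻¹ := by rw [hm]; group
      _ = _ := by rw [hXt]; group
  rw [← heq] at hmM hconj
  have a1 : Commute m C.τ := hmM.2
  have a2 : Commute m (L.X⁻¹ * C.τ * L.X) := by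
    show m * (L.X⁻¹ * C.τ * L.X) = L.X⁻¹ * C.τ * L.X * m
    calc m * (L.X⁻¹ * C.τ * L.X) = L.X⁻¹ * (L.X * m * L.X⁻¹ * C.τ) * L.X := by group
      _ = _ := by rw [hconj.2]; group
  have a3 : Commute m L.X := by
    have e : C.τ * (L.X⁻¹ * C.τ * L.X) = L.X * L.X := by
      have h := L.rXr
      rw [show L.r = C.τ from C.rt] at h
      have h' : C.τ * L.X⁻¹ * C.τ = L.X := by
        rw [← h, show C.τ * (C.τ * L.X * C.τ) * C.τ = C.τ * C.τ * L.X * (C.τ * C.τ) by group,
          C.ττ, one_mul, mul_one]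
      calc C.τ * (L.X⁻¹ * C.τ * L.X) = C.τ * L.X⁻¹ * C.τ * L.X := by group
        _ = _ := by rw [h']
    have h2 : Commute m (L.X * L.X) := e ▸ a1.mul_right a2
    have h4 := h2.mul_right h2
    rwa [show L.X * L.X * (L.X * L.X) = L.X * L.X * L.X * L.X by group, L.X3, one_mul] at h4
  obtain ⟨k, -, hk⟩ := L.cent_x m hm a3.eq
  have hd : orderOf m ∣ 6 := orderOf_dvd_of_pow_eq_one (by
    have hXk : (L.X ^ k) ^ 6 = 1 := by
      rw [← pow_mul, mul_comm, show 6 * k = 3 * (2 * k) by ring, pow_mul,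
        show L.X ^ 3 = 1 by rw [pow_succ, pow_two]; exact L.X3, one_pow]
    rcases hk with e | e <;> rw [e]
    · exact hXk
    · rw [((show Commute L.X C.t from hXt).pow_left k).mul_pow, hXk, one_mul,
        show (6 : ℕ) = 2 * 3 from rfl, pow_mul, pow_two, C.tt, one_pow])
  exact orderOf_eq_one_iff.1 (Nat.Coprime.eq_one_of_dvd h6 hd)

/-- Elements fixed modulo `t` when `|D| = 4`. -/
theorem fixed_four {f : G} (hf : f ∈ C.Lt.D) (hf1 : f ≠ 1) (hft : f ≠ C.t)
    (h4 : Nat.card C.Lt.D = 4) {a : G} (ha : a ∈ C.Lt.R) (h : C.Lt.MT (C.Lt.r * a * C.Lt.r) a) :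
    C.Lt.MT a 1 ∨ C.Lt.MT a f ∨ C.Lt.MT a C.u ∨ C.Lt.MT a (f * C.u) := by
  classical
  set L := C.Lt
  have hD : ∀ d ∈ L.D, L.MT d 1 ∨ L.MT d f := by
    intro d hd
    set S : Finset G := {1, C.t, f, f * C.t}
    have hS : S.card = 4 := by
      have h1 : f * C.t ≠ 1 := fun e => hft (by rw [← mul_one f, ← C.tt, ← mul_assoc, e, one_mul])
      have h2 : C.t ≠ f * C.t := fun e => hf1 (mul_eq_right.1 e.symm)
      have h3 : f ≠ f * C.t := fun e => L.t_ne_one (mul_eq_left.1 e.symm)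
      rw [Finset.card_insert_of_notMem (by simp [(Ne.symm L.t_ne_one : (1 : G) ≠ C.t), hf1.symm, h1.symm]),
        Finset.card_insert_of_notMem (by simp [hft.symm, h2]), Finset.card_pair h3]
    have hsub : (S : Set G) ⊆ L.D := by
      intro g hg
      simp only [S, Finset.coe_insert, Finset.coe_singleton, Set.mem_insert_iff,
        Set.mem_singleton_iff] at hg
      rcases hg with rfl | rfl | rfl | rfl
      exacts [one_mem _, L.t_D, hf, mul_mem hf L.t_D]
    have e : (S : Set G) = L.D := Set.eq_of_subset_of_ncard_le hsub (by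
      rw [Set.ncard_coe_finset, hS, ← h4, ← Nat.card_coe_set_eq]; rfl) (Set.toFinite _)
    have hd' : d ∈ (S : Set G) := e ▸ hd
    simp only [S, Finset.coe_insert, Finset.coe_singleton, Set.mem_insert_iff,
      Set.mem_singleton_iff] at hd'
    rcases hd' with rfl | rfl | rfl | rfl
    exacts [Or.inl (Or.inl rfl), Or.inl (Or.inr (one_mul _).symm), Or.inr (Or.inl rfl),
      Or.inr (Or.inr rfl)]
  rcases L.fixed_cases ha h with hd | ⟨d, hd, rfl⟩
  · rcases hD a hd with e | e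
    exacts [Or.inl e, Or.inr (Or.inl e)]
  · have hU : C.u * C.t = C.t * C.u := L.φ_comm uM
    right; right
    rcases hD d hd with (e | e) | (e | e) <;> rw [e]
    · exact Or.inl (Or.inl (one_mul _))
    · exact Or.inl (Or.inr (by rw [one_mul]; exact hU.symm))
    · exact Or.inr (Or.inl rfl)
    · exact Or.inr (Or.inr (by rw [mul_assoc, ← hU, ← mul_assoc]))

/-- `R` is extraspecial of order 32. -/
theorem extraspecial {f h : G} (hz : C.Cz f) (hA : C.InAll f) (hf2 : f * f = 1) (hf1 : f ≠ 1)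
    (ha : C.a f = f) (h4 : Nat.card C.Lt.D = 4) (e1 : h * C.t * h⁻¹ = f * C.t)
    (e2 : h * C.τ * h⁻¹ = C.Lt.c f) :
    Nat.card C.Lt.R = 32 ∧ Cfsg.IsExtraspecial 2 C.Lt.R := by
  classical
  haveI : Fact (Nat.Prime 2) := ⟨Nat.prime_two⟩
  set L := C.Lt
  have h32 : Nat.card L.R = 32 := by rw [L.card_R_sq, h4]
  refine ⟨h32, ?_⟩
  have hft : f ≠ C.t := fun e => C.t_not_Dτ (e ▸ hA.2.1)
  have hfR : f ∈ L.R := L.D_le hA.1
  have hUR : C.u ∈ L.R := L.U_R
  have hfU : f * C.u = C.u * f := (mul_inv_eq_iff_eq_mul.1 ha).symm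
  have hfix := fun {a : G} => C.fixed_four hA.1 hf1 hft h4 (a := a)
  have hUnc : C.u * L.c C.u ≠ L.c C.u * C.u := fun e => by
    have h1 : C.u * L.c C.u * (C.u * L.c C.u) = C.t := by
      simp only [Loc.c, Loc.X]
      rw [← map_inv, ← map_mul, ← map_mul, ← map_mul, ← map_mul, gl_facts.2.2.2.2.2.2.2.2.1,
        L.φ_neg]
    rw [show C.u * L.c C.u * (C.u * L.c C.u) = C.u * (L.c C.u * C.u) * L.c C.u by group, ← e,
      show C.u * (C.u * L.c C.u) * L.c C.u = C.u * C.u * (L.c C.u * L.c C.u) by group, ← L.c_mul,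
      show C.u * C.u = C.t from L.UU, show L.c C.t = C.t from L.c_t, C.tt] at h1
    exact L.t_ne_one h1.symm
  set π := QuotientGroup.mk' L.T
  let F : Set (↥L.R ⧸ L.T) := {z | L.β z = z}
  have hFr : ∀ z ∈ F, z = 1 ∨ z = π ⟨f, hfR⟩ ∨ z = π ⟨C.u, hUR⟩ ∨
      z = π ⟨f * C.u, mul_mem hfR hUR⟩ := by
    intro z hzF
    obtain ⟨a, rfl⟩ := QuotientGroup.mk_surjective z
    have h' : L.MT (L.r * a * L.r) a := by
      have e : L.β (a : ↥L.R ⧸ L.T) = (a : ↥L.R ⧸ L.T) := hzF
      rwa [L.β_mk, L.mk_eq_iff] at e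
    rcases hfix a.2 h' with e | e | e | e
    · exact Or.inl ((L.mk_eq_iff a 1).2 e)
    · exact Or.inr (Or.inl ((L.mk_eq_iff a ⟨f, hfR⟩).2 e))
    · exact Or.inr (Or.inr (Or.inl ((L.mk_eq_iff a ⟨C.u, hUR⟩).2 e)))
    · exact Or.inr (Or.inr (Or.inr ((L.mk_eq_iff a ⟨f * C.u, mul_mem hfR hUR⟩).2 e)))
  have hπfU : π ⟨f * C.u, mul_mem hfR hUR⟩ = π ⟨f, hfR⟩ * π ⟨C.u, hUR⟩ := rfl
  have hcomm₀ : π ⟨f, hfR⟩ * π ⟨C.u, hUR⟩ = π ⟨C.u, hUR⟩ * π ⟨f, hfR⟩ := by
    rw [← map_mul, ← map_mul]; exact congrArg π (Subtype.ext hfU)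
  have hF2 : ∀ z ∈ F, z * z = 1 := by
    have u2 : π ⟨C.u, hUR⟩ * π ⟨C.u, hUR⟩ = 1 := by
      rw [← map_mul]; exact (L.mk_eq_iff _ 1).2 (Or.inr (by
        show C.u * C.u = 1 * C.t
        rw [one_mul]; exact L.UU))
    have f2 : π ⟨f, hfR⟩ * π ⟨f, hfR⟩ = 1 := by
      rw [← map_mul]; exact (L.mk_eq_iff _ 1).2 (Or.inl hf2)
    intro z hzF
    rcases hFr z hzF with rfl | rfl | rfl | rfl
    · exact one_mul 1
    · exact f2
    · exact u2
    · rw [hπfU, (show Commute _ _ from hcomm₀.symm).mul_mul_mul_comm, f2, u2, one_mul]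
  have hFc : ∀ z ∈ F, ∀ z' ∈ F, Commute z z' := by
    have k : Commute (π ⟨f, hfR⟩) (π ⟨C.u, hUR⟩) := hcomm₀
    intro z hzF z' hzF'
    rcases hFr z hzF with rfl | rfl | rfl | rfl <;>
      rcases hFr z' hzF' with rfl | rfl | rfl | rfl <;>
      simp only [hπfU, Commute.one_left, Commute.one_right, Commute.refl, k, k.symm,
        Commute.mul_left, Commute.mul_right]
  have hgen : ∀ z : ↥L.R ⧸ L.T, ∃ a ∈ F, ∃ b ∈ F, z = a * L.α b := by
    have hp : IsPGroup 2 (↥L.R ⧸ L.T) := L.R_two.to_quotient _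
    have hle := fpf_card_le L.α L.β hp L.α3 L.α_fix L.β2 L.βα
    have hbij := (fpf_card_ge L.α L.β L.α3 L.α_fix L.βα).bijective_of_nat_card_le
      (by rw [Nat.card_prod]; exact hle)
    intro z
    obtain ⟨⟨⟨a, ha'⟩, ⟨b, hb'⟩⟩, hab⟩ := hbij.2 z
    exact ⟨a, ha', b, hb', hab.symm⟩
  have hab : ∀ z z' : ↥L.R ⧸ L.T, z * z' = z' * z := by
    intro z z'
    obtain ⟨a, ha', b, hb', rfl⟩ := hgen z
    obtain ⟨a', ha'', b', hb'', rfl⟩ := hgen z'
    have k1 : Commute (L.α b) a' := fpf_comm_pair L.α L.α3 L.α_fix (hFc b hb' a' ha'').eq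
    have k2 : Commute (L.α b') a := fpf_comm_pair L.α L.α3 L.α_fix (hFc b' hb'' a ha').eq
    have k3 : Commute (L.α b) (L.α b') := (hFc b hb' b' hb'').map L.α
    exact (((hFc a ha' a' ha'').mul_right k2.symm).mul_left (k1.mul_right k3)).eq
  have hexp : ∀ z : ↥L.R ⧸ L.T, z * z = 1 := by
    intro z
    obtain ⟨a, ha', b, hb', rfl⟩ := hgen z
    rw [(show Commute (L.α b) a from hab _ _).mul_mul_mul_comm, ← map_mul, hF2 a ha', hF2 b hb',
      map_one, one_mul]
  have hcen : center ↥L.R = L.T := by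
    refine le_antisymm (fun z hzc => ?_) fun z hzT => ?_
    · by_contra hzT
      -- a central element fixed modulo `t`
      have hzc' : ∀ n ∈ L.R, n * (z : G) = z * n := fun n hn =>
        congrArg Subtype.val (mem_center_iff.1 hzc ⟨n, hn⟩)
      have hrconj : ∀ n ∈ L.R, L.r * n * L.r ∈ L.R := fun n hn => by
        simpa only [L.r_inv] using L.R_conj (L.φ_comm tauM) hn
      have hrz : ∀ n ∈ L.R, n * (L.r * z * L.r) = L.r * z * L.r * n := fun n hn => by
        have e := hzc' _ (hrconj n hn)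
        calc n * (L.r * z * L.r) = L.r * L.r * n * (L.r * z * L.r) := by rw [L.rr, one_mul]
          _ = L.r * (L.r * n * L.r * z) * L.r := by group
          _ = L.r * z * L.r * n * (L.r * L.r) := by rw [e]; group
          _ = _ := by rw [L.rr, mul_one]
      have key : ∀ g ∈ L.R, (∀ n ∈ L.R, n * g = g * n) → L.MT (L.r * g * L.r) g →
          L.MT g 1 := by
        intro g hg hgc hgf
        have hMT : ∀ {x}, L.MT g x → ∀ n ∈ L.R, n * x = x * n := fun {x} hx n hn => by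
          rcases hx with e | e
          · rw [← e]; exact hgc n hn
          · have ex : x = g * C.t := by rw [e, mul_assoc, C.tt, mul_one]
            rw [ex, ← mul_assoc, hgc n hn, mul_assoc, L.R_comm hn, mul_assoc]
        rcases hfix hg hgf with e | e | e | e
        · exact e
        · exfalso
          have hfc := hMT e
          have hqc : ∀ n ∈ L.R, n * L.c f = L.c f * n := fun n hn => by
            have h' := congrArg L.c (hfc _ (L.c_R (L.c_R hn)))
            rwa [L.c_mul, L.c_mul, L.ccc] at h'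
          have hb := L.pair_bound e1 (by rw [C.rt]; exact e2) L.R L.R_two fun n hn => ⟨by
            rw [← mul_assoc, hfc n hn, mul_assoc, L.R_comm hn, mul_assoc], hqc n hn⟩
          rw [h32, h4] at hb
          omega
        · exact (hUnc (hMT e _ (L.c_R hUR)).symm).elim
        · exfalso
          -- `f = (f u) u⁻¹`
          have hwc := hMT e
          set w := f * C.u with hw
          have hwR : w ∈ L.R := mul_mem hfR hUR
          have hcw : ∀ n ∈ L.R, n * L.c w = L.c w * n := fun n hn => by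
            have h' := congrArg L.c (hwc _ (L.c_R (L.c_R hn)))
            rwa [L.c_mul (L.c (L.c n)) w, L.c_mul w, L.ccc] at h'
          have hfw : f = w * C.u⁻¹ := by rw [hw, mul_inv_cancel_right]
          have hcm : Commute f (L.c f) := ((L.eps hfR hf2).1).symm
          have k1 : Commute w f := (hwc f hfR).symm
          have k2 : Commute w (L.c f) := (hwc _ (L.c_R hfR)).symm
          have k3 : Commute C.u (L.c f) := by
            have : C.u = f⁻¹ * w := by rw [hw, inv_mul_cancel_left]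
            rw [this]
            exact hcm.inv_left.mul_left k2
          have k4 : Commute (L.c w) C.u := (hcw C.u hUR).symm
          have k5 : L.c C.u = (L.c f)⁻¹ * L.c w := by
            rw [hw, L.c_mul, inv_mul_cancel_left]
          exact hUnc (by rw [k5]; exact (k3.inv_right.mul_right k4.symm).eq)
      have hsq : L.MT ((z : G) * z) 1 :=
        (L.mk_eq_iff (z * z) 1).1 (hexp (z : ↥L.R ⧸ L.T))
      have hz1 : ¬ L.MT (z : G) 1 := fun e => hzT ((QuotientGroup.eq_one_iff z).1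
        ((L.mk_eq_iff z 1).2 e))
      have hzz' : L.MT (z * (L.r * z * L.r)) 1 := key _ (mul_mem z.2 (hrconj _ z.2))
        (fun n hn => ((show Commute n (z : G) from hzc' n hn).mul_right
          (show Commute n (L.r * z * L.r) from hrz n hn)).eq) (Or.inl (by
        calc L.r * ((z : G) * (L.r * z * L.r)) * L.r
            = L.r * z * L.r * z * (L.r * L.r) := by group
          _ = _ := by rw [L.rr, mul_one, hzc' _ (hrconj _ z.2)]))
      have hzf : L.MT (L.r * z * L.r) (z : G) := by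
        rw [L.MT_iff (hrconj _ z.2) z.2]
        have k1 := (L.MT_iff (mul_mem z.2 (hrconj _ z.2)) (one_mem _)).1 hzz'
        have k2 := hexp (z : ↥L.R ⧸ L.T)
        have k1' : (z : ↥L.R ⧸ L.T) * ((⟨L.r * z * L.r, hrconj _ z.2⟩ : ↥L.R) : ↥L.R ⧸ L.T) = 1 := k1
        exact mul_left_cancel (k1'.trans k2.symm)
      exact hz1 (key _ z.2 hzc' hzf)
    · refine mem_center_iff.2 fun n => Subtype.ext ?_
      rcases L.mem_zpowers_t.1 (mem_subgroupOf.1 hzT) with e | e <;>
        simp only [Subgroup.coe_mul, e]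
      · simp
      · exact L.R_comm n.2
  refine CfsgLib.Coprime.isExtraspecial_of_central L.R_two L.T L.card_T hcen (fun x y => ?_)
    (fun x => ?_) fun e => ?_
  · rw [← QuotientGroup.eq_one_iff]
    show QuotientGroup.mk' L.T ⁅x, y⁆ = 1
    rw [map_commutatorElement, commutatorElement_eq_one_iff_mul_comm]
    exact hab _ _
  · rw [← QuotientGroup.eq_one_iff, pow_two]
    exact hexp (x : ↥L.R ⧸ L.T)
  · have h2 := L.card_T
    rw [e, Nat.card_congr Subgroup.topEquiv.toEquiv, h32] at h2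
    omega

/-- **The case `|D| ≥ 4`.** -/
theorem m12_of_four (h4 : 4 ≤ Nat.card C.Lt.D) : Cfsg.Spor.IsoM12 G := by
  obtain ⟨f, hz, hf2, hf1, ha, -, hA, hx, hy, hd⟩ := C.exists_fixed h4
  obtain ⟨h, e1, e2⟩ := C.pair_one hA hf2 hy hx
  set L := C.Lt
  have hN := L.R_eq_N fun m hm h6 => C.no_odd hz hA.1 e1 e2 hm h6
  obtain ⟨hcore, ⟨e⟩⟩ := L.core_quot hN
  obtain ⟨h32, hex⟩ := C.extraspecial hz hA hf2 hf1 ha hd e1 e2
  refine L.m12 L.R hcore hex h32 e (fun r hr hc => L.fix hr (Or.inl ?_))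
    ⟨h, e1 ▸ mul_mem (L.D_le hA.1) L.t_R, ?_⟩
  · show L.X * r * L.X⁻¹ = r
    rw [← hc, mul_inv_cancel_right]
  · rw [e1]
    exact fun h' => hf1 (mul_eq_right.1 h')

end Cfg

end CfsgLib.Recog.MTwelveAmalgam
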