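import Mathlib.GroupTheory.PGroup
import Mathlib.SetTheory.Cardinal.Finite
import Mathlib.Tactic

/-!
Automorphisms `a` of order three without fixed points, and an involution `b` inverting them:
`g`, `a g` commute, `g · a g · a² g = 1`, and `|X| = |C_X(b)|²` for a 2-group `X`.
-/

set_option autoImplicit false

namespace CfsgLib.Recog.MTwelveAmalgam

universe u

variable {X : Type u} [Group X] [Finite X] (a : MulAut X)

theorem fpf_rel (h3 : ∀ g, a (a (a g)) = g) (hfix : ∀ g, a g = g → g = 1) (g : X) :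
    g * a g * a (a g) = 1 := by
  have hinj : Function.Injective fun h : X => h⁻¹ * a h := by
    intro p q h
    simp only at h
    have : a (p * q⁻¹) = p * q⁻¹ := by
      rw [map_mul, map_inv]
      calc a p * (a q)⁻¹ = p * (p⁻¹ * a p) * (a q)⁻¹ := by group
        _ = p * (q⁻¹ * a q) * (a q)⁻¹ := by rw [h]
        _ = p * q⁻¹ := by group
    exact mul_inv_eq_one.1 (hfix _ this)
  obtain ⟨h, rfl⟩ := (Finite.injective_iff_surjective.1 hinj) g
  simp only [map_mul, map_inv, h3]
  group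

theorem fpf_comm (h3 : ∀ g, a (a (a g)) = g) (hfix : ∀ g, a g = g → g = 1) (g : X) :
    g * a g = a g * g := by
  have e1 : a (a g) = (g * a g)⁻¹ := eq_inv_of_mul_eq_one_right (fpf_rel a h3 hfix g)
  have e2 := fpf_rel a h3 hfix g⁻¹
  rw [map_inv, map_inv, mul_inv_eq_one] at e2
  rw [← inv_inj, ← e1, ← e2]
  group

theorem fpf_comm_pair (h3 : ∀ g, a (a (a g)) = g) (hfix : ∀ g, a g = g → g = 1) {g k : X}
    (hgk : g * k = k * g) : a g * k = k * a g := by
  have r := fpf_rel a h3 hfix (g * k)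
  rw [map_mul, map_mul] at r
  have eg : a (a g) = (g * a g)⁻¹ := eq_inv_of_mul_eq_one_right (fpf_rel a h3 hfix g)
  have ek : a (a k) = (k * a k)⁻¹ := eq_inv_of_mul_eq_one_right (fpf_rel a h3 hfix k)
  rw [eg, ek] at r
  have e : g * a g * a k = a k * (g * a g) := by
    have r' : g * k * (a g * a k) = k * a k * (g * a g) :=
      calc g * k * (a g * a k) = g * k * (a g * a k) * ((g * a g)⁻¹ * (k * a k)⁻¹) *
            (k * a k * (g * a g)) := by group
        _ = _ := by rw [r, one_mul]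
    rw [hgk] at r'
    calc g * a g * a k = k⁻¹ * (k * g * (a g * a k)) := by group
      _ = k⁻¹ * (k * a k * (g * a g)) := by rw [r']
      _ = _ := by group
  have e' : a (a g) * a k = a k * a (a g) := by
    rw [eg]
    exact (Commute.inv_left (show Commute (g * a g) (a k) from e)).eq
  have := congrArg (fun p => a (a p)) e'
  simpa only [map_mul, h3] using this

variable (b : MulAut X)

theorem fpf_card_ge (h3 : ∀ g, a (a (a g)) = g) (hfix : ∀ g, a g = g → g = 1)
    (hab : ∀ g, b (a g) = a (a (b g))) :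
    Function.Injective fun p : {c : X // b c = c} × {c : X // b c = c} => (p.1 : X) * a p.2 := by
  rintro ⟨⟨p, hp⟩, ⟨q, hq⟩⟩ ⟨⟨p', hp'⟩, ⟨q', hq'⟩⟩ e
  simp only at e
  have hk : p'⁻¹ * p = a (q' * q⁻¹) := by
    rw [map_mul, map_inv]
    calc p'⁻¹ * p = p'⁻¹ * (p * a q) * (a q)⁻¹ := by group
      _ = a q' * (a q)⁻¹ := by rw [e]; group
  have hc : b (q' * q⁻¹) = q' * q⁻¹ := by rw [map_mul, map_inv, hq, hq']
  have h1 : a (a (q' * q⁻¹)) = a (q' * q⁻¹) := by
    conv_rhs => rw [← hk]
    have := congrArg b hk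
    rw [map_mul, map_inv, hp, hp', hab, hc] at this
    exact this.symm
  have h2 : q' * q⁻¹ = 1 := a.injective (by rw [hfix _ h1, map_one])
  have hq0 : q' = q := mul_inv_eq_one.1 h2
  subst hq0
  have hp0 : p = p' := mul_right_cancel e
  subst hp0
  rfl

theorem fpf_card_le_of_coprime (hcop : (Nat.card X).Coprime 3) (h3 : ∀ g, a (a (a g)) = g)
    (hfix : ∀ g, a g = g → g = 1) (hb : ∀ g, b (b g) = g) (hab : ∀ g, b (a g) = a (a (b g))) :
    Nat.card X ≤ Nat.card {c : X // b c = c} * Nat.card {c : X // b c = c} := by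
  classical
  let s : X → X := fun k => if h : ∃ g, g⁻¹ * b g = k then h.choose else 1
  have hs : ∀ g : X, (s (g⁻¹ * b g))⁻¹ * b (s (g⁻¹ * b g)) = g⁻¹ * b g := fun g => by
    have h : ∃ g', g'⁻¹ * b g' = g⁻¹ * b g := ⟨g, rfl⟩
    simp only [s, dif_pos h]
    exact h.choose_spec
  let F : X → {c : X // b c = c} × {k : X // b k = k⁻¹} := fun g =>
    (⟨g * (s (g⁻¹ * b g))⁻¹, by
      have h := hs g
      generalize s (g⁻¹ * b g) = r at h ⊢
      rw [map_mul, map_inv]
      calc b g * (b r)⁻¹ = g * (g⁻¹ * b g) * (r⁻¹ * b r)⁻¹ * r⁻¹ := by group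
        _ = g * r⁻¹ := by rw [h]; group⟩,
    ⟨g⁻¹ * b g, by rw [map_mul, map_inv, hb]; group⟩)
  have hF : Function.Injective F := by
    intro g g' h
    have h2 : g⁻¹ * b g = g'⁻¹ * b g' := congrArg Subtype.val (congrArg Prod.snd h)
    have h1 : g * (s (g⁻¹ * b g))⁻¹ = g' * (s (g'⁻¹ * b g'))⁻¹ :=
      congrArg Subtype.val (congrArg Prod.fst h)
    rw [h2] at h1
    exact mul_right_cancel h1
  have hc : ∀ k : X, a k * a (a k) = a (a k) * a k := fun k => fpf_comm a h3 hfix (a k)
  let A : {k : X // b k = k⁻¹} → {c : X // b c = c} := fun k =>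
    ⟨a k * (a (a k))⁻¹, by
      have h4 : ∀ g, b (a (a g)) = a (b g) := fun g => by rw [hab, hab, h3]
      simp only [map_mul, map_inv, hab, h4, k.2, h3, inv_inv]
      exact (Commute.inv_left (show Commute (a (a (k : X))) (a k) from (hc k).symm)).eq⟩
  have hA : Function.Injective A := by
    rintro ⟨k, hk⟩ ⟨l, hl⟩ h
    have h' : a k * (a (a k))⁻¹ = a l * (a (a l))⁻¹ := congrArg Subtype.val h
    have key : ∀ k : X, a k * (a (a k))⁻¹ * (a (a (a k * (a (a k))⁻¹))) ^ 2 = k ^ 3 := by
      intro k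
      have e1 : Commute k (a k) := fpf_comm a h3 hfix k
      have e2 : a (a k) = k⁻¹ * (a k)⁻¹ := by
        rw [eq_inv_of_mul_eq_one_right (fpf_rel a h3 hfix k), e1.eq, mul_inv_rev]
      simp only [map_mul, map_inv, h3]
      rw [e2]
      have c1 : Commute k⁻¹ (a k)⁻¹ := e1.inv_left.inv_right
      simp only [mul_inv_rev, inv_inv, pow_two, pow_three]
      calc a k * (a k * k) * (k * (a k)⁻¹ * (k * (a k)⁻¹))
          = a k * a k * (k * k) * (a k)⁻¹ * k * (a k)⁻¹ := by group
        _ = _ := by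
          have f1 : k * k * (a k)⁻¹ = (a k)⁻¹ * (k * k) :=
            (e1.inv_right.mul_left e1.inv_right).eq
          have f2 : k * k * k * (a k)⁻¹ = (a k)⁻¹ * (k * k * k) :=
            ((e1.inv_right.mul_left e1.inv_right).mul_left e1.inv_right).eq
          rw [mul_assoc (a k * a k), f1]
          calc a k * a k * ((a k)⁻¹ * (k * k)) * k * (a k)⁻¹
              = a k * (k * k * k * (a k)⁻¹) := by group
            _ = k * (k * k) := by rw [f2]; group
    have e3 : k ^ 3 = l ^ 3 := by rw [← key k, ← key l, h']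
    exact Subtype.ext ((powCoprime hcop).injective e3)
  refine le_trans (Nat.card_le_card_of_injective F hF) ?_
  rw [Nat.card_prod]
  exact Nat.mul_le_mul_left _ (Nat.card_le_card_of_injective A hA)

theorem fpf_card_le (hX : IsPGroup 2 X) (h3 : ∀ g, a (a (a g)) = g)
    (hfix : ∀ g, a g = g → g = 1) (hb : ∀ g, b (b g) = g) (hab : ∀ g, b (a g) = a (a (b g))) :
    Nat.card X ≤ Nat.card {c : X // b c = c} * Nat.card {c : X // b c = c} :=
  fpf_card_le_of_coprime a b (by
    haveI : Fact (Nat.Prime 2) := ⟨Nat.prime_two⟩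
    obtain ⟨n, hn⟩ := IsPGroup.iff_card.1 hX
    rw [hn]; exact Nat.Coprime.pow_left _ (by norm_num)) h3 hfix hb hab

end CfsgLib.Recog.MTwelveAmalgam
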