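import Cfsg.Agent.Lib.Recog.MTwelveAmalgam.Shape
import Cfsg.Agent.Lib.Char.CNStructure

/-!
# The 2-radical `R` of the involution centraliser

`R` is the Sylow 2-subgroup of the nilpotent normal subgroup of index 6: elements of order prime to 6
centralise it and every involution of `H` outside it is conjugate to the reflection.
-/

set_option autoImplicit false
set_option linter.unusedSectionVars false

namespace CfsgLib.Recog.MTwelveAmalgam

open Subgroup

universe u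

namespace Loc

variable {G : Type u} [Group G] [Finite G] (L : Loc G)

/-- The element of order three. -/
abbrev X : G := L.φ xM

/-- The reflection. -/
abbrev r : G := L.φ tauM

/-- The element of order four. -/
abbrev U : G := L.φ uM

theorem X3 : L.X * L.X * L.X = 1 := by
  rw [← map_mul, ← map_mul, gl_facts.1, map_one]

theorem X_ne : L.X ≠ 1 := fun h => gl_facts.2.1 (L.φ_inj (h.trans (map_one L.φ).symm))

theorem rr : L.r * L.r = 1 := by rw [← map_mul, gl_facts.2.2.1, map_one]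

theorem r_ne : L.r ≠ 1 := fun h => gl_facts.2.2.2.1 (L.φ_inj (h.trans (map_one L.φ).symm))

theorem r_ne_t : L.r ≠ L.t := fun h => gl_facts.2.2.2.2.1 (L.φ_inj (h.trans L.φ_neg.symm))

theorem r_inv : L.r⁻¹ = L.r := inv_eq_of_mul_eq_one_right L.rr

theorem rXr : L.r * L.X * L.r = L.X⁻¹ := by
  rw [← map_mul, ← map_mul, gl_facts.2.2.2.2.2.1, map_mul]
  exact (inv_eq_of_mul_eq_one_right (by rw [← mul_assoc]; exact L.X3)).symm

theorem UU : L.U * L.U = L.t := by rw [← map_mul, gl_facts.2.2.2.2.2.2.1, L.φ_neg]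

theorem rUr : L.r * L.U * L.r = L.U * L.t := by
  rw [← map_mul, ← map_mul, gl_facts.2.2.2.2.2.2.2.1, map_mul, L.φ_neg]

theorem φ_comm (g : GL (Fin 2) (ZMod 3)) : L.φ g * L.t = L.t * L.φ g := L.mem_H.1 (L.φ_mem g)

theorem t_conj {g : G} (hg : g * L.t = L.t * g) : g * L.t * g⁻¹ = L.t := by
  rw [hg, mul_inv_cancel_right]

/-- The normal nilpotent subgroup of index 6. -/
noncomputable def N : Subgroup G := L.shape.choose

theorem N_le : L.N ≤ L.H := L.shape.choose_spec.1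
theorem N_normal : (L.N.subgroupOf L.H).Normal := L.shape.choose_spec.2.1
theorem N_nil : Group.IsNilpotent L.N := L.shape.choose_spec.2.2.1
theorem N_three : ¬ 3 ∣ Nat.card L.N := L.shape.choose_spec.2.2.2.1
theorem N_index : L.N.relIndex L.H = 6 := L.shape.choose_spec.2.2.2.2.1
theorem t_N : L.t ∈ L.N := L.shape.choose_spec.2.2.2.2.2.1
theorem U_N : L.U ∈ L.N := L.shape.choose_spec.2.2.2.2.2.2.1
theorem r_N : L.r ∉ L.N := L.shape.choose_spec.2.2.2.2.2.2.2.2.1
theorem X_N : L.X ∉ L.N := L.shape.choose_spec.2.2.2.2.2.2.2.2.2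

theorem N_conj {g n : G} (hg : g * L.t = L.t * g) (hn : n ∈ L.N) : g * n * g⁻¹ ∈ L.N :=
  L.N_normal.conj_mem ⟨n, L.N_le hn⟩ hn ⟨g, L.mem_H.2 hg⟩

theorem pow_six {g : G} (hg : g * L.t = L.t * g) : g ^ 6 ∈ L.N := by
  haveI := L.N_normal
  have h := Subgroup.pow_index_mem (L.N.subgroupOf L.H) (⟨g, L.mem_H.2 hg⟩ : ↥L.H)
  rwa [show (L.N.subgroupOf L.H).index = 6 from L.N_index] at h

theorem mem_N_of_coprime {g : G} (hg : g * L.t = L.t * g) (h6 : (orderOf g).Coprime 6) :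
    g ∈ L.N :=
  CfsgLib.Char.mem_of_pow_mem_of_coprime h6 (by rw [pow_orderOf_eq_one]; exact one_mem _)
    (L.pow_six hg)

instance : Fact (Nat.Prime 2) := ⟨Nat.prime_two⟩

/-- The Sylow 2-subgroup of `N`. -/
noncomputable def R : Subgroup G := ((default : Sylow 2 ↥L.N) : Subgroup ↥L.N).map L.N.subtype

theorem R_le_N : L.R ≤ L.N := Subgroup.map_subtype_le _

theorem R_two : IsPGroup 2 ↥L.R := (default : Sylow 2 ↥L.N).isPGroup'.map _

theorem mem_R {g : G} : g ∈ L.R ↔ g ∈ L.N ∧ ∃ k, orderOf g = 2 ^ k := by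
  refine ⟨fun h => ⟨L.R_le_N h, ?_⟩, fun ⟨hN, k, hk⟩ => ?_⟩
  · obtain ⟨k, hk⟩ := IsPGroup.iff_orderOf.1 L.R_two ⟨g, h⟩
    exact ⟨k, by rw [← hk, Subgroup.orderOf_mk]⟩
  · haveI := L.N_nil
    set P := (default : Sylow 2 ↥L.N) with hP
    haveI : (P : Subgroup ↥L.N).Normal :=
      Sylow.normal_of_normalizerCondition Group.normalizerCondition_of_isNilpotent P
    have hz : IsPGroup 2 (zpowers (⟨g, hN⟩ : ↥L.N)) :=
      IsPGroup.of_card (n := k) (by rw [Nat.card_zpowers, Subgroup.orderOf_mk, hk])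
    obtain ⟨Q, hQ⟩ := hz.exists_le_sylow
    have e : Q = P := by
      obtain ⟨c, hc⟩ := MulAction.exists_smul_eq ↥L.N P Q
      rw [← hc]
      exact Sylow.smul_eq_of_normal
    refine ⟨⟨g, hN⟩, ?_, rfl⟩
    have := hQ (mem_zpowers (⟨g, hN⟩ : ↥L.N))
    rw [e] at this
    exact this

theorem R_comm {g : G} (hg : g ∈ L.R) : g * L.t = L.t * g := L.mem_H.1 (L.N_le (L.R_le_N hg))

theorem R_conj {g n : G} (hg : g * L.t = L.t * g) (hn : n ∈ L.R) : g * n * g⁻¹ ∈ L.R := by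
  obtain ⟨hN, k, hk⟩ := L.mem_R.1 hn
  exact L.mem_R.2 ⟨L.N_conj hg hN, k, by rw [← MulAut.conj_apply, MulEquiv.orderOf_eq, hk]⟩

theorem t_R : L.t ∈ L.R := L.mem_R.2 ⟨L.t_N, 1, by rw [L.orderOf_t]; rfl⟩

theorem U_R : L.U ∈ L.R := by
  refine L.mem_R.2 ⟨L.U_N, ?_⟩
  obtain ⟨k, -, hk⟩ := (Nat.dvd_prime_pow Nat.prime_two).1 (orderOf_dvd_of_pow_eq_one
    (show L.U ^ 2 ^ 2 = 1 by
      rw [show (2 : ℕ) ^ 2 = 2 * 2 from rfl, pow_mul, pow_two, pow_two, L.UU, L.tt]))
  exact ⟨k, hk⟩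

theorem r_not_R : L.r ∉ L.R := fun h => L.r_N (L.R_le_N h)

/-- Elements of order prime to 6 centralise `R`. -/
theorem coprime_comm {g n : G} (hg : g * L.t = L.t * g) (h6 : (orderOf g).Coprime 6)
    (hn : n ∈ L.R) : g * n = n * g := by
  obtain ⟨hN, k, hk⟩ := L.mem_R.1 hn
  refine CfsgLib.Char.commute_of_isNilpotent_subgroup L.N_nil (L.mem_N_of_coprime hg h6) hN ?_
  rw [hk]
  exact Nat.Coprime.pow_right _ (h6.coprime_dvd_right (by norm_num))

/-- A 2-element centralising the reflection. -/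
theorem two_r {g : G} (hg : g * L.t = L.t * g) (hgr : g * L.r = L.r * g)
    (h2 : ∃ k, orderOf g = 2 ^ k) : g ∈ L.R ∨ g * L.r ∈ L.R := by
  classical
  obtain ⟨k, hk⟩ := h2
  have hr2 : orderOf L.r ∣ 2 ^ 1 := orderOf_dvd_of_pow_eq_one (by rw [pow_one, pow_two, L.rr])
  have hgr2 : ∃ j, orderOf (g * L.r) = 2 ^ j := by
    have := (show Commute g L.r from hgr).orderOf_mul_dvd_mul_orderOf
    obtain ⟨j, -, hj⟩ := (Nat.dvd_prime_pow Nat.prime_two).1
      (this.trans (by rw [hk, pow_add]; exact Nat.mul_dvd_mul_left _ hr2) :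
        orderOf (g * L.r) ∣ 2 ^ (k + 1))
    exact ⟨j, hj⟩
  haveI := L.N_normal
  set q := QuotientGroup.mk' (L.N.subgroupOf L.H)
  have hgrH : (g * L.r) * L.t = L.t * (g * L.r) := by
    rw [mul_assoc, L.φ_comm, ← mul_assoc, hg, mul_assoc]
  set a := q ⟨g, L.mem_H.2 hg⟩ with ha
  set b := q ⟨L.r, L.φ_mem _⟩ with hb
  by_contra hcon
  push Not at hcon
  have ha1 : a ≠ 1 := fun h => hcon.1 (L.mem_R.2 ⟨(QuotientGroup.eq_one_iff (⟨g, L.mem_H.2 hg⟩ : ↥L.H)).1 h, k, hk⟩)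
  have hb1 : b ≠ 1 := fun h => L.r_N ((QuotientGroup.eq_one_iff (⟨L.r, L.φ_mem _⟩ : ↥L.H)).1 h)
  have hab1 : a * b ≠ 1 := fun h => hcon.2 (L.mem_R.2 ⟨(QuotientGroup.eq_one_iff
    (⟨g * L.r, L.mem_H.2 hgrH⟩ : ↥L.H)).1 (by rw [← h, ha, hb, ← map_mul]; rfl), hgr2⟩)
  have h6 : Nat.card (↥L.H ⧸ L.N.subgroupOf L.H) = 6 := L.N_index
  have ha2 : a * a = 1 := by
    have h := orderOf_dvd_natCard a
    have h' : orderOf a ∣ 2 ^ k := by
      rw [← hk, ← Subgroup.orderOf_mk g (L.mem_H.2 hg)]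
      exact orderOf_map_dvd q _
    rw [h6] at h
    have : orderOf a ∣ 2 := by
      have := Nat.dvd_gcd h h'
      refine this.trans ?_
      rcases k with _ | k
      · simp
      · rw [pow_succ', show (6 : ℕ) = 2 * 3 from rfl, Nat.gcd_mul_left,
          Nat.Coprime.gcd_eq_one (Nat.Coprime.pow_right _ (by norm_num)), mul_one]
    rw [← pow_two, ← orderOf_dvd_iff_pow_eq_one]; exact this
  have hb2 : b * b = 1 := by
    rw [hb, ← map_mul]
    exact (congrArg q (Subtype.ext L.rr)).trans (map_one q)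
  have hab : a * b = b * a := by
    rw [ha, hb, ← map_mul, ← map_mul]; exact congrArg q (Subtype.ext hgr)
  let K : Subgroup (↥L.H ⧸ L.N.subgroupOf L.H) :=
    { carrier := {1, a, b, a * b}
      one_mem' := Or.inl rfl
      mul_mem' := by
        have e1 : a * (a * b) = b := by rw [← mul_assoc, ha2, one_mul]
        have e2 : a * b * a = b := by rw [hab, mul_assoc, ha2, mul_one]
        have e3 : b * (a * b) = a := by rw [hab, ← mul_assoc, hb2, one_mul]
        have e4 : a * b * b = a := by rw [mul_assoc, hb2, mul_one]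
        have e5 : a * b * (a * b) = 1 := by rw [← mul_assoc, e2, hb2]
        intro p p' hp hp'
        simp only [Set.mem_insert_iff, Set.mem_singleton_iff] at hp hp' ⊢
        rcases hp with rfl | rfl | rfl | rfl <;> rcases hp' with rfl | rfl | rfl | rfl <;>
          simp [ha2, hb2, ← hab, e1, e2, e3, e4, e5]
      inv_mem' := by
        intro p hp
        simp only [Set.mem_insert_iff, Set.mem_singleton_iff] at hp ⊢
        rcases hp with rfl | rfl | rfl | rfl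
        · simp
        · exact Or.inr (Or.inl (inv_eq_of_mul_eq_one_right ha2))
        · exact Or.inr (Or.inr (Or.inl (inv_eq_of_mul_eq_one_right hb2)))
        · exact Or.inr (Or.inr (Or.inr (inv_eq_of_mul_eq_one_right (by
            rw [← mul_assoc, hab, mul_assoc b, ha2, mul_one, hb2])))) }
  have hK : Nat.card K = 4 := by
    have e : (K : Set (↥L.H ⧸ L.N.subgroupOf L.H)) = {1, a, b, a * b} := rfl
    rw [← SetLike.coe_sort_coe, Nat.card_coe_set_eq, e]
    have n1 : a ≠ b := fun h => hab1 (by rw [h, hb2])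
    have n2 : a ≠ a * b := fun h => hb1 (mul_eq_left.1 h.symm)
    have n3 : b ≠ a * b := fun h => ha1 (mul_eq_right.1 h.symm)
    rw [Set.ncard_insert_of_notMem (by simp [ha1.symm, hb1.symm, hab1.symm]) (Set.toFinite _),
      Set.ncard_insert_of_notMem (by simp [n1, n2]) (Set.toFinite _), Set.ncard_pair n3]
  have := K.card_subgroup_dvd_card
  rw [hK, h6] at this
  norm_num at this

theorem X_order : orderOf L.X = 3 :=
  orderOf_eq_prime (by rw [pow_succ, pow_two]; exact L.X3) L.X_ne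

theorem not_nine_dvd_H : ¬ 3 ^ 2 ∣ Nat.card L.H := by
  haveI := L.N_normal
  have h1 := (L.N.subgroupOf L.H).card_mul_index
  rw [show (L.N.subgroupOf L.H).index = 6 from L.N_index,
    Nat.card_congr (subgroupOfEquivOfLe L.N_le).toEquiv] at h1
  rw [← h1]
  have := L.N_three
  omega

/-- Every involution of `H` outside `R` is a conjugate of the reflection. -/
theorem outside {s : G} (hs : s * L.t = L.t * s) (hs2 : s * s = 1) (hsR : s ∉ L.R) :
    ∃ h : G, h * L.t = L.t * h ∧ h * L.r * h⁻¹ = s := by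
  classical
  haveI : Fact (Nat.Prime 3) := ⟨Nat.prime_three⟩
  haveI := L.N_normal
  set q := QuotientGroup.mk' (L.N.subgroupOf L.H)
  set σ : ↥L.H := ⟨s, L.mem_H.2 hs⟩
  set x : ↥L.H := ⟨L.X, L.φ_mem _⟩
  set τ : ↥L.H := ⟨L.r, L.φ_mem _⟩
  have hσ2 : σ * σ = 1 := Subtype.ext hs2
  have hσN : q σ ≠ 1 := fun h => hsR (L.mem_R.2 ⟨(QuotientGroup.eq_one_iff σ).1 h, by
    obtain ⟨j, -, hj⟩ := (Nat.dvd_prime_pow Nat.prime_two).1
      (orderOf_dvd_of_pow_eq_one (show s ^ 2 ^ 1 = 1 by rw [pow_one, pow_two, hs2]))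
    exact ⟨j, hj⟩⟩)
  have h6 : Nat.card (↥L.H ⧸ L.N.subgroupOf L.H) = 6 := L.N_index
  have hx3 : orderOf (q x) = 3 := orderOf_eq_prime (by
      rw [← map_pow, pow_succ, pow_two]; exact (congrArg q (Subtype.ext L.X3)).trans (map_one q))
    fun h => L.X_N ((QuotientGroup.eq_one_iff x).1 h)
  set P := σ * x * σ⁻¹ * x⁻¹ with hP
  have hP3 : 3 ∣ orderOf P := by
    refine dvd_trans ?_ (orderOf_map_dvd q P)
    set b := q σ; set c := q x; set e := q τ
    have hb2 : b * b = 1 := by rw [← map_mul, hσ2, map_one]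
    have he : e * c * e = c⁻¹ := by
      rw [← map_mul, ← map_mul, ← map_inv]; exact congrArg q (Subtype.ext L.rXr)
    have he2 : e * e = 1 := by rw [← map_mul]; exact (congrArg q (Subtype.ext L.rr)).trans (map_one q)
    have hcne : c ≠ 1 := fun h => by rw [h, orderOf_one] at hx3; norm_num at hx3
    have hgen : ∀ p, p ∈ zpowers c ∨ e * p ∈ zpowers c := by
      have hi : (zpowers c).index = 2 := by
        have h1 := (zpowers c).card_mul_index
        rw [Nat.card_zpowers, hx3, h6] at h1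
        omega
      have hen : e ∉ zpowers c := fun h => by
        obtain ⟨k, hk⟩ := mem_zpowers_iff.1 h
        have h1 : e * c * e = c := by
          rw [← hk, (Commute.refl c).zpow_left k |>.eq, mul_assoc, hk, he2, mul_one]
        rw [he] at h1
        have h2 : orderOf c ∣ 2 := orderOf_dvd_of_pow_eq_one (by
          rw [pow_two]; exact inv_eq_iff_mul_eq_one.1 h1)
        rw [hx3] at h2
        norm_num at h2
      intro p
      by_cases h : p ∈ zpowers c
      · exact Or.inl h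
      · exact Or.inr ((Subgroup.mul_mem_iff_of_index_two hi).2 (iff_of_false hen h))
    have hbc : b ∉ zpowers c := fun h => by
      have h2 : orderOf b ∣ 3 := hx3 ▸ orderOf_dvd_of_mem_zpowers h
      have h3 : orderOf b ∣ 2 := orderOf_dvd_of_pow_eq_one (by rw [pow_two, hb2])
      exact hσN (orderOf_eq_one_iff.1 (Nat.eq_one_of_dvd_coprimes (by norm_num) h2 h3))
    obtain ⟨k, hk⟩ := mem_zpowers_iff.1 ((hgen b).resolve_left hbc)
    have hbe : b = e * c ^ k := by rw [hk, ← mul_assoc, he2, one_mul]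
    have hqP : q P = c⁻¹ * c⁻¹ := by
      rw [hP, map_mul, map_mul, map_mul, map_inv, map_inv, show q σ = b from rfl,
        show q x = c from rfl, hbe, mul_inv_rev, inv_eq_of_mul_eq_one_right he2]
      calc e * c ^ k * c * ((c ^ k)⁻¹ * e) * c⁻¹ = e * c * e * c⁻¹ := by
            rw [mul_assoc e, ((Commute.refl c).zpow_left k).eq]; group
        _ = _ := by rw [he]
    rw [hqP, ← mul_inv_rev, orderOf_inv, ← pow_two, Nat.Coprime.orderOf_pow (by rw [hx3]; norm_num),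
      hx3]
  set m := orderOf P / 3 with hm
  have ho : orderOf (P ^ m) = 3 := orderOf_pow_orderOf_div (orderOf_pos P).ne' hP3
  have hinvP : σ * P * σ⁻¹ = P⁻¹ := by
    have hσi : σ⁻¹ = σ := inv_eq_of_mul_eq_one_right hσ2
    rw [hP, hσi]
    calc σ * (σ * x * σ * x⁻¹) * σ = σ * σ * x * σ * x⁻¹ * σ := by group
      _ = x * σ * x⁻¹ * σ := by rw [hσ2, one_mul]
      _ = _ := by
        rw [mul_inv_rev, mul_inv_rev, mul_inv_rev, inv_inv, hσi]
        group
  have hinvR : σ * P ^ m * σ⁻¹ = (P ^ m)⁻¹ := by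
    rw [← MulAut.conj_apply, map_pow, MulAut.conj_apply, hinvP, inv_pow]
  set S : Subgroup ↥L.H := zpowers x
  have hxo : orderOf x = 3 := by rw [← Subgroup.orderOf_coe]; exact L.X_order
  have h3 : (Nat.card ↥L.H).factorization 3 = 1 := by
    have hd : 3 ^ 1 ∣ Nat.card ↥L.H := by rw [pow_one, ← hxo]; exact orderOf_dvd_natCard x
    have h1 := (Nat.prime_three.pow_dvd_iff_le_factorization Nat.card_pos.ne').1 hd
    have h2 : ¬ 2 ≤ (Nat.card ↥L.H).factorization 3 := fun h =>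
      L.not_nine_dvd_H ((Nat.prime_three.pow_dvd_iff_le_factorization Nat.card_pos.ne').2 h)
    omega
  let P₀ : Sylow 3 ↥L.H := Sylow.ofCard S (by rw [Nat.card_zpowers, hxo, h3, pow_one])
  let P₁ : Sylow 3 ↥L.H := Sylow.ofCard (zpowers (P ^ m)) (by rw [Nat.card_zpowers, ho, h3, pow_one])
  obtain ⟨⟨g, hg⟩, hgP⟩ := MulAction.exists_smul_eq ↥L.H P₁ P₀
  have hmem : g * (P ^ m : ↥L.H) * g⁻¹ ∈ zpowers L.X := by
    have h1 : (⟨g, hg⟩ : ↥L.H) * P ^ m * (⟨g, hg⟩ : ↥L.H)⁻¹ ∈ (P₀ : Subgroup ↥L.H) := by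
      rw [← hgP]
      exact ⟨P ^ m, mem_zpowers (P ^ m), rfl⟩
    obtain ⟨j, hj⟩ := mem_zpowers_iff.1 h1
    exact mem_zpowers_iff.2 ⟨j, by simpa using congrArg Subtype.val hj⟩
  have hgt := L.mem_H.1 hg
  set s' := g * s * g⁻¹ with hs'
  set w := g * (P ^ m : ↥L.H) * g⁻¹ with hw
  have hs't : s' * L.t = L.t * s' := L.mem_H.1 (mul_mem (mul_mem hg (L.mem_H.2 hs)) (inv_mem hg))
  have hwo : orderOf w = 3 := by
    rw [hw, ← MulAut.conj_apply, MulEquiv.orderOf_eq, Subgroup.orderOf_coe, ho]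
  have hsw : s' * w * s'⁻¹ = w⁻¹ := by
    have := congrArg Subtype.val hinvR
    simp only [Subgroup.coe_mul, Subgroup.coe_inv] at this
    rw [hs', hw]
    calc g * s * g⁻¹ * (g * (P ^ m : ↥L.H) * g⁻¹) * (g * s * g⁻¹)⁻¹
        = g * (s * (P ^ m : ↥L.H) * s⁻¹) * g⁻¹ := by group
      _ = _ := by rw [this]; group
  have hgen : L.X ∈ zpowers w := by
    have h1 : zpowers w ≤ zpowers L.X := zpowers_le.2 hmem
    rw [Subgroup.eq_of_le_of_card_ge h1 (by rw [Nat.card_zpowers, Nat.card_zpowers, hwo, L.X_order])]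
    exact mem_zpowers _
  obtain ⟨i, hi⟩ := mem_zpowers_iff.1 hgen
  have hsx : s' * L.X * s'⁻¹ = L.X⁻¹ := by
    rw [← hi, ← MulAut.conj_apply, map_zpow, MulAut.conj_apply, hsw, inv_zpow]
  have hc1 : (s' * L.r) * L.t = L.t * (s' * L.r) := by
    rw [mul_assoc, L.φ_comm, ← mul_assoc, hs't, mul_assoc]
  have hc2 : (s' * L.r) * L.X = L.X * (s' * L.r) := by
    calc s' * L.r * L.X = s' * (L.r * L.X * L.r) * L.r⁻¹ := by group
      _ = s' * L.X⁻¹ * L.r⁻¹ := by rw [L.rXr]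
      _ = (s' * L.X * s'⁻¹)⁻¹ * s' * L.r⁻¹ := by group
      _ = _ := by rw [hsx, inv_inv, L.r_inv, mul_assoc]
  obtain ⟨k, -, hk⟩ := L.cent_x _ hc1 hc2
  have hXp : ∀ j : ℕ, L.r * L.X ^ j * L.r = (L.X ^ j)⁻¹ := fun j => by
    have e := (congrArg (· ^ j) L.rXr)
    simp only [inv_pow] at e
    rw [← e]
    conv_rhs => rw [show L.r * L.X * L.r = L.r * L.X * L.r⁻¹ by rw [L.r_inv], conj_pow, L.r_inv]
  have hshift : L.X ^ (2 * k) * L.r * (L.X ^ (2 * k))⁻¹ = L.X ^ k * L.r := by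
    have h1 : L.r * (L.X ^ (2 * k))⁻¹ = L.X ^ (2 * k) * L.r := by
      rw [← hXp, ← mul_assoc, ← mul_assoc, L.rr, one_mul]
    rw [mul_assoc, h1, ← mul_assoc, ← pow_add, show 2 * k + 2 * k = k + 3 * k by ring, pow_add,
      pow_mul, show L.X ^ 3 = 1 by rw [pow_succ, pow_two]; exact L.X3, one_pow, mul_one]
  have hUr : L.U⁻¹ * L.r * L.U = L.r * L.t := by
    have h1 : L.U⁻¹ * (L.r * L.U * L.r) = L.t := by rw [L.rUr, inv_mul_cancel_left]
    calc L.U⁻¹ * L.r * L.U = L.U⁻¹ * (L.r * L.U * L.r) * L.r⁻¹ := by group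
      _ = _ := by rw [h1, L.r_inv, ← L.φ_comm]
  have hback : s = g⁻¹ * s' * g := by rw [hs']; group
  have hs'2 : s' = L.X ^ k * L.r ∨ s' = L.X ^ k * L.r * L.t := by
    rcases hk with h | h
    · left
      rw [← h, mul_assoc, L.rr, mul_one]
    · right
      calc s' = s' * L.r * L.r := by rw [mul_assoc, L.rr, mul_one]
        _ = L.X ^ k * L.t * L.r := by rw [h]
        _ = _ := by rw [mul_assoc, ← L.φ_comm, ← mul_assoc]
  have hct : ∀ {a : G}, a * L.t = L.t * a → a ∈ L.H := fun ha => L.mem_H.2 ha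
  rcases hs'2 with h | h
  · refine ⟨g⁻¹ * L.X ^ (2 * k), L.mem_H.1 (mul_mem (inv_mem hg) (pow_mem (L.φ_mem _) _)), ?_⟩
    rw [hback, h, ← hshift]
    group
  · refine ⟨g⁻¹ * L.X ^ (2 * k) * L.U⁻¹,
      L.mem_H.1 (mul_mem (mul_mem (inv_mem hg) (pow_mem (L.φ_mem _) _)) (inv_mem (L.φ_mem _))), ?_⟩
    rw [hback, h, ← hshift]
    calc g⁻¹ * L.X ^ (2 * k) * L.U⁻¹ * L.r * (g⁻¹ * L.X ^ (2 * k) * L.U⁻¹)⁻¹
        = g⁻¹ * L.X ^ (2 * k) * (L.U⁻¹ * L.r * L.U) * (L.X ^ (2 * k))⁻¹ * g := by group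
      _ = g⁻¹ * L.X ^ (2 * k) * L.r * (L.t * (L.X ^ (2 * k))⁻¹) * g := by rw [hUr]; group
      _ = _ := by
        rw [← L.mem_H.1 (inv_mem (pow_mem (L.φ_mem xM) (2 * k)))]
        group

end Loc

end CfsgLib.Recog.MTwelveAmalgam
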