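import Cfsg.Agent.Lib.Recog.MTwelveAmalgam.Fpf
import Cfsg.Agent.Lib.Recog.MTwelveAmalgam.Rad

/-!
# One frame: the action of the element of order three on `R` modulo the involution
-/

set_option autoImplicit false
set_option linter.unusedSectionVars false

namespace CfsgLib.Recog.MTwelveAmalgam

open Subgroup

universe u

namespace Loc

variable {G : Type u} [Group G] [Finite G] (L : Loc G)

/-- Conjugation by the element of order three. -/
def c (g : G) : G := L.X * g * L.X⁻¹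

/-- Equality up to the involution. -/
def MT (a b : G) : Prop := a = b ∨ a = b * L.t

theorem c_mul (a b : G) : L.c (a * b) = L.c a * L.c b := by simp only [c]; group

theorem c_one : L.c 1 = 1 := by simp [c]

theorem c_t : L.c L.t = L.t := L.t_conj (L.φ_comm xM)

theorem ccc (g : G) : L.c (L.c (L.c g)) = g := by
  simp only [c]
  calc _ = L.X * L.X * L.X * g * (L.X * L.X * L.X)⁻¹ := by group
    _ = g := by rw [L.X3]; group

theorem c_inv (g : G) : L.c g⁻¹ = (L.c g)⁻¹ := by simp only [c]; group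

theorem c_R {n : G} (hn : n ∈ L.R) : L.c n ∈ L.R := L.R_conj (L.φ_comm xM) hn

theorem rgr_c (g : G) : L.r * L.c g * L.r = L.c (L.c (L.r * g * L.r)) := by
  simp only [c]
  have e : L.r * L.X = L.X⁻¹ * L.r := by
    rw [← L.rXr, mul_assoc _ L.r L.r, L.rr, mul_one]
  have e' : L.X⁻¹ * L.r = L.r * L.X := e.symm
  have e2 : L.X⁻¹ = L.X * L.X := inv_eq_of_mul_eq_one_right (by rw [← mul_assoc]; exact L.X3)
  calc L.r * (L.X * g * L.X⁻¹) * L.r = L.r * L.X * g * (L.X⁻¹ * L.r) := by group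
    _ = L.X⁻¹ * L.r * g * (L.r * L.X) := congrArg₂ (fun a b => a * g * b) e e'
    _ = L.X⁻¹ * (L.r * g * L.r) * L.X := by group
    _ = L.X * L.X * (L.r * g * L.r) * (L.X * L.X)⁻¹ := by
      rw [inv_eq_of_mul_eq_one_right L.X3, e2]
    _ = _ := by group

/-- `⟨t⟩` in `R`. -/
noncomputable abbrev T : Subgroup ↥L.R := (zpowers L.t).subgroupOf L.R

theorem mem_zpowers_t {g : G} : g ∈ zpowers L.t ↔ g = 1 ∨ g = L.t := by
  refine ⟨fun h => ?_, ?_⟩
  · obtain ⟨k, rfl⟩ := mem_zpowers_iff.1 h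
    rcases Int.even_or_odd' k with ⟨l, rfl | rfl⟩
    · left; rw [zpow_mul, zpow_two, L.tt, one_zpow]
    · right; rw [zpow_add, zpow_mul, zpow_two, L.tt, one_zpow, one_mul, zpow_one]
  · rintro (rfl | rfl)
    exacts [one_mem _, mem_zpowers _]

instance T_normal : L.T.Normal := ⟨fun n hn g => by
  rw [mem_subgroupOf] at hn ⊢
  simp only [Subgroup.coe_mul, Subgroup.coe_inv]
  rcases L.mem_zpowers_t.1 hn with h | h
  · rw [h, mul_one, mul_inv_cancel]; exact one_mem _
  · rw [h, L.R_comm g.2, mul_inv_cancel_right]; exact mem_zpowers _⟩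

theorem mk_eq_iff (a b : ↥L.R) : (a : ↥L.R ⧸ L.T) = b ↔ L.MT a b := by
  rw [eq_comm, QuotientGroup.eq, mem_subgroupOf, L.mem_zpowers_t]
  simp only [Subgroup.coe_mul, Subgroup.coe_inv, inv_mul_eq_iff_eq_mul, mul_one, MT]

theorem card_T : Nat.card L.T = 2 := by
  rw [Nat.card_congr (subgroupOfEquivOfLe (zpowers_le.2 L.t_R)).toEquiv, Nat.card_zpowers, L.orderOf_t]

/-- Conjugation by an element of the centraliser of `t`, on `R`. -/
noncomputable def conjR (g : G) (hg : g * L.t = L.t * g) : MulAut ↥L.R where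
  toFun n := ⟨g * n * g⁻¹, L.R_conj hg n.2⟩
  invFun n := ⟨g⁻¹ * n * g, by
    have := L.R_conj (g := g⁻¹) (Commute.inv_left (show Commute g L.t from hg)).eq n.2
    rwa [inv_inv] at this⟩
  left_inv n := Subtype.ext (by simp only; group)
  right_inv n := Subtype.ext (by simp only; group)
  map_mul' a b := Subtype.ext (by simp only [Subgroup.coe_mul]; group)

theorem conjR_T (g : G) (hg : g * L.t = L.t * g) :
    L.T.map (L.conjR g hg : ↥L.R →* ↥L.R) = L.T := by
  refine Subgroup.eq_of_le_of_card_ge ?_ (le_of_eq (Nat.card_congr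
    (L.T.equivMapOfInjective _ (L.conjR g hg).injective).toEquiv))
  rintro _ ⟨n, hn, rfl⟩
  have hn' := L.mem_zpowers_t.1 (mem_subgroupOf.1 hn)
  refine mem_subgroupOf.2 (L.mem_zpowers_t.2 ?_)
  rcases hn' with h | h
  · left; show g * (n : G) * g⁻¹ = 1; rw [h]; group
  · right; show g * (n : G) * g⁻¹ = L.t; rw [h]; exact L.t_conj hg

/-- The same on `R / ⟨t⟩`. -/
noncomputable def conjQ (g : G) (hg : g * L.t = L.t * g) : MulAut (↥L.R ⧸ L.T) :=
  QuotientGroup.congr L.T L.T (L.conjR g hg) (L.conjR_T g hg)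

theorem conjQ_mk (g : G) (hg : g * L.t = L.t * g) (n : ↥L.R) :
    L.conjQ g hg (n : ↥L.R ⧸ L.T) = ((L.conjR g hg n : ↥L.R) : ↥L.R ⧸ L.T) := rfl

/-- The automorphism of order three. -/
noncomputable def α : MulAut (↥L.R ⧸ L.T) := L.conjQ L.X (L.φ_comm xM)

/-- The inverting involution. -/
noncomputable def β : MulAut (↥L.R ⧸ L.T) := L.conjQ L.r (L.φ_comm tauM)

theorem α_mk (n : ↥L.R) : L.α (n : ↥L.R ⧸ L.T) = ((⟨L.c n, L.c_R n.2⟩ : ↥L.R) : ↥L.R ⧸ L.T) := rfl

theorem β_mk (n : ↥L.R) : L.β (n : ↥L.R ⧸ L.T) =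
    ((⟨L.r * n * L.r, by simpa only [L.r_inv] using L.R_conj (L.φ_comm tauM) n.2⟩ : ↥L.R) :
      ↥L.R ⧸ L.T) := by
  refine congrArg (fun z : ↥L.R => (z : ↥L.R ⧸ L.T)) (Subtype.ext ?_)
  show L.r * (n : G) * L.r⁻¹ = L.r * (n : G) * L.r
  rw [L.r_inv]

theorem fix {n : G} (hn : n ∈ L.R) (h : L.MT (L.c n) n) : n = 1 ∨ n = L.t := by
  rcases h with h | h
  · obtain ⟨k, hk3, hk⟩ := L.cent_x n (L.R_comm hn) (by
      rw [c] at h; exact (mul_inv_eq_iff_eq_mul.1 h).symm)
    obtain ⟨hN, j, hj⟩ := L.mem_R.1 hn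
    rcases hk with hk | hk
    · left
      have hX : L.X ^ k ∈ L.N := hk ▸ hN
      rcases (by omega : k = 0 ∨ k = 1 ∨ k = 2) with rfl | rfl | rfl
      · rw [hk, pow_zero]
      · exact absurd (by simpa using hX) L.X_N
      · exact absurd (by
          have h4 := mul_mem hX hX
          rwa [← pow_add, show 2 + 2 = 3 + 1 from rfl, pow_succ (n := 3),
            show L.X ^ 3 = 1 by rw [pow_succ, pow_two]; exact L.X3, one_mul] at h4) L.X_N
    · right
      have hX : L.X ^ k ∈ L.N := by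
        have h5 := mul_mem hN L.t_N
        rwa [hk, mul_assoc, L.tt, mul_one] at h5
      rcases (by omega : k = 0 ∨ k = 1 ∨ k = 2) with rfl | rfl | rfl
      · rw [hk, pow_zero, one_mul]
      · exact absurd (by simpa using hX) L.X_N
      · exact absurd (by
          have h4 := mul_mem hX hX
          rwa [← pow_add, show 2 + 2 = 3 + 1 from rfl, pow_succ (n := 3),
            show L.X ^ 3 = 1 by rw [pow_succ, pow_two]; exact L.X3, one_mul] at h4) L.X_N
  · exfalso
    have e := L.ccc n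
    rw [h, L.c_mul, h, L.c_mul, L.c_mul, h, L.c_t] at e
    rw [mul_assoc, mul_assoc, ← mul_assoc L.t L.t, L.tt, one_mul, mul_eq_left] at e
    first | exact L.t_ne_one e | exact L.t_ne_one (L.c_t.symm.trans e)

theorem α3 : ∀ g, L.α (L.α (L.α g)) = g := by
  intro g
  induction g using QuotientGroup.induction_on with
  | _ n =>
    rw [α_mk, α_mk, α_mk]
    exact congrArg (fun z : ↥L.R => (z : ↥L.R ⧸ L.T)) (Subtype.ext (L.ccc n))

theorem α_fix : ∀ g, L.α g = g → g = 1 := by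
  intro g
  induction g using QuotientGroup.induction_on with
  | _ n =>
    intro h
    rw [α_mk, mk_eq_iff] at h
    exact (QuotientGroup.eq_one_iff n).2 (mem_subgroupOf.2 (L.mem_zpowers_t.2 (L.fix n.2 h)))

theorem β2 : ∀ g, L.β (L.β g) = g := by
  intro g
  induction g using QuotientGroup.induction_on with
  | _ n =>
    rw [β_mk, β_mk]
    refine congrArg (fun z : ↥L.R => (z : ↥L.R ⧸ L.T)) (Subtype.ext ?_)
    show L.r * (L.r * (n : G) * L.r) * L.r = n
    rw [← mul_assoc, ← mul_assoc, L.rr, one_mul, mul_assoc, L.rr, mul_one]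

theorem βα : ∀ g, L.β (L.α g) = L.α (L.α (L.β g)) := by
  intro g
  induction g using QuotientGroup.induction_on with
  | _ n =>
    rw [α_mk, β_mk, β_mk, α_mk, α_mk]
    exact congrArg (fun z : ↥L.R => (z : ↥L.R ⧸ L.T)) (Subtype.ext (L.rgr_c n))

theorem MT_iff {a b : G} (ha : a ∈ L.R) (hb : b ∈ L.R) :
    L.MT a b ↔ ((⟨a, ha⟩ : ↥L.R) : ↥L.R ⧸ L.T) = (⟨b, hb⟩ : ↥L.R) :=
  (L.mk_eq_iff ⟨a, ha⟩ ⟨b, hb⟩).symm

/-- `g · g^x · g^(x²) ∈ ⟨t⟩`. -/
theorem rel {n : G} (hn : n ∈ L.R) : L.MT (n * L.c n * L.c (L.c n)) 1 := by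
  have := fpf_rel L.α L.α3 L.α_fix ((⟨n, hn⟩ : ↥L.R) : ↥L.R ⧸ L.T)
  rw [α_mk, α_mk, ← QuotientGroup.mk_mul, ← QuotientGroup.mk_mul, ← QuotientGroup.mk_one,
    mk_eq_iff] at this
  simpa using this

/-- Commuting elements give commuting conjugates, modulo `t`. -/
theorem pair {n m : G} (hn : n ∈ L.R) (hm : m ∈ L.R) (h : L.MT (n * m) (m * n)) :
    L.MT (L.c n * m) (m * L.c n) := by
  have h' : ((⟨n, hn⟩ : ↥L.R) : ↥L.R ⧸ L.T) * (⟨m, hm⟩ : ↥L.R) =
      ((⟨m, hm⟩ : ↥L.R) : ↥L.R ⧸ L.T) * (⟨n, hn⟩ : ↥L.R) := by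
    rw [← QuotientGroup.mk_mul, ← QuotientGroup.mk_mul, mk_eq_iff]
    simpa using h
  have := fpf_comm_pair L.α L.α3 L.α_fix h'
  rw [α_mk, ← QuotientGroup.mk_mul, ← QuotientGroup.mk_mul, mk_eq_iff] at this
  exact this

theorem MT.refl (a : G) : L.MT a a := Or.inl rfl

/-- An involution of `R` centralising the reflection commutes with its conjugate. -/
theorem eps {w : G} (hw : w ∈ L.R) (hw2 : w * w = 1) :
    L.c w * w = w * L.c w ∧
      (L.c (L.c w) = w * L.c w ∨ L.c (L.c w) = w * L.c w * L.t) := by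
  have hc2 : L.c w * L.c w = 1 := by rw [← L.c_mul, hw2, L.c_one]
  have hcc2 : L.c (L.c w) * L.c (L.c w) = 1 := by rw [← L.c_mul, hc2, L.c_one]
  set a := L.c w
  set b := L.c a
  have hz : ∀ {g : G}, g ∈ L.R → g * L.t = L.t * g := fun hg => L.R_comm hg
  have haR : a ∈ L.R := L.c_R hw
  have hb' : w * a = b ∨ w * a = b * L.t := by
    have h := L.rel hw
    rcases h with h | h
    · left
      calc w * a = w * a * b * b := by rw [mul_assoc, hcc2, mul_one]
        _ = b := by rw [h, one_mul]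
    · right
      calc w * a = w * a * b * b := by rw [mul_assoc, hcc2, mul_one]
        _ = L.t * b := by rw [h, one_mul]
        _ = b * L.t := (hz (L.c_R haR)).symm
  have hsq : w * a * (w * a) = 1 := by
    rcases hb' with h | h <;> rw [h]
    · exact hcc2
    · rw [show b * L.t * (b * L.t) = b * (L.t * b) * L.t by group, ← hz (L.c_R haR),
        show b * (b * L.t) * L.t = b * b * (L.t * L.t) by group, hcc2, L.tt, one_mul]
  refine ⟨?_, ?_⟩
  · calc a * w = w * (w * a * (w * a)) * a := by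
          rw [show w * (w * a * (w * a)) * a = (w * w) * (a * w) * (a * a) by group, hw2, hc2,
            one_mul, mul_one]
      _ = w * a := by rw [hsq, mul_one]
  · rcases hb' with h | h
    · exact Or.inl h.symm
    · right; rw [h, mul_assoc, L.tt, mul_one]

/-- No involution of `R` is moved by the reflection by exactly `t`. -/
theorem noQ {q : G} (hq : q ∈ L.R) (hq2 : q * q = 1) (h : L.r * q * L.r = q * L.t) : False := by
  obtain ⟨hcm, hcc⟩ := L.eps hq hq2
  have hc2 : L.c q * L.c q = 1 := by rw [← L.c_mul, hq2, L.c_one]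
  have h1 : L.r * L.c q * L.r = L.c (L.c q) * L.t := by
    rw [L.rgr_c, h, L.c_mul, L.c_mul, L.c_t, L.c_t]
  have hqt : q * L.t = L.t * q := L.R_comm hq
  have hct : L.c q * L.t = L.t * L.c q := L.R_comm (L.c_R hq)
  have hrt : L.r * L.t = L.t * L.r := L.φ_comm tauM
  have h2 : L.r * L.c (L.c q) * L.r = L.c q * L.t := by
    have e : L.r * (L.r * L.c q * L.r) * L.r = L.r * (L.c (L.c q) * L.t) * L.r := by rw [h1]
    rw [← mul_assoc, ← mul_assoc, L.rr, one_mul, mul_assoc, L.rr, mul_one,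
      show L.r * (L.c (L.c q) * L.t) * L.r = L.r * L.c (L.c q) * (L.t * L.r) by group, ← hrt,
      ← mul_assoc] at e
    conv_rhs => rw [e, mul_assoc, L.tt, mul_one]
  have key : L.r * (q * L.c q) * L.r = q * L.c (L.c q) := by
    calc L.r * (q * L.c q) * L.r = L.r * q * L.r * (L.r * L.c q * L.r) := by
          rw [show L.r * q * L.r * (L.r * L.c q * L.r) = L.r * q * (L.r * L.r) * L.c q * L.r by group,
            L.rr]; group
      _ = q * L.c (L.c q) * (L.t * L.t) := by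
          rw [h, h1, show q * L.t * (L.c (L.c q) * L.t) = q * (L.t * L.c (L.c q)) * L.t by group,
            ← L.R_comm (L.c_R (L.c_R hq))]; group
      _ = _ := by rw [L.tt, mul_one]
  rcases hcc with e | e
  · rw [← e, h2, e, ← mul_assoc, hq2, one_mul, mul_eq_left] at key
    exact L.t_ne_one key
  · have h3 : L.r * L.c (L.c q) * L.r = L.r * (q * L.c q) * L.r * L.t := by
      rw [e, show L.r * (q * L.c q * L.t) * L.r = L.r * (q * L.c q) * (L.t * L.r) by group, ← hrt]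
      group
    rw [h2, key, e, ← mul_assoc q (q * L.c q), ← mul_assoc q q, hq2, one_mul, mul_assoc, L.tt,
      mul_one, mul_eq_left] at h3
    exact L.t_ne_one h3

/-- `C_R(r)`. -/
noncomputable def D : Subgroup G := L.R ⊓ centralizer ({L.r} : Set G)

theorem mem_D {g : G} : g ∈ L.D ↔ g ∈ L.R ∧ g * L.r = L.r * g := by
  rw [D, mem_inf, mem_centralizer_singleton_iff]

theorem t_D : L.t ∈ L.D := L.mem_D.2 ⟨L.t_R, (L.φ_comm tauM).symm⟩

theorem D_le : L.D ≤ L.R := inf_le_left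

theorem U_notD : L.U ∉ L.D := fun h => by
  have := L.rUr
  rw [← (L.mem_D.1 h).2, mul_assoc, L.rr, mul_one] at this
  exact L.t_ne_one (mul_left_cancel (a := L.U) (by rw [← this, mul_one]))

/-- Elements fixed modulo `t` by the reflection. -/
theorem fixed_cases {g : G} (hg : g ∈ L.R) (h : L.MT (L.r * g * L.r) g) :
    g ∈ L.D ∨ ∃ d ∈ L.D, g = d * L.U := by
  have hr : ∀ {a : G}, L.r * a * L.r = a → a * L.r = L.r * a := fun {a} e => by
    calc a * L.r = L.r * a * L.r * L.r := by rw [e]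
      _ = L.r * a := by rw [mul_assoc, L.rr, mul_one]
  rcases h with h | h
  · exact Or.inl (L.mem_D.2 ⟨hg, hr h⟩)
  · refine Or.inr ⟨g * L.U⁻¹, L.mem_D.2 ⟨mul_mem hg (inv_mem L.U_R), hr ?_⟩, by group⟩
    have e2 : L.r * L.U⁻¹ * L.r = L.t * L.U⁻¹ := by
      have e := congrArg (·⁻¹) L.rUr
      simp only [mul_inv_rev, L.r_inv] at e
      rwa [← mul_assoc, inv_eq_of_mul_eq_one_right L.tt] at e
    calc L.r * (g * L.U⁻¹) * L.r = L.r * g * (L.r * L.r) * L.U⁻¹ * L.r := by rw [L.rr]; group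
      _ = L.r * g * L.r * (L.r * L.U⁻¹ * L.r) := by group
      _ = g * (L.t * L.t) * L.U⁻¹ := by rw [h, e2]; group
      _ = g * L.U⁻¹ := by rw [L.tt, mul_one]

theorem two_dvd_D : 2 ∣ Nat.card L.D := by
  rw [← L.orderOf_t, ← Subgroup.orderOf_mk L.t L.t_D]
  exact orderOf_dvd_natCard _

theorem card_fixed : Nat.card {z : ↥L.R ⧸ L.T // L.β z = z} = Nat.card L.D := by
  classical
  let P : Subgroup (↥L.R ⧸ L.T) :=
    { carrier := {z | L.β z = z}
      one_mem' := map_one _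
      mul_mem' := fun {a b} ha hb => by
        simp only [Set.mem_setOf_eq] at ha hb ⊢; rw [map_mul, ha, hb]
      inv_mem' := fun {a} ha => by simp only [Set.mem_setOf_eq] at ha ⊢; rw [map_inv, ha] }
  set q := QuotientGroup.mk' L.T
  set Q := P.comap q with hQ
  have hTQ : L.T ≤ Q := fun z hz => by
    show L.β (q z) = q z
    rw [show q z = 1 from (QuotientGroup.eq_one_iff z).2 hz, map_one]
  have h1 : Nat.card Q = 2 * Nat.card P := by
    have hi := P.index_comap_of_surjective (f := q) (QuotientGroup.mk'_surjective L.T)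
    have hc1 := Q.card_mul_index
    rw [hQ, hi, ← hQ] at hc1
    rw [L.T.card_eq_card_quotient_mul_card_subgroup, L.card_T, ← P.card_mul_index] at hc1
    exact Nat.eq_of_mul_eq_mul_right (Nat.pos_of_ne_zero (Subgroup.index_ne_zero_of_finite (H := P)))
      (hc1.trans (by ring))
  have hmemQ : ∀ z : ↥L.R, z ∈ Q ↔ L.MT (L.r * z * L.r) z := fun z => by
    show L.β (z : ↥L.R ⧸ L.T) = (z : ↥L.R ⧸ L.T) ↔ _
    rw [L.β_mk, L.mk_eq_iff]
  have hDsub : L.D.subgroupOf L.R ≤ Q := fun z hz => (hmemQ z).2 (Or.inl (by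
    obtain ⟨-, h⟩ := L.mem_D.1 (mem_subgroupOf.1 hz)
    rw [← h, mul_assoc, L.rr, mul_one]))
  have hU : (⟨L.U, L.U_R⟩ : ↥L.R) ∈ Q := (hmemQ _).2 (Or.inr L.rUr)
  have hidx : ((L.D.subgroupOf L.R).subgroupOf Q).index = 2 := by
    refine Subgroup.index_eq_two_iff.2 ⟨⟨(⟨L.U, L.U_R⟩ : ↥L.R)⁻¹, inv_mem hU⟩, fun b => ?_⟩
    have hnot : ∀ d : G, d * L.U⁻¹ ∈ L.D → d ∉ L.D := fun d h1 h2 => L.U_notD (by
      have := mul_mem (inv_mem h1) h2
      rwa [mul_inv_rev, inv_inv, mul_assoc, inv_mul_cancel, mul_one] at this)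
    simp only [mem_subgroupOf, Subgroup.coe_mul, Subgroup.coe_inv]
    rcases L.fixed_cases b.1.2 ((hmemQ b.1).1 b.2) with h | ⟨d, hd, e⟩
    · exact Or.inr ⟨h, fun h' => hnot _ h' h⟩
    · refine Or.inl ⟨by rw [e, mul_inv_cancel_right]; exact hd, fun h' => hnot _ ?_ h'⟩
      rw [e, mul_inv_cancel_right]; exact hd
  have h2 := ((L.D.subgroupOf L.R).subgroupOf Q).card_mul_index
  rw [hidx, Nat.card_congr (subgroupOfEquivOfLe hDsub).toEquiv,
    Nat.card_congr (subgroupOfEquivOfLe L.D_le).toEquiv, h1] at h2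
  show Nat.card P = _
  omega

/-- `|R| = 2 |D|²`. -/
theorem card_R_sq : Nat.card L.R = 2 * (Nat.card L.D * Nat.card L.D) := by
  have hp : IsPGroup 2 (↥L.R ⧸ L.T) := L.R_two.to_quotient _
  have h1 := fpf_card_le L.α L.β hp L.α3 L.α_fix L.β2 L.βα
  have h2 := Nat.card_le_card_of_injective _ (fpf_card_ge L.α L.β L.α3 L.α_fix L.βα)
  rw [Nat.card_prod] at h2
  rw [L.card_fixed] at h1 h2
  rw [L.T.card_eq_card_quotient_mul_card_subgroup, L.card_T, le_antisymm h1 h2, mul_comm]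

/-- Every element of `R` is `a · b^x` modulo `t` with `a`, `b` fixed modulo `t`. -/
theorem gen {n : G} (hn : n ∈ L.R) : ∃ a ∈ L.R, ∃ b ∈ L.R, L.MT (L.r * a * L.r) a ∧
    L.MT (L.r * b * L.r) b ∧ L.MT n (a * L.c b) := by
  have hp : IsPGroup 2 (↥L.R ⧸ L.T) := L.R_two.to_quotient _
  have h1 := fpf_card_le L.α L.β hp L.α3 L.α_fix L.β2 L.βα
  have hbij := (fpf_card_ge L.α L.β L.α3 L.α_fix L.βα).bijective_of_nat_card_le
    (by rw [Nat.card_prod]; exact h1)
  obtain ⟨⟨⟨a, ha⟩, ⟨b, hb⟩⟩, hab⟩ := hbij.2 ((⟨n, hn⟩ : ↥L.R) : ↥L.R ⧸ L.T)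
  obtain ⟨a, rfl⟩ := QuotientGroup.mk_surjective a
  obtain ⟨b, rfl⟩ := QuotientGroup.mk_surjective b
  rw [β_mk, mk_eq_iff] at ha hb
  simp only at hab
  rw [α_mk, ← QuotientGroup.mk_mul, eq_comm, mk_eq_iff] at hab
  exact ⟨a, a.2, b, b.2, ha, hb, by simpa using hab⟩

/-- A subgroup containing a part of `D` and its conjugate is large. -/
theorem card_sub_ge (S E : Subgroup G) (hS : S ≤ L.R) (hE : E ≤ L.D) (htE : L.t ∈ E)
    (hE1 : E ≤ S) (hE2 : ∀ e ∈ E, L.c e ∈ S) : Nat.card E * Nat.card E ≤ 2 * Nat.card S := by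
  classical
  set q := QuotientGroup.mk' L.T
  set E' := E.subgroupOf L.R with hE'
  set S' := S.subgroupOf L.R with hS'
  have hT : L.T ≤ E' := fun z hz => by
    rcases L.mem_zpowers_t.1 (mem_subgroupOf.1 hz) with h | h <;>
      rw [hE', mem_subgroupOf, h]
    exacts [one_mem _, htE]
  have hTS : L.T ≤ S' := fun z hz => hE1 (hT hz)
  have hmap : ∀ K : Subgroup ↥L.R, L.T ≤ K → 2 * Nat.card (K.map q) = Nat.card K := fun K hK => by
    have h := Subgroup.card_mul_index (L.T.subgroupOf K)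
    rw [Nat.card_congr (subgroupOfEquivOfLe hK).toEquiv, L.card_T] at h
    have hk : (L.T.subgroupOf K).index = Nat.card (K.map q) := by
      have e := Subgroup.index_ker (q.comp K.subtype)
      rw [MonoidHom.range_comp, Subgroup.range_subtype] at e
      rw [← e]
      congr 1
      ext z
      simp [q, mem_subgroupOf, QuotientGroup.eq_one_iff]
    rw [← hk]; exact h
  have hfix : ∀ z ∈ E'.map q, L.β z = z := by
    rintro _ ⟨z, hz, rfl⟩
    show L.β (z : ↥L.R ⧸ L.T) = (z : ↥L.R ⧸ L.T)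
    rw [β_mk, mk_eq_iff]
    obtain ⟨-, h⟩ := L.mem_D.1 (hE hz)
    exact Or.inl (by
      have h' : (z : G) * L.r = L.r * z := h
      show L.r * (z : G) * L.r = z
      rw [← h', mul_assoc, L.rr, mul_one])
  have hinj : Function.Injective fun p : ↥(E'.map q) × ↥(E'.map q) =>
      (⟨(p.1 : ↥L.R ⧸ L.T) * L.α p.2, by
        refine mul_mem (Subgroup.map_mono (show E' ≤ S' from fun z hz => hE1 hz) p.1.2) ?_
        obtain ⟨z, hz, hze⟩ := p.2.2
        exact ⟨⟨L.c z, L.c_R z.2⟩, hE2 _ hz, by rw [← hze]; rfl⟩⟩ : ↥(S'.map q)) := by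
    intro p p' h
    have h' := congrArg Subtype.val h
    simp only at h'
    have e : ((⟨⟨(p.1 : ↥L.R ⧸ L.T), hfix _ p.1.2⟩, ⟨p.2, hfix _ p.2.2⟩⟩ :
        {c // L.β c = c} × {c // L.β c = c})) = ⟨⟨p'.1, hfix _ p'.1.2⟩, ⟨p'.2, hfix _ p'.2.2⟩⟩ :=
      fpf_card_ge L.α L.β L.α3 L.α_fix L.βα h'
    rw [Prod.ext_iff] at e
    have e1 := congrArg Subtype.val e.1
    have e2 := congrArg Subtype.val e.2
    exact Prod.ext (Subtype.ext e1) (Subtype.ext e2)
  have h := Nat.card_le_card_of_injective _ hinj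
  rw [Nat.card_prod] at h
  have hE'' := hmap E' hT
  have hS'' := hmap S' hTS
  rw [Nat.card_congr (subgroupOfEquivOfLe (hE.trans L.D_le)).toEquiv] at hE''
  rw [Nat.card_congr (subgroupOfEquivOfLe hS).toEquiv] at hS''
  rw [← hE'', ← hS'']
  nlinarith [h]

/-- A 2-group centralising the pair has order at most `2 |D|`. -/
theorem two_bound (P : Subgroup G) (h2 : IsPGroup 2 P) (hP : ∀ g ∈ P, g * L.t = L.t * g ∧
    g * L.r = L.r * g) : Nat.card P ≤ 2 * Nat.card L.D := by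
  classical
  have hmem : ∀ g ∈ P, g ∈ L.D ∨ g * L.r ∈ L.D := fun g hg => by
    obtain ⟨k, hk⟩ := IsPGroup.iff_orderOf.1 h2 ⟨g, hg⟩
    rw [Subgroup.orderOf_mk] at hk
    rcases L.two_r (hP g hg).1 (hP g hg).2 ⟨k, hk⟩ with h | h
    · exact Or.inl (L.mem_D.2 ⟨h, (hP g hg).2⟩)
    · exact Or.inr (L.mem_D.2 ⟨h, by rw [← mul_assoc L.r, ← (hP g hg).2]⟩)
  let f : ↥P → ↥L.D ⊕ ↥L.D := fun g =>
    if h : (g : G) ∈ L.D then Sum.inl ⟨g, h⟩ else Sum.inr ⟨g * L.r, (hmem g g.2).resolve_left h⟩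
  have hf : Function.Injective f := by
    intro g g' h
    simp only [f] at h
    split_ifs at h with h1 h2
    · exact Subtype.ext (congrArg Subtype.val (Sum.inl.inj h) :)
    · exact Subtype.ext (mul_right_cancel (congrArg Subtype.val (Sum.inr.inj h) :))
  refine (Nat.card_le_card_of_injective f hf).trans ?_
  rw [Nat.card_sum]; omega

/-- Commuting with `w` modulo `t` costs a factor of two. -/
theorem half (S : Subgroup G) (hS : S ≤ L.R) {w : G}
    (h : ∀ n ∈ S, L.MT (n * w) (w * n)) :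
    ∃ S' : Subgroup G, S' ≤ S ∧ (∀ n ∈ S', n * w = w * n) ∧ Nat.card S ≤ 2 * Nat.card S' := by
  classical
  let f : ↥S →* G :=
    { toFun := fun n => w⁻¹ * (n : G)⁻¹ * w * n
      map_one' := by simp
      map_mul' := fun a b => by
        have hT : ∀ n ∈ S, w⁻¹ * n⁻¹ * w * n = 1 ∨ w⁻¹ * n⁻¹ * w * n = L.t := fun n hn => by
          rcases h n hn with e | e
          · left
            calc w⁻¹ * n⁻¹ * w * n = w⁻¹ * n⁻¹ * (w * n) := by group
              _ = _ := by rw [← e]; group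
          · right
            have e' : w * n = n * w * L.t := by rw [e, mul_assoc, L.tt, mul_one]
            calc w⁻¹ * n⁻¹ * w * n = w⁻¹ * n⁻¹ * (w * n) := by group
              _ = L.t := by rw [e']; group
        have hc : w⁻¹ * (a : G)⁻¹ * w * a * b = b * (w⁻¹ * (a : G)⁻¹ * w * a) := by
          rcases hT a a.2 with e | e <;> rw [e]
          · simp
          · exact (L.R_comm (hS b.2)).symm
        simp only [Subgroup.coe_mul, mul_inv_rev]
        calc w⁻¹ * ((b : G)⁻¹ * (a : G)⁻¹) * w * ((a : G) * b)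
            = w⁻¹ * (b : G)⁻¹ * w * (w⁻¹ * (a : G)⁻¹ * w * a * b) := by group
          _ = w⁻¹ * (b : G)⁻¹ * w * b * (w⁻¹ * (a : G)⁻¹ * w * a) := by rw [hc]; group
          _ = _ := by
            rcases hT a a.2 with e | e <;> rcases hT b b.2 with e' | e' <;>
              simp [e, e', L.tt] }
  refine ⟨f.ker.map S.subtype, Subgroup.map_subtype_le _, ?_, ?_⟩
  · rintro _ ⟨n, hn, rfl⟩
    have e : w⁻¹ * (n : G)⁻¹ * w * n = 1 := hn
    show (n : G) * w = w * n
    calc (n : G) * w = (n : G) * w * (w⁻¹ * (n : G)⁻¹ * w * n) := by rw [e, mul_one]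
      _ = w * n := by group
  · rw [Nat.card_congr (f.ker.equivMapOfInjective _ S.subtype_injective).toEquiv.symm]
    have h1 := f.ker.card_mul_index
    have h2 : f.range ≤ zpowers L.t := by
      rintro _ ⟨n, rfl⟩
      refine L.mem_zpowers_t.2 ?_
      show w⁻¹ * (n : G)⁻¹ * w * n = 1 ∨ w⁻¹ * (n : G)⁻¹ * w * n = L.t
      rcases h n n.2 with e | e
      · left
        calc w⁻¹ * (n : G)⁻¹ * w * n = w⁻¹ * (n : G)⁻¹ * (w * n) := by group
          _ = _ := by rw [← e]; group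
      · right
        have e' : w * (n : G) = n * w * L.t := by rw [e, mul_assoc, L.tt, mul_one]
        calc w⁻¹ * (n : G)⁻¹ * w * n = w⁻¹ * (n : G)⁻¹ * (w * n) := by group
          _ = L.t := by rw [e']; group
    have h3 : f.ker.index ≤ 2 := by
      rw [Subgroup.index_ker]
      refine (Subgroup.card_le_of_le h2).trans ?_
      rw [Nat.card_zpowers, L.orderOf_t]
    rw [← h1, mul_comm 2]
    exact Nat.mul_le_mul_left _ h3

end Loc

end CfsgLib.Recog.MTwelveAmalgam
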