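import Mathlib.GroupTheory.PGroup
import Mathlib.Tactic

/-!
# The key lemma

An involution `w` centralising `p`, `q` which with its conjugates under the commuting elements `x`, `z`
of order three generates planes, generates an abelian group under `⟨x, z⟩`; so it is trivial.
-/

set_option autoImplicit false

namespace CfsgLib.Recog.MTwelveAmalgam

universe u

variable {G : Type u} [Group G] [Finite G]

theorem key {p q x z w : G} (hpp : p * p = 1) (hqq : q * q = 1) (hx3 : x * x * x = 1)
    (hz3 : z * z * z = 1) (hxz : x * z = z * x) (px : p * x * p = x) (qx : q * x * q = x⁻¹)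
    (pz : p * z * p = z⁻¹) (qz : q * z * q = z⁻¹) (hw : w * w = 1) (hwp : p * w * p = w)
    (hwq : q * w * q = w) (hxw : x * w * x⁻¹ * w = w * (x * w * x⁻¹))
    (hzw : z * w * z⁻¹ * w = w * (z * w * z⁻¹))
    (hxx : x * (x * w * x⁻¹) * x⁻¹ = w * (x * w * x⁻¹))
    (hzz : z * (z * w * z⁻¹) * z⁻¹ = w * (z * w * z⁻¹))
    (cent : ∀ g : G, g * p = p * g → g * x = x * g → ∃ k < 3, g = x ^ k ∨ g = x ^ k * p)
    (hqp : q ≠ 1) (hzne : z ≠ 1)
    (l1 : ∀ U : Subgroup G, ¬ 3 ∣ Nat.card U → x ∈ Subgroup.normalizer (U : Set G) →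
      z ∈ Subgroup.normalizer (U : Set G) → U = ⊥) : w = 1 := by
  classical
  set cx : G →* G := (MulAut.conj x : G →* G) with hcx
  set cz : G →* G := (MulAut.conj z : G →* G) with hcz
  have cxe : ∀ g, cx g = x * g * x⁻¹ := fun g => rfl
  have cze : ∀ g, cz g = z * g * z⁻¹ := fun g => rfl
  set a := cx w with ha
  set s := cz w with hs
  have hpi : p⁻¹ = p := inv_eq_of_mul_eq_one_right hpp
  have hqi : q⁻¹ = q := inv_eq_of_mul_eq_one_right hqq
  have haw : a * w = w * a := hxw
  have hsw : s * w = w * s := hzw
  have haa : cx a = w * a := hxx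
  have hss : cz s = w * s := hzz
  have ha2 : a * a = 1 := by rw [ha, ← map_mul, hw, map_one]
  have hs2 : s * s = 1 := by rw [hs, ← map_mul, hw, map_one]
  have hcomm : ∀ g, cz (cx g) = cx (cz g) := fun g => by
    rw [cze, cxe, cxe, cze]
    calc z * (x * g * x⁻¹) * z⁻¹ = z * x * g * (z * x)⁻¹ := by group
      _ = x * z * g * (x * z)⁻¹ := by rw [hxz]
      _ = _ := by group
  have cx3 : ∀ g, cx (cx (cx g)) = g := fun g => by
    simp only [cxe]
    calc _ = x * x * x * g * (x * x * x)⁻¹ := by group
      _ = g := by rw [hx3]; group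
  have cz3 : ∀ g, cz (cz (cz g)) = g := fun g => by
    simp only [cze]
    calc _ = z * z * z * g * (z * z * z)⁻¹ := by group
      _ = g := by rw [hz3]; group
  have hxi : x⁻¹ = x * x := inv_eq_of_mul_eq_one_right (by rw [← mul_assoc]; exact hx3)
  have hzi : z⁻¹ = z * z := inv_eq_of_mul_eq_one_right (by rw [← mul_assoc]; exact hz3)
  -- the action of `p` and `q`
  have pa : p * a * p = a := by
    calc p * a * p = p * x * p * (p * w * p) * (p * x * p)⁻¹ := by
          rw [ha, cxe, mul_inv_rev, mul_inv_rev, hpi,
            show p * x * p * (p * w * p) * (p * (x⁻¹ * p)) = p * x * (p * p) * w * (p * p) * (x⁻¹ * p)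
              by group, hpp]
          group
      _ = a := by rw [px, hwp]; rfl
  have conj_inv : ∀ {r y : G}, r * r = 1 → r * y * r = y⁻¹ → r * w * r = w →
      y⁻¹ = y * y → r * (y * w * y⁻¹) * r = y * (y * w * y⁻¹) * y⁻¹ := by
    intro r y hr hry hwr hyi
    have hri : r⁻¹ = r := inv_eq_of_mul_eq_one_right hr
    calc r * (y * w * y⁻¹) * r = r * y * r * (r * w * r) * (r * y * r)⁻¹ := by
          rw [mul_inv_rev, mul_inv_rev, hri,
            show r * y * r * (r * w * r) * (r * (y⁻¹ * r)) = r * y * (r * r) * w * (r * r) * (y⁻¹ * r)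
              by group, hr]
          group
      _ = _ := by rw [hry, hwr]; conv_lhs => rw [hyi]
                  group
  have ps : p * s * p = w * s := (conj_inv hpp pz hwp hzi).trans hss
  have qs : q * s * q = w * s := (conj_inv hqq qz hwq hzi).trans hss
  have qa : q * a * q = w * a := (conj_inv hqq qx hwq hxi).trans haa
  -- the commutator
  set c := a * s * a * s with hc
  have pc : p * c * p = c := by
    calc p * c * p = p * a * p * (p * s * p) * (p * a * p) * (p * s * p) := by
          rw [hc, show p * a * p * (p * s * p) * (p * a * p) * (p * s * p) =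
            p * a * (p * p) * s * (p * p) * a * (p * p) * s * p by group, hpp]
          group
      _ = a * (w * s) * a * (w * s) := by rw [pa, ps]
      _ = a * s * (w * a) * w * s := by
        rw [show a * (w * s) * a * (w * s) = a * (w * s) * (a * w * s) by group, ← hsw]; group
      _ = a * s * a * (w * w) * s := by rw [← haw]; group
      _ = _ := by rw [hw, mul_one]
  have qc : q * c * q = c := by
    calc q * c * q = q * a * q * (q * s * q) * (q * a * q) * (q * s * q) := by
          rw [hc, show q * a * q * (q * s * q) * (q * a * q) * (q * s * q) =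
            q * a * (q * q) * s * (q * q) * a * (q * q) * s * q by group, hqq]
          group
      _ = w * a * (w * s) * (w * a) * (w * s) := by rw [qa, qs]
      _ = w * (a * w) * s * (w * a) * w * s := by group
      _ = w * w * a * (s * w) * a * w * s := by rw [haw]; group
      _ = a * w * s * (a * w) * s := by rw [hw, hsw, one_mul]; group
      _ = a * (w * s) * w * a * s := by
        rw [show a * w * s * (a * w) = a * w * s * (w * a) by rw [haw]]; group
      _ = a * s * (w * w) * a * s := by rw [← hsw]; group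
      _ = _ := by rw [hw, mul_one]
  set A := cx s with hA
  have hA2 : A * A = 1 := by rw [hA, ← map_mul, hs2, map_one]
  have hAz : A = cz a := by rw [hA, hs, ha, hcomm]
  have hAa : A * a = a * A := by rw [hA, ha, ← map_mul, ← map_mul, hsw]
  have hAs : A * s = s * A := by rw [hAz, hs, ← map_mul, ← map_mul, haw]
  have hxc : cx c = w * A * w * A := by
    rw [hc, map_mul, map_mul, map_mul, haa, ← hA]
    calc w * a * A * (w * a) * A = w * a * A * (a * w) * A := by rw [haw]
      _ = w * a * (A * a) * w * A := by group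
      _ = w * (a * a) * A * w * A := by rw [hAa]; group
      _ = _ := by rw [ha2, mul_one]
  have hzc : cz c = A * w * A * w := by
    rw [hc, map_mul, map_mul, map_mul, ← hAz, hss]
    calc A * (w * s) * A * (w * s) = A * w * (s * A) * (w * s) := by group
      _ = A * w * (A * s) * (s * w) := by rw [hAs, hsw]
      _ = A * w * A * (s * s) * w := by group
      _ = _ := by rw [hs2, mul_one]
  have hwi : w⁻¹ = w := inv_eq_of_mul_eq_one_right hw
  have hAi : A⁻¹ = A := inv_eq_of_mul_eq_one_right hA2
  have hzc' : cz c = (cx c)⁻¹ := by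
    rw [hzc, hxc, mul_inv_rev, mul_inv_rev, mul_inv_rev, hwi, hAi]; group
  have hflip : cx (cx (cz c)) = c⁻¹ := by rw [hzc', map_inv, map_inv, cx3]
  have hc2 : c = c⁻¹ := by
    have h1 : cx (cx (cz (cx (cx (cz c))))) = c := by rw [hflip, map_inv, map_inv, map_inv, hflip, inv_inv]
    have h2 : cx (cx (cz (cx (cx (cz (cx (cx (cz c)))))))) = c := by
      simp only [hcomm, cx3, cz3]
    rw [h1] at h2
    exact h2.symm.trans hflip
  have hgc : cx (cx (cz c)) = c := hflip.trans hc2.symm
  have hzx : cz c = cx c := by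
    conv_lhs => rw [← cx3 (cz c), hgc]
  have hzc_p : cz (cz c) = cx c := by
    -- apply `p` to the last relation
    have e := congrArg (fun g => p * g * p) hzx
    simp only [cze, cxe] at e ⊢
    have e1 : p * (z * c * z⁻¹) * p = z * (z * c * z⁻¹) * z⁻¹ := by
      calc p * (z * c * z⁻¹) * p = p * z * p * (p * c * p) * (p * z * p)⁻¹ := by
            rw [mul_inv_rev, mul_inv_rev, hpi,
              show p * z * p * (p * c * p) * (p * (z⁻¹ * p)) = p * z * (p * p) * c * (p * p) * (z⁻¹ * p)
                by group, hpp]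
            group
        _ = _ := by rw [pz, pc]; conv_lhs => rw [hzi]
                    group
    have e2 : p * (x * c * x⁻¹) * p = x * c * x⁻¹ := by
      calc p * (x * c * x⁻¹) * p = p * x * p * (p * c * p) * (p * x * p)⁻¹ := by
            rw [mul_inv_rev, mul_inv_rev, hpi,
              show p * x * p * (p * c * p) * (p * (x⁻¹ * p)) = p * x * (p * p) * c * (p * p) * (x⁻¹ * p)
                by group, hpp]
            group
        _ = _ := by rw [px, pc]
    rw [e1, e2] at e
    exact e
  have hcz1 : cz c = c := by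
    have e : cz (cz c) = cz c := by rw [hzc_p, hzx]
    exact (MulAut.conj z).injective e
  have hcx1 : cx c = c := hzx.symm.trans hcz1
  have hc1 : c = 1 := by
    have hp' : c * p = p * c := by
      calc c * p = p * c * p * p := by rw [pc]
        _ = _ := by rw [mul_assoc, hpp, mul_one]
    obtain ⟨k, hk3, hk⟩ := cent c hp' (by rw [cxe] at hcx1; exact (mul_inv_eq_iff_eq_mul.1 hcx1).symm)
    have hz' : z * c = c * z := by rw [cze] at hcz1; exact mul_inv_eq_iff_eq_mul.1 hcz1
    have hsq : c * c = 1 := by nth_rewrite 2 [hc2]; exact mul_inv_cancel c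
    have hxp : x * p = p * x := by
      calc x * p = p * x * p * p := by rw [px]
        _ = _ := by rw [mul_assoc, hpp, mul_one]
    rcases hk with e | e
    · have h3 : c * c * c = 1 := by
        rw [e, ← pow_add, ← pow_add, show k + k + k = 3 * k by ring, pow_mul,
          show x ^ 3 = 1 by rw [pow_succ, pow_two]; exact hx3, one_pow]
      rwa [hsq, one_mul] at h3
    · exfalso
      have hxk : x ^ k * p = p * x ^ k := ((show Commute x p from hxp).pow_left k).eq
      have hk1 : x ^ k * x ^ k = 1 := by
        rw [← hsq, e, mul_assoc, ← mul_assoc p, ← hxk, mul_assoc (x ^ k) p p, hpp, mul_one]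
      have hk0 : x ^ k = 1 := by
        have h3 : x ^ k * x ^ k * x ^ k = 1 := by
          rw [← pow_add, ← pow_add, show k + k + k = 3 * k by ring, pow_mul,
            show x ^ 3 = 1 by rw [pow_succ, pow_two]; exact hx3, one_pow]
        rwa [hk1, one_mul] at h3
      rw [hk0, one_mul] at e
      rw [e] at hz'
      have : z = z⁻¹ := by
        rw [← pz, ← hz', mul_assoc, hpp, mul_one]
      refine hzne ?_
      rw [hzi] at this
      exact mul_eq_left.1 this.symm
  have has : a * s = s * a := by
    calc a * s = a * s * a * s * (s * a) := by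
          rw [show a * s * a * s * (s * a) = a * s * a * (s * s) * a by group, hs2, mul_one,
            show a * s * a * a = a * s * (a * a) by group, ha2, mul_one]
      _ = s * a := by rw [show a * s * a * s = c from rfl, hc1, one_mul]
  -- the abelian group
  set S : Set G := {g | ∃ i j : ℕ, g = MulAut.conj (x ^ i * z ^ j) w}
  have hSx : ∀ y ∈ ({x, z} : Set G), ∀ g ∈ S, y * g * y⁻¹ ∈ S := by
    rintro y hy g ⟨i, j, rfl⟩
    rcases hy with rfl | rfl
    · exact ⟨i + 1, j, by simp only [MulAut.conj_apply, pow_succ']; group⟩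
    · refine ⟨i, j + 1, ?_⟩
      simp only [MulAut.conj_apply, pow_succ']
      rw [← mul_assoc (x ^ i), ((show Commute x y from hxz).pow_left i).eq]
      group
  have hfix : ∀ i j : ℕ, MulAut.conj (x ^ i) (MulAut.conj (z ^ j) w) * w =
      w * MulAut.conj (x ^ i) (MulAut.conj (z ^ j) w) := by
    intro i j
    have hx' : ∀ n, x ^ n = x ^ (n % 3) := fun n => by
      conv_lhs => rw [← Nat.mod_add_div n 3, pow_add, pow_mul,
        show x ^ 3 = 1 by rw [pow_succ, pow_two]; exact hx3, one_pow, mul_one]
    have hz' : ∀ n, z ^ n = z ^ (n % 3) := fun n => by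
      conv_lhs => rw [← Nat.mod_add_div n 3, pow_add, pow_mul,
        show z ^ 3 = 1 by rw [pow_succ, pow_two]; exact hz3, one_pow, mul_one]
    rw [hx' i, hz' j]
    have hwx : ∀ g, (cx g * cx w = cx w * cx g) → g * w = w * g := fun g h => by
      rw [← map_mul, ← map_mul] at h
      exact (MulAut.conj x).injective h
    have e1 : ∀ g, MulAut.conj (x ^ 1) g = cx g := fun g => by rw [pow_one]; rfl
    have e2 : ∀ g, MulAut.conj (x ^ 2) g = cx (cx g) := fun g => by
      rw [pow_two, map_mul]; rfl
    have f1 : ∀ g, MulAut.conj (z ^ 1) g = cz g := fun g => by rw [pow_one]; rfl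
    have f2 : ∀ g, MulAut.conj (z ^ 2) g = cz (cz g) := fun g => by
      rw [pow_two, map_mul]; rfl
    have e0 : ∀ g, MulAut.conj (x ^ 0) g = g := fun g => by simp
    have f0 : ∀ g, MulAut.conj (z ^ 0) g = g := fun g => by simp
    have has' : ∀ s', s' = s ∨ s' = w * s → a * s' = s' * a ∧ w * a * s' = s' * (w * a) := by
      have hws : w * a * s = s * (w * a) := by
        rw [mul_assoc, has, ← mul_assoc, ← hsw, mul_assoc]
      rintro s' (rfl | rfl)
      · exact ⟨has, hws⟩
      · refine ⟨?_, ?_⟩
        · rw [← mul_assoc, haw, mul_assoc, has, ← mul_assoc]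
        · calc w * a * (w * s) = w * (a * w) * s := by group
            _ = w * (w * a * s) := by rw [haw]; group
            _ = _ := by rw [hws]; group
    have gen : ∀ s', s' = s ∨ s' = w * s →
        cx (cx s') * w = w * cx (cx s') ∧ cx s' * w = w * cx s' := by
      intro s' hs'
      obtain ⟨h1, h2⟩ := has' s' hs'
      constructor
      · refine hwx _ ?_
        rw [cx3, ← ha]; exact h1.symm
      · refine hwx _ ((MulAut.conj x).injective ?_)
        show cx (cx (cx s') * cx w) = cx (cx w * cx (cx s'))
        rw [map_mul, map_mul, cx3, ← ha, haa]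
        exact h2.symm
    rcases (by omega : i % 3 = 0 ∨ i % 3 = 1 ∨ i % 3 = 2) with h | h | h <;>
      rcases (by omega : j % 3 = 0 ∨ j % 3 = 1 ∨ j % 3 = 2) with h' | h' | h' <;>
      rw [h, h'] <;> simp only [e0, e1, e2, f0, f1, f2]
    · exact hsw
    · rw [← hs, hss, mul_assoc, hsw]
    · exact haw
    · exact (gen s (Or.inl rfl)).2
    · rw [← hs, hss]; exact (gen _ (Or.inr rfl)).2
    · rw [← ha, haa, mul_assoc, haw]
    · exact (gen s (Or.inl rfl)).1
    · rw [← hs, hss]; exact (gen _ (Or.inr rfl)).1
  have hScomm : ∀ g ∈ S, ∀ g' ∈ S, g * g' = g' * g := by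
    rintro g ⟨i, j, rfl⟩ g' ⟨i', j', rfl⟩
    obtain ⟨d, hd⟩ : ∃ d, i + d = i' + 3 * i := ⟨i' + 2 * i, by ring⟩
    obtain ⟨e, he⟩ : ∃ e, j + e = j' + 3 * j := ⟨j' + 2 * j, by ring⟩
    have h1 : x ^ (i' + 3 * i) = x ^ i' := by
      rw [pow_add, pow_mul, show x ^ 3 = 1 by rw [pow_succ, pow_two]; exact hx3, one_pow, mul_one]
    have h2 : z ^ (j' + 3 * j) = z ^ j' := by
      rw [pow_add, pow_mul, show z ^ 3 = 1 by rw [pow_succ, pow_two]; exact hz3, one_pow, mul_one]
    have key : MulAut.conj (x ^ i' * z ^ j') w =
        MulAut.conj (x ^ i * z ^ j) (MulAut.conj (x ^ d) (MulAut.conj (z ^ e) w)) := by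
      rw [← h1, ← h2, ← hd, ← he, pow_add, pow_add]
      have hc : z ^ j * x ^ d = x ^ d * z ^ j := ((show Commute z x from hxz.symm).pow_pow j d).eq
      calc MulAut.conj (x ^ i * x ^ d * (z ^ j * z ^ e)) w
          = MulAut.conj (x ^ i * (x ^ d * z ^ j) * z ^ e) w := by simp only [mul_assoc]
        _ = _ := by
          rw [← hc]
          simp only [map_mul, MulAut.mul_apply]
    rw [key, ← map_mul, ← map_mul, hfix d e]
  set U := Subgroup.closure S
  have hU2 : ∀ g ∈ U, g * g = 1 := by
    have hcomm' : ∀ g ∈ U, ∀ g' ∈ U, g * g' = g' * g := by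
      intro g hg g' hg'
      induction hg, hg' using Subgroup.closure_induction₂ with
      | mem a b ha hb => exact hScomm a ha b hb
      | one_left => simp
      | one_right => simp
      | mul_left a b c _ _ _ h1 h2 => exact ((show Commute a c from h1).mul_left h2).eq
      | mul_right a b c _ _ _ h1 h2 => exact ((show Commute c a from h1).mul_right h2).eq
      | inv_left a b _ _ h => exact (show Commute a b from h).inv_left.eq
      | inv_right a b _ _ h => exact (show Commute a b from h).inv_right.eq
    intro g hg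
    induction hg using Subgroup.closure_induction with
    | mem g hg => obtain ⟨i, j, rfl⟩ := hg; rw [← map_mul, hw, map_one]
    | one => simp
    | mul a b ha hb h1 h2 =>
      rw [show a * b * (a * b) = a * (b * a) * b by group, ← hcomm' a ha b hb]
      rw [show a * (a * b) * b = (a * a) * (b * b) by group, h1, h2, one_mul]
    | inv a _ h => rw [← mul_inv_rev, h, inv_one]
  have hU3 : ¬ 3 ∣ Nat.card U := fun h => by
    haveI : Fact (Nat.Prime 3) := ⟨Nat.prime_three⟩
    obtain ⟨g, hg⟩ := exists_prime_orderOf_dvd_card' 3 h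
    have : orderOf g ∣ 2 := orderOf_dvd_of_pow_eq_one (by
      rw [pow_two]; exact Subtype.ext (hU2 g g.2))
    rw [hg] at this
    norm_num at this
  have hN : ∀ y ∈ ({x, z} : Set G), y ∈ Subgroup.normalizer (U : Set G) := fun y hy => by
    have hle : U.map (MulAut.conj y : G →* G) ≤ U := by
      rw [MonoidHom.map_closure, Subgroup.closure_le]
      rintro _ ⟨g, hg, rfl⟩
      exact Subgroup.subset_closure (hSx y hy g hg)
    refine Subgroup.mem_normalizer_iff.2 fun g => ⟨fun hg => hle ⟨g, hg, rfl⟩, fun hg => ?_⟩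
    have e := Subgroup.eq_of_le_of_card_ge hle
      (le_of_eq (Nat.card_congr (U.equivMapOfInjective _ (MulAut.conj y).injective).toEquiv))
    rw [← e] at hg
    obtain ⟨g', hg', he⟩ := hg
    exact ((MulAut.conj y).injective he) ▸ hg'
  have hb := l1 U hU3 (hN x (Or.inl rfl)) (hN z (Or.inr rfl))
  have hwU : w ∈ U := Subgroup.subset_closure ⟨0, 0, by simp⟩
  rw [hb] at hwU
  exact hwU

end CfsgLib.Recog.MTwelveAmalgam
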