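import Cfsg.Agent.Lib.Recog.MTwelveAmalgam.LocalSide
import Cfsg.Agent.Lib.Recog.MTwelveAmalgam.Cfg
import Cfsg.Agent.Lib.Amalgam.PCore
import Cfsg.Prelude.Def_CaseTheorems
import Mathlib.GroupTheory.IndexNormal
import Mathlib.LinearAlgebra.Matrix.GeneralLinearGroup.Card

/-!
# The amalgam gives the configuration
-/

set_option autoImplicit false

namespace CfsgLib.Recog.MTwelveAmalgam

open Subgroup

universe u

variable {G : Type u} [Group G] [Finite G]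

/-- The 3-core of a subgroup of shape `3²:GL₂(3)` as a natural module. -/
theorem natMod_of_quot (A : Subgroup G) (eA : A ⧸ Cfsg.pCore 3 A ≃* GL (Fin 2) (ZMod 3))
    (hOA : IsMulCommutative (Cfsg.pCore 3 A) ∧ (∀ x ∈ Cfsg.pCore 3 A, x ^ 3 = 1) ∧
      Nat.card (Cfsg.pCore 3 A) = 9 ∧
      centralizer ((Cfsg.pCore 3 A : Subgroup A) : Set A) = Cfsg.pCore 3 A) :
    NatMod A ((Cfsg.pCore 3 A).map A.subtype) := by
  obtain ⟨hab, hexp, hcard, hsc⟩ := hOA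
  refine ⟨map_subtype_le _, ?_, ?_, ?_, ?_, ?_, ?_⟩
  · rw [Nat.card_congr ((equivMapOfInjective _ _ A.subtype_injective).symm.toEquiv), hcard]
  · rintro q ⟨q', hq', rfl⟩
    rw [← map_pow, hexp q' hq', map_one]
  · rintro p ⟨p', hp', rfl⟩ q ⟨q', hq', rfl⟩
    rw [← map_mul, ← map_mul]
    have := hab.is_comm.comm ⟨p', hp'⟩ ⟨q', hq'⟩
    exact congrArg A.subtype (congrArg Subtype.val this)
  · rintro a ha q ⟨q', hq', rfl⟩
    exact ⟨⟨a, ha⟩ * q' * ⟨a, ha⟩⁻¹, CfsgLib.Amalgam.normal_pCore.conj_mem q' hq' _, by simp⟩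
  · intro a ha h
    refine ⟨⟨a, ha⟩, ?_, rfl⟩
    show (⟨a, ha⟩ : A) ∈ Cfsg.pCore 3 A
    rw [← hsc, mem_centralizer_iff]
    intro q hq
    exact Subtype.ext (h q ⟨q, hq, rfl⟩).symm
  · rw [card_eq_card_quotient_mul_card_subgroup (Cfsg.pCore 3 A), hcard, Nat.card_congr eA.toEquiv,
      Matrix.card_GL_field]
    simp [Fin.prod_univ_two]

/-- A Sylow 3-subgroup of a subgroup of index prime to 3 in a group of order 432. -/
theorem sylow_inter {A B : Subgroup G} (hA : Nat.card A = 432)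
    (hSyl : ¬ 3 ∣ ((A ⊓ B).subgroupOf A).index) (S : Sylow 3 ↥(A ⊓ B)) :
    Nat.card ((S : Subgroup ↥(A ⊓ B)).map (A ⊓ B).subtype) = 27 := by
  have : Fact (Nat.Prime 3) := ⟨Nat.prime_three⟩
  set S' := (S : Subgroup ↥(A ⊓ B)).map (A ⊓ B).subtype
  have hS'A : S' ≤ A := (map_subtype_le _).trans inf_le_left
  have hC : Nat.card ↥(A ⊓ B) * ((A ⊓ B).subgroupOf A).index = 432 := by
    rw [← hA, ← card_mul_index ((A ⊓ B).subgroupOf A),
      Nat.card_congr (subgroupOfEquivOfLe (inf_le_left : A ⊓ B ≤ A)).toEquiv]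
  have hc27 : 27 ∣ Nat.card ↥(A ⊓ B) :=
    (Nat.Coprime.pow_left 3 ((Nat.Prime.coprime_iff_not_dvd Nat.prime_three).2 hSyl)).dvd_of_dvd_mul_right
      (show 3 ^ 3 ∣ _ by rw [hC]; norm_num)
  have hS : Nat.card S' = 27 := by
    rw [Nat.card_congr ((equivMapOfInjective _ _ (A ⊓ B).subtype_injective).symm.toEquiv)]
    obtain ⟨n, hn⟩ := IsPGroup.iff_card.1 S.isPGroup'
    have h1 : 3 ^ n ∣ 432 := hn ▸ ((card_subgroup_dvd_card _).trans (Dvd.intro _ hC))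
    have h2 : 3 ^ 3 ∣ 3 ^ n := hn ▸ S.pow_dvd_card_of_pow_dvd_card hc27
    have h3 : 3 ≤ n := (Nat.pow_dvd_pow_iff_le_right (by norm_num)).1 h2
    have h4 : n ≤ 3 := by
      by_contra h
      exact absurd ((pow_dvd_pow 3 (show 4 ≤ n by omega)).trans h1) (by norm_num)
    rw [hn, show n = 3 by omega]; norm_num
  exact hS

/-- A normal subgroup of order nine lies in every subgroup of order 27. -/
theorem NatMod.le_of_card {A Q S' : Subgroup G} (N : NatMod A Q) (hS'A : S' ≤ A)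
    (hS : Nat.card S' = 27) : Q ≤ S' := by
  have : Fact (Nat.Prime 3) := ⟨Nat.prime_three⟩
  have hcard : Nat.card (S'.subgroupOf A) = 3 ^ (Nat.card A).factorization 3 := by
    rw [Nat.card_congr (subgroupOfEquivOfLe hS'A).toEquiv, hS, N.cardA,
      show (432 : ℕ) = 3 ^ 3 * 16 from rfl, Nat.factorization_mul (by norm_num) (by norm_num),
      Finsupp.add_apply, Nat.factorization_pow, Finsupp.smul_apply,
      Nat.Prime.factorization_self Nat.prime_three,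
      Nat.factorization_eq_zero_of_not_dvd (show ¬ 3 ∣ 16 by norm_num)]
    norm_num
  have hNn : (Q.subgroupOf A).Normal := ⟨fun q hq a => N.norm a a.2 q hq⟩
  have hNp : IsPGroup 3 (Q.subgroupOf A) := IsPGroup.of_card (n := 2) (by
    rw [Nat.card_congr (subgroupOfEquivOfLe N.le).toEquiv, N.card]; norm_num)
  have hle : Q.subgroupOf A ≤ S'.subgroupOf A :=
    (CfsgLib.Amalgam.le_pCore hNn hNp).trans
      (CfsgLib.Amalgam.pCore_le_sylow (Sylow.ofCard (S'.subgroupOf A) hcard))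
  intro q hq
  exact mem_subgroupOf.1 (hle (show (⟨q, N.le hq⟩ : A) ∈ Q.subgroupOf A from hq))

/-- **The configuration**, with the frame it comes from. -/
theorem exists_cfg_frame (A B : Subgroup G) (hgen : A ⊔ B = ⊤)
    (hSylA : ¬ 3 ∣ ((A ⊓ B).subgroupOf A).index)
    (hcore : ∀ N : Subgroup G, N ≤ A ⊓ B → (∀ a ∈ A, N.map (MulAut.conj a).toMonoidHom = N) →
      (∀ b ∈ B, N.map (MulAut.conj b).toMonoidHom = N) → N = ⊥)
    (eA : A ⧸ Cfsg.pCore 3 A ≃* GL (Fin 2) (ZMod 3))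
    (eB : B ⧸ Cfsg.pCore 3 B ≃* GL (Fin 2) (ZMod 3))
    (hOA : IsMulCommutative (Cfsg.pCore 3 A) ∧ (∀ x ∈ Cfsg.pCore 3 A, x ^ 3 = 1) ∧
      Nat.card (Cfsg.pCore 3 A) = 9 ∧
      centralizer ((Cfsg.pCore 3 A : Subgroup A) : Set A) = Cfsg.pCore 3 A)
    (hOB : IsMulCommutative (Cfsg.pCore 3 B) ∧ (∀ x ∈ Cfsg.pCore 3 B, x ^ 3 = 1) ∧
      Nat.card (Cfsg.pCore 3 B) = 9 ∧
      centralizer ((Cfsg.pCore 3 B : Subgroup B) : Set B) = Cfsg.pCore 3 B)
    (S : Sylow 3 ↥(A ⊓ B)) (Z : Subgroup G)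
    (hZ : Z = ((S : Subgroup ↥(A ⊓ B)) ⊓
      centralizer ((S : Subgroup ↥(A ⊓ B)) : Set ↥(A ⊓ B))).map (A ⊓ B).subtype)
    (hNZ : normalizer (Z : Set G) ≤ A ⊓ B) :
    ∃ C : Cfg G, ∃ A B QA QB : Subgroup G, Amal A B QA QB ∧
      Frame A B QA QB C.Lt.t C.Lτ.t (C.Lt.φ xM) (C.Lτ.φ xM) C.z := by
  have : Fact (Nat.Prime 3) := ⟨Nat.prime_three⟩
  have hA := natMod_of_quot A eA hOA
  have hB := natMod_of_quot B eB hOB
  set QA := (Cfsg.pCore 3 A).map A.subtype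
  set QB := (Cfsg.pCore 3 B).map B.subtype
  have hS27 := sylow_inter hA.cardA hSylA S
  set S' := (S : Subgroup ↥(A ⊓ B)).map (A ⊓ B).subtype with hS'
  have hS'C : S' ≤ A ⊓ B := map_subtype_le _
  have hQA : QA ≤ S' := hA.le_of_card (hS'C.trans inf_le_left) hS27
  have hQB : QB ≤ S' := hB.le_of_card (hS'C.trans inf_le_right) hS27
  have hZeq : Z = S' ⊓ centralizer (S' : Set G) := by
    ext g
    rw [hZ]
    constructor
    · rintro ⟨c, ⟨hcS, hcc⟩, rfl⟩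
      refine ⟨⟨c, hcS, rfl⟩, mem_centralizer_iff.2 ?_⟩
      rintro s ⟨s', hs', rfl⟩
      exact congrArg Subtype.val (mem_centralizer_iff.1 hcc s' hs')
    · rintro ⟨⟨c, hcS, rfl⟩, hgc⟩
      exact ⟨c, ⟨hcS, mem_centralizer_iff.2 fun s hs =>
        Subtype.ext (mem_centralizer_iff.1 hgc s ⟨s, hs, rfl⟩)⟩, rfl⟩
  have hZQ : Z ≤ QA ⊓ QB := by
    intro g hg
    rw [hZeq] at hg
    refine ⟨hA.selfc g (hS'C hg.1).1 fun q hq => ?_, hB.selfc g (hS'C hg.1).2 fun q hq => ?_⟩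
    · exact (mem_centralizer_iff.1 hg.2 q (hQA hq)).symm
    · exact (mem_centralizer_iff.1 hg.2 q (hQB hq)).symm
  have hQne : QA ⊓ QB ≠ QA := fun h => by
    have hle : QA ≤ QB := inf_eq_left.1 h
    have he : QA = QB := eq_of_le_of_card_ge hle (by rw [hA.card, hB.card])
    have hmap : ∀ (P : Subgroup G), (∀ a ∈ P, ∀ q ∈ QA, a * q * a⁻¹ ∈ QA) → ∀ a ∈ P,
        QA.map (MulAut.conj a).toMonoidHom = QA := fun P hP a ha => by
      refine eq_of_le_of_card_ge ?_ ?_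
      · rintro _ ⟨q, hq, rfl⟩
        exact hP a ha q hq
      · exact le_of_eq (Nat.card_congr
          (equivMapOfInjective QA _ (MulAut.conj a).injective).toEquiv)
    have h0 := hcore QA (hQA.trans hS'C) (hmap A hA.norm) (hmap B (by rw [he]; exact hB.norm))
    have := hA.card
    rw [h0, card_bot] at this
    omega
  have hS'3 : IsPGroup 3 S' := IsPGroup.of_card (n := 3) (by rw [hS27]; norm_num)
  have hZne : Z ≠ ⊥ := fun h => by
    have : Nontrivial ↥S' := Finite.one_lt_card_iff_nontrivial.1 (by rw [hS27]; norm_num)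
    have := IsPGroup.center_nontrivial hS'3
    obtain ⟨⟨c, hc⟩, hc1⟩ := exists_ne (1 : Subgroup.center ↥S')
    have : (c : G) ∈ Z := by
      rw [hZeq]
      exact ⟨c.2, mem_centralizer_iff.2 fun s hs =>
        congrArg Subtype.val (mem_center_iff.1 hc ⟨s, hs⟩)⟩
    rw [h, mem_bot] at this
    exact hc1 (Subtype.ext (Subtype.ext this))
  have hcard3 : Nat.card ↥(QA ⊓ QB) = 3 := by
    obtain ⟨i, hi, hi'⟩ := (Nat.dvd_prime_pow Nat.prime_three).1
      ((card_dvd_of_le (inf_le_left : QA ⊓ QB ≤ QA)).trans (show Nat.card QA ∣ 3 ^ 2 by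
        rw [hA.card]; norm_num))
    have h1 : 1 < Nat.card ↥(QA ⊓ QB) :=
      lt_of_lt_of_le ((one_lt_card_iff_ne_bot Z).2 hZne) (card_le_of_le hZQ)
    rw [hi'] at h1 ⊢
    interval_cases i
    · simp at h1
    · norm_num
    · exact absurd (eq_of_le_of_card_ge inf_le_left (by rw [hi', hA.card]; norm_num)) hQne
  have hZ' : Z = QA ⊓ QB := by
    refine eq_of_le_of_card_ge hZQ ?_
    rw [hcard3]
    obtain ⟨i, hi, hi'⟩ := (Nat.dvd_prime_pow Nat.prime_three).1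
      ((card_dvd_of_le hZQ).trans (show Nat.card ↥(QA ⊓ QB) ∣ 3 ^ 1 by rw [hcard3]; norm_num))
    have h1 : 1 < Nat.card Z := (one_lt_card_iff_ne_bot Z).2 hZne
    rw [hi'] at h1 ⊢
    interval_cases i <;> simp_all
  have M : Amal A B QA QB :=
    ⟨hA, hB, (hQA.trans hS'C).trans inf_le_right, (hQB.trans hS'C).trans inf_le_left, hcard3,
      hZ' ▸ hNZ⟩
  have h27 : 27 ∣ Nat.card G := hS27 ▸ card_subgroup_dvd_card S'
  have h81 : ¬ 81 ∣ Nat.card G := by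
    intro h
    obtain ⟨K, hK, hle⟩ := Sylow.exists_subgroup_card_pow_succ (p := 3) (n := 3)
      (show 3 ^ 4 ∣ Nat.card G from h) (show Nat.card S' = 3 ^ 3 by rw [hS27]; norm_num)
    have hn : (S'.subgroupOf K).Normal := by
      refine normal_of_index_eq_minFac_card ?_
      have h' := card_mul_index (S'.subgroupOf K)
      rw [Nat.card_congr (subgroupOfEquivOfLe hle).toEquiv, hS27, hK] at h'
      rw [hK, Nat.pow_minFac (by norm_num), Nat.prime_three.minFac_eq]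
      omega
    have hKZ : K ≤ normalizer (Z : Set G) := by
      intro k hk
      have hS'k : ∀ k ∈ K, ∀ s ∈ S', k * s * k⁻¹ ∈ S' := fun k hk s hs =>
        mem_subgroupOf.1 (hn.conj_mem ⟨s, hle hs⟩ hs ⟨k, hk⟩)
      have hmem : ∀ k ∈ K, ∀ g ∈ Z, k * g * k⁻¹ ∈ Z := fun k hk g hg => by
        rw [hZeq] at hg ⊢
        refine ⟨hS'k k hk g hg.1, mem_centralizer_iff.2 fun s hs => ?_⟩
        have hs' := hS'k k⁻¹ (inv_mem hk) s hs
        rw [inv_inv] at hs'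
        have e := mem_centralizer_iff.1 hg.2 _ hs'
        calc s * (k * g * k⁻¹) = k * (k⁻¹ * s * k * g) * k⁻¹ := by group
          _ = k * (g * (k⁻¹ * s * k)) * k⁻¹ := by rw [e]
          _ = k * g * k⁻¹ * s := by group
      refine mem_normalizer_iff.2 fun g => ⟨hmem k hk g, fun hg => ?_⟩
      have := hmem k⁻¹ (inv_mem hk) _ hg
      simpa [mul_assoc] using this
    have := (card_dvd_of_le (hKZ.trans (hNZ.trans inf_le_left)))
    rw [hK, hA.cardA] at this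
    norm_num at this
  obtain ⟨t, τ, x, y, z, F⟩ := M.exists_frame
  obtain ⟨φ, hφ⟩ := M.exists_side F
  obtain ⟨ψ, hψ⟩ := M.swap.exists_side F.swap
  have hφ' : Side A QA t τ x y z⁻¹⁻¹ φ := by rwa [inv_inv]
  have hres := M.res hgen hφ hψ
  let Lt : Loc G :=
    { t := t, φ := φ, φ_inj := hφ.inj, φ_neg := hφ.neg
      cent_x := fun g hgt hgx => by rw [hφ.ex] at hgx ⊢; exact M.cent_tx F hψ hgt hgx
      res := hres, h27 := h27, h81 := h81 }
  let Lτ : Loc G :=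
    { t := τ, φ := ψ, φ_inj := hψ.inj, φ_neg := hψ.neg
      cent_x := fun g hgt hgx => by
        rw [hψ.ex] at hgx ⊢; exact M.swap.cent_tx F.swap hφ' hgt hgx
      res := hres, h27 := h27, h81 := h81 }
  refine ⟨{
    Lt := Lt
    Lτ := Lτ
    φt_tau := hφ.etau
    φτ_tau := hψ.etau
    z := z
    z_three := by have := hA.exp z F.zA; rwa [pow_succ, pow_two] at this
    z_ne := F.z1
    zx := by show z * φ xM = φ xM * z; rw [hφ.ex]; exact hB.comm z F.zB x F.xQ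
    zy := by show z * ψ xM = ψ xM * z; rw [hψ.ex]; exact hA.comm z F.zA y F.yQ
    tz := F.invA z F.zA
    τz := F.invB z F.zB
    ty := by show t * ψ xM * t = (ψ xM)⁻¹; rw [hψ.ex]; exact F.invA y F.yQ
    u_y := Or.inl (by
      show (φ uM)⁻¹ * ψ xM * φ uM = z
      rw [hψ.ex, ← hφ.uz]; group)
    u'_x := Or.inr (by
      show (ψ uM)⁻¹ * φ xM * ψ uM = z⁻¹
      rw [hφ.ex, ← hψ.uz]; group)
    l1x := fun U hU hxU hzU => M.l1 F hψ U hU (hφ.ex ▸ hxU) hzU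
    l1y := fun U hU hyU hzU => M.swap.l1 F.swap hφ' U hU (hψ.ex ▸ hyU) (inv_mem hzU) },
    A, B, QA, QB, M, ?_⟩
  show Frame A B QA QB t τ (φ xM) (ψ xM) z
  rwa [hφ.ex, hψ.ex]

/-- **The configuration.** -/
theorem exists_cfg (A B : Subgroup G) (hgen : A ⊔ B = ⊤)
    (hSylA : ¬ 3 ∣ ((A ⊓ B).subgroupOf A).index)
    (hcore : ∀ N : Subgroup G, N ≤ A ⊓ B → (∀ a ∈ A, N.map (MulAut.conj a).toMonoidHom = N) →
      (∀ b ∈ B, N.map (MulAut.conj b).toMonoidHom = N) → N = ⊥)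
    (eA : A ⧸ Cfsg.pCore 3 A ≃* GL (Fin 2) (ZMod 3))
    (eB : B ⧸ Cfsg.pCore 3 B ≃* GL (Fin 2) (ZMod 3))
    (hOA : IsMulCommutative (Cfsg.pCore 3 A) ∧ (∀ x ∈ Cfsg.pCore 3 A, x ^ 3 = 1) ∧
      Nat.card (Cfsg.pCore 3 A) = 9 ∧
      centralizer ((Cfsg.pCore 3 A : Subgroup A) : Set A) = Cfsg.pCore 3 A)
    (hOB : IsMulCommutative (Cfsg.pCore 3 B) ∧ (∀ x ∈ Cfsg.pCore 3 B, x ^ 3 = 1) ∧
      Nat.card (Cfsg.pCore 3 B) = 9 ∧
      centralizer ((Cfsg.pCore 3 B : Subgroup B) : Set B) = Cfsg.pCore 3 B)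
    (S : Sylow 3 ↥(A ⊓ B)) (Z : Subgroup G)
    (hZ : Z = ((S : Subgroup ↥(A ⊓ B)) ⊓
      centralizer ((S : Subgroup ↥(A ⊓ B)) : Set ↥(A ⊓ B))).map (A ⊓ B).subtype)
    (hNZ : normalizer (Z : Set G) ≤ A ⊓ B) :
    Nonempty (Cfg G) :=
  let ⟨C, _⟩ := exists_cfg_frame A B hgen hSylA hcore eA eB hOA hOB S Z hZ hNZ
  ⟨C⟩

end CfsgLib.Recog.MTwelveAmalgam
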