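import Cfsg.Agent.Lib.Recog.MTwelveAmalgam.Coord

/-!
# The amalgam: commuting involutions and the frame `x, y, z`

`Amal A B QA QB`: two maximal parabolic subgroups of shape `3²:GL₂(3)` meeting in the normaliser of
a common line `Z = QA ⊓ QB`. A `Frame` consists of commuting involutions `t`, `τ` inverting `QA`,
`QB`, of their fixed elements `x ∈ QB`, `y ∈ QA` and of `z = [x, y]`.
-/

set_option autoImplicit false

namespace CfsgLib.Recog.MTwelveAmalgam

open Subgroup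

universe u

variable {G : Type u} [Group G] {A B QA QB : Subgroup G}

/-- The amalgam. -/
structure Amal (A B QA QB : Subgroup G) : Prop where
  na : NatMod A QA
  nb : NatMod B QB
  qaB : QA ≤ B
  qbA : QB ≤ A
  cardZ : Nat.card ↥(QA ⊓ QB) = 3
  normZ : normalizer ((QA ⊓ QB : Subgroup G) : Set G) ≤ A ⊓ B

theorem Amal.swap (M : Amal A B QA QB) : Amal B A QB QA :=
  ⟨M.nb, M.na, M.qbA, M.qaB, by rw [inf_comm]; exact M.cardZ,
    by rw [inf_comm, inf_comm B]; exact M.normZ⟩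

/-- A subgroup of a group of order nine that contains more than three elements is everything. -/
theorem le_of_nine [Finite G] {Q K P : Subgroup G} (hQ : Nat.card Q = 9) (hP : Nat.card P = 3)
    (hPQ : P ≤ Q) (hPK : P ≤ K) {x : G} (hxQ : x ∈ Q) (hxK : x ∈ K) (hx : x ∉ P) : Q ≤ K := by
  have h1 : Nat.card ↥(Q ⊓ K) ∣ 3 ^ 2 := (card_dvd_of_le inf_le_left).trans (by rw [hQ]; norm_num)
  obtain ⟨i, hi, hi'⟩ := (Nat.dvd_prime_pow Nat.prime_three).1 h1
  have hne : P ≠ Q ⊓ K := fun h => hx (h ▸ ⟨hxQ, hxK⟩)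
  have hlt : Nat.card P < Nat.card ↥(Q ⊓ K) := lt_of_not_ge fun h =>
    hne (eq_of_le_of_card_ge (le_inf hPQ hPK) h)
  rw [hP, hi'] at hlt
  have h9 : Nat.card ↥(Q ⊓ K) = 9 := by interval_cases i <;> simp_all
  have := eq_of_le_of_card_ge (inf_le_left : Q ⊓ K ≤ Q) (by rw [h9, hQ])
  exact this ▸ inf_le_right

/-- The elements of an abelian subgroup inverted by an element. -/
def invertedIn (Q : Subgroup G) (hQ : ∀ p ∈ Q, ∀ q ∈ Q, p * q = q * p) (t : G) (htt : t * t = 1) :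
    Subgroup G where
  carrier := {q | q ∈ Q ∧ t * q * t = q⁻¹}
  one_mem' := ⟨one_mem Q, by rw [mul_one, inv_one, htt]⟩
  mul_mem' {a b} ha hb := ⟨mul_mem ha.1 hb.1, by
    rw [mul_inv_rev, ← hb.2, ← ha.2]
    calc t * (a * b) * t = t * (b * a) * t := by rw [hQ a ha.1 b hb.1]
      _ = t * b * (t * t) * a * t := by rw [htt]; group
      _ = t * b * t * (t * a * t) := by group⟩
  inv_mem' {a} ha := ⟨inv_mem ha.1, by
    rw [inv_inv]
    calc t * a⁻¹ * t = t⁻¹ * a⁻¹ * t⁻¹ := by rw [inv_eq_of_mul_eq_one_right htt]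
      _ = (t * a * t)⁻¹ := by group
      _ = a := by rw [ha.2, inv_inv]⟩

/-- The commuting involutions and the three elements of order three. -/
structure Frame (A B QA QB : Subgroup G) (t τ x y z : G) : Prop where
  tA : t ∈ A
  tB : t ∈ B
  τA : τ ∈ A
  τB : τ ∈ B
  tt : t * t = 1
  ττ : τ * τ = 1
  tτ : t * τ = τ * t
  invA : ∀ q ∈ QA, t * q * t = q⁻¹
  invB : ∀ q ∈ QB, τ * q * τ = q⁻¹
  xQ : x ∈ QB
  yQ : y ∈ QA
  zA : z ∈ QA
  zB : z ∈ QB
  z1 : z ≠ 1
  xz : x ∉ zpowers z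
  yz : y ∉ zpowers z
  tx : x * t = t * x
  τy : y * τ = τ * y
  rel : x * y * x⁻¹ = z * y
  rel' : y * x * y⁻¹ = z⁻¹ * x

theorem Frame.swap {t τ x y z : G} (F : Frame A B QA QB t τ x y z) :
    Frame B A QB QA τ t y x z⁻¹ :=
  { tA := F.τB, tB := F.τA, τA := F.tB, τB := F.tA, tt := F.ττ, ττ := F.tt, tτ := F.tτ.symm,
    invA := F.invB, invB := F.invA, xQ := F.yQ, yQ := F.xQ, zA := inv_mem F.zB, zB := inv_mem F.zA,
    z1 := fun h => F.z1 (inv_eq_one.1 h), xz := by rw [zpowers_inv]; exact F.yz,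
    yz := by rw [zpowers_inv]; exact F.xz, tx := F.τy, τy := F.tx, rel := F.rel',
    rel' := by rw [inv_inv]; exact F.rel }

/-- An element inverting `QA` lies in `A ⊓ B`. -/
theorem Amal.mem_of_inverts (M : Amal A B QA QB) {t : G} (htt : t * t = 1)
    (h : ∀ q ∈ QA, t * q * t = q⁻¹) : t ∈ A ⊓ B := by
  refine M.normZ (mem_normalizer_iff.2 fun q => ?_)
  rw [inv_eq_of_mul_eq_one_right htt]
  refine ⟨fun hq => ?_, fun hq => ?_⟩
  · rw [h q hq.1]; exact inv_mem hq
  · have e := h _ hq.1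
    have : t * (t * q * t) * t = q := by
      calc t * (t * q * t) * t = t * t * q * (t * t) := by group
        _ = q := by rw [htt, one_mul, mul_one]
    rw [this] at e
    rw [e]; exact inv_mem hq

variable [Finite G]

omit [Finite G] in
/-- An element of `QB` outside `QA` fixed by the involution inverting `QA`. -/
theorem Amal.exists_fixed (M : Amal A B QA QB) {t : G} (htB : t ∈ B) (htt : t * t = 1)
    (h : ∀ q ∈ QA, t * q * t = q⁻¹) : ∃ x ∈ QB, x ∉ QA ∧ x * t = t * x := by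
  have hti := inv_eq_of_mul_eq_one_right htt
  have hn : ∀ q ∈ QB, t * q * t ∈ QB := fun q hq => by
    have := M.nb.norm t htB q hq; rwa [hti] at this
  have inv' : ∀ q : G, t * q⁻¹ * t = (t * q * t)⁻¹ := fun q => by
    rw [mul_inv_rev, mul_inv_rev, hti]; group
  suffices ∃ q ∈ QB, q * (t * q * t) ≠ 1 by
    obtain ⟨q, hq, hq1⟩ := this
    set x := q * (t * q * t)
    have hfix : t * x * t = x := by
      calc t * x * t = t * q * t * (q * (t * t)) := by simp only [x]; group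
        _ = (t * q * t) * q := by rw [htt, mul_one]
        _ = x := M.nb.comm _ (hn q hq) _ hq
    refine ⟨x, mul_mem hq (hn q hq), fun hx => hq1 (M.na.eq_one_of_fixed hx ?_), ?_⟩
    · rw [← h x hx, hfix]
    · calc x * t = t * x * t * t := by rw [hfix]
        _ = t * x := by rw [mul_assoc, htt, mul_one]
  by_contra! hcon
  have hinv : ∀ q ∈ QB, t * q * t = q⁻¹ := fun q hq => eq_inv_of_mul_eq_one_right (hcon q hq)
  have hle : QA ≤ QB := fun a ha => by
    refine M.nb.selfc a (M.qaB ha) fun b hb => ?_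
    have hcA : a * b * a⁻¹ * b⁻¹ ∈ QA := by
      rw [show a * b * a⁻¹ * b⁻¹ = a * (b * a⁻¹ * b⁻¹) by group]
      exact mul_mem ha (M.na.norm b (M.qbA hb) _ (inv_mem ha))
    have hcB : a * b * a⁻¹ * b⁻¹ ∈ QB := mul_mem (M.nb.norm a (M.qaB ha) b hb) (inv_mem hb)
    set c := a * b * a⁻¹ * b⁻¹ with hc
    have e1 : t * c * t = a⁻¹ * b⁻¹ * a * b := by
      calc t * c * t = t * a * (t * t) * b * (t * t) * a⁻¹ * (t * t) * b⁻¹ * t := by
            rw [htt, hc]; group
        _ = (t * a * t) * (t * b * t) * (t * a⁻¹ * t) * (t * b⁻¹ * t) := by group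
        _ = _ := by rw [h a ha, hinv b hb, inv' a, h a ha, inv' b, hinv b hb, inv_inv, inv_inv]
    have e2 : a⁻¹ * b⁻¹ * a * b = c := by
      calc a⁻¹ * b⁻¹ * a * b = (b * a)⁻¹ * (c * (b * a)) := by rw [hc]; group
        _ = (b * a)⁻¹ * ((b * a) * c) := by
          rw [← mul_assoc c, M.nb.comm c hcB b hb, mul_assoc, M.na.comm c hcA a ha, mul_assoc b a c]
        _ = c := by group
    have hc1 : c = 1 := M.na.eq_one_of_fixed hcA (by rw [← h c hcA, e1, e2])
    calc a * b = c * (b * a) := by rw [hc]; group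
      _ = b * a := by rw [hc1, one_mul]
  have := M.cardZ
  rw [inf_of_le_left hle, M.na.card] at this
  omega

/-- **The frame exists.** -/
theorem Amal.exists_frame (M : Amal A B QA QB) : ∃ t τ x y z, Frame A B QA QB t τ x y z := by
  obtain ⟨τ, hτB', hττ, hτ⟩ := M.nb.exists_inv
  obtain ⟨hτB, hτA⟩ := M.swap.mem_of_inverts hττ hτ
  obtain ⟨t0, -, ht00, ht0⟩ := M.na.exists_inv
  have hτi := inv_eq_of_mul_eq_one_right hττ
  have ht0i := inv_eq_of_mul_eq_one_right ht00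
  obtain ⟨ht0A, -⟩ := M.mem_of_inverts ht00 ht0
  set p := τ * t0 * τ * t0 with hp
  have hpA : p ∈ A := mul_mem (mul_mem (mul_mem hτA ht0A) hτA) ht0A
  have hpQ : p ∈ QA := M.na.selfc p hpA fun q hq => by
    have h1 : τ * q⁻¹ * τ ∈ QA := by
      have := M.na.norm τ hτA _ (inv_mem hq); rwa [hτi] at this
    have h2 : t0 * q * t0 = q⁻¹ := ht0 q hq
    have h3 := ht0 _ h1
    have hconj : p * q * p⁻¹ = q := by
      calc p * q * p⁻¹ = τ * (t0 * (τ * (t0 * q * t0⁻¹) * τ⁻¹) * t0⁻¹) * τ⁻¹ := by rw [hp]; group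
        _ = τ * (t0 * (τ * q⁻¹ * τ) * t0) * τ := by rw [hτi, ht0i, h2]
        _ = τ * τ⁻¹ * q * (τ⁻¹ * τ) := by rw [h3]; group
        _ = q := by rw [mul_inv_cancel, inv_mul_cancel, one_mul, mul_one]
    exact mul_inv_eq_iff_eq_mul.1 hconj
  have hp0 : t0 * p * t0 = p⁻¹ := ht0 p hpQ
  have hτp : τ * t0 * τ = p * t0 := by rw [hp, mul_assoc _ t0 t0, ht00, mul_one]
  have hτpp : τ * p * τ = p⁻¹ := by
    refine eq_inv_of_mul_eq_one_left ?_
    calc τ * p * τ * p = (τ * τ) * t0 * τ * t0 * (τ * τ) * t0 * τ * t0 := by rw [hp]; group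
      _ = 1 := by
        rw [hττ, one_mul, mul_one]
        calc t0 * τ * t0 * t0 * τ * t0 = t0 * (τ * (t0 * t0) * τ) * t0 := by group
          _ = 1 := by rw [ht00, mul_one, hττ, mul_one, ht00]
  set t := p⁻¹ * t0 with ht
  have htt : t * t = 1 := by
    calc t * t = p⁻¹ * (t0 * p⁻¹ * t0) := by rw [ht]; group
      _ = 1 := by rw [ht0 _ (inv_mem hpQ), inv_inv, inv_mul_cancel]
  have htA : ∀ q ∈ QA, t * q * t = q⁻¹ := fun q hq => by
    calc t * q * t = p⁻¹ * (t0 * (q * p⁻¹) * t0) := by rw [ht]; group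
      _ = q⁻¹ := by rw [ht0 _ (mul_mem hq (inv_mem hpQ))]; group
  have htτ : t * τ = τ * t := by
    have e : τ * t * τ = t := by
      calc τ * t * τ = τ * p⁻¹ * τ⁻¹ * (τ * t0 * τ) := by rw [ht]; group
        _ = (τ⁻¹ * p * τ⁻¹)⁻¹ * τ⁻¹ * τ⁻¹ * (τ * t0 * τ) := by group
        _ = p * (p * t0) := by rw [hτi, hτpp, inv_inv, hτp, mul_assoc p τ τ, hττ, mul_one]
        _ = t := by rw [← mul_assoc, ← M.na.cube_inv hpQ]
    calc t * τ = τ * t * τ * τ := by rw [e]
      _ = τ * t := by rw [mul_assoc, hττ, mul_one]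
  obtain ⟨htA', htB⟩ := M.mem_of_inverts htt htA
  obtain ⟨x, hx, hxA, hxt⟩ := M.exists_fixed htB htt htA
  obtain ⟨y, hy, hyB, hyτ⟩ := M.swap.exists_fixed hτA hττ hτ
  set z := x * y * x⁻¹ * y⁻¹ with hz
  have hzA : z ∈ QA := mul_mem (M.na.norm x (M.qbA hx) y hy) (inv_mem hy)
  have hzB : z ∈ QB := by
    rw [hz, show x * y * x⁻¹ * y⁻¹ = x * (y * x⁻¹ * y⁻¹) by group]
    exact mul_mem hx (M.nb.norm y (M.qaB hy) _ (inv_mem hx))
  have hz1 : z ≠ 1 := fun h => by
    refine hyB (M.nb.selfc y (M.qaB hy) fun q hq => ?_)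
    have hc : QB ≤ centralizer {y} := le_of_nine M.nb.card M.cardZ inf_le_right
      (fun w hw => mem_centralizer_singleton_iff.2 (M.na.comm w hw.1 y hy)) hx
      (mem_centralizer_singleton_iff.2 (by
        calc x * y = x * y * x⁻¹ * y⁻¹ * (y * x) := by group
          _ = y * x := by rw [← hz, h, one_mul]))
      fun hh => hxA hh.1
    exact (mem_centralizer_singleton_iff.1 (hc hq)).symm
  exact ⟨t, τ, x, y, z,
    { tA := htA', tB := htB, τA := hτA, τB := hτB, tt := htt, ττ := hττ, tτ := htτ,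
      invA := htA, invB := hτ, xQ := hx, yQ := hy, zA := hzA, zB := hzB, z1 := hz1,
      xz := fun h => hxA ((zpowers_le.2 hzA) h), yz := fun h => hyB ((zpowers_le.2 hzB) h),
      tx := hxt, τy := hyτ, rel := by rw [hz]; group,
      rel' := by rw [hz]; group }⟩

end CfsgLib.Recog.MTwelveAmalgam
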