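import Cfsg.Agent.Lib.Recog.MTwelveAmalgam.LocalFrame
import Cfsg.Agent.Lib.Coprime.Generation
import Cfsg.Agent.Lib.Transfer.Basic

/-!
# The amalgam: the data on each side
-/

set_option autoImplicit false
set_option maxRecDepth 10000
set_option synthInstance.maxSize 1000

namespace CfsgLib.Recog.MTwelveAmalgam

open Subgroup

universe u

variable {G : Type u} [Group G] {A B QA QB : Subgroup G} {t τ x y z : G}

/-- The copy of `GL₂(3)` in `C_A(t)` with its coordinates. -/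
structure Side (A QA : Subgroup G) (t τ x y z : G) (φ : GL (Fin 2) (ZMod 3) →* G) : Prop where
  inj : Function.Injective φ
  neg : φ (-1) = t
  mem : ∀ g, φ g ∈ A
  decomp : ∀ a ∈ A, ∃ q ∈ QA, ∃ g, a = q * φ g
  ex : φ xM = x
  etau : φ tauM = τ
  uz : φ uM * z * (φ uM)⁻¹ = y
  uy : φ uM * y * (φ uM)⁻¹ = z⁻¹
  trans : ∀ q ∈ QA, q ≠ 1 → ∃ g, φ g * z * (φ g)⁻¹ = q

variable [Finite G]

/-- Each side carries such a copy. -/
theorem Amal.exists_side (M : Amal A B QA QB) (F : Frame A B QA QB t τ x y z) :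
    ∃ φ, Side A QA t τ x y z φ := by
  obtain ⟨φ, h1, h2, h3, h4, h5, h6, h7, h8, h9⟩ :=
    M.na.exists_phi F.tA F.tt F.invA F.zA F.yQ F.z1 F.yz
  refine ⟨φ, ⟨h1, h2, h3, h4, h5 x (M.qbA F.xQ) F.tx ?_ F.rel,
    h6 τ F.τA F.tτ.symm ?_ ?_, h7, h8, h9⟩⟩
  · rw [M.nb.comm x F.xQ z F.zB, mul_inv_cancel_right]
  · rw [inv_eq_of_mul_eq_one_right F.ττ]; exact F.invB z F.zB
  · rw [← F.τy, mul_inv_cancel_right]

omit [Finite G] in
/-- The intersection is the group of `z`. -/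
theorem Amal.z_eq (M : Amal A B QA QB) [Finite G] (F : Frame A B QA QB t τ x y z) :
    zpowers z = QA ⊓ QB := by
  refine eq_of_le_of_card_ge (zpowers_le.2 ⟨F.zA, F.zB⟩) ?_
  rw [M.cardZ, Nat.card_zpowers, orderOf_eq_prime (M.na.exp z F.zA) F.z1]

/-- The centraliser of `z` lies in `A ⊓ B`. -/
theorem Amal.cent_z_le (M : Amal A B QA QB) (F : Frame A B QA QB t τ x y z) {g : G}
    (hg : g * z = z * g) : g ∈ A ⊓ B := by
  refine M.normZ ?_
  rw [← M.z_eq F]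
  refine mem_normalizer_iff.2 fun q => ?_
  have hc : ∀ q ∈ zpowers z, g * q * g⁻¹ = q := by
    rintro q ⟨k, rfl⟩
    have : Commute g (z ^ k) := (show Commute g z from hg).zpow_right k
    show g * z ^ k * g⁻¹ = z ^ k
    rw [this.eq, mul_inv_cancel_right]
  refine ⟨fun hq => by rw [hc q hq]; exact hq, fun hq => ?_⟩
  have e := hc _ hq
  have : g * q * g⁻¹ = q := by
    have := congrArg (fun w => g⁻¹ * w * g) e
    simpa [mul_assoc] using this
  rwa [this] at hq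

/-- The centraliser of an element of `QA` lies in `A`. -/
theorem Amal.cent_le (M : Amal A B QA QB) (F : Frame A B QA QB t τ x y z)
    {φ : GL (Fin 2) (ZMod 3) →* G} (hφ : Side A QA t τ x y z φ) {a g : G} (ha : a ∈ QA)
    (ha1 : a ≠ 1) (hg : g * a = a * g) : g ∈ A := by
  obtain ⟨h, hh⟩ := hφ.trans a ha ha1
  have : (φ h)⁻¹ * g * φ h ∈ A ⊓ B := M.cent_z_le F (by
    calc (φ h)⁻¹ * g * φ h * z = (φ h)⁻¹ * (g * (φ h * z * (φ h)⁻¹)) * φ h := by group
      _ = (φ h)⁻¹ * ((φ h * z * (φ h)⁻¹) * g) * φ h := by rw [hh, hg]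
      _ = z * ((φ h)⁻¹ * g * φ h) := by group)
  have e : g = φ h * ((φ h)⁻¹ * g * φ h) * (φ h)⁻¹ := by group
  rw [e]
  exact mul_mem (mul_mem (hφ.mem h) this.1) (inv_mem (hφ.mem h))

/-- The centraliser of `⟨t, x⟩` is `⟨t, x⟩`. -/
theorem Amal.cent_tx (M : Amal A B QA QB) (F : Frame A B QA QB t τ x y z)
    {ψ : GL (Fin 2) (ZMod 3) →* G} (hψ : Side B QB τ t y x z⁻¹ ψ) {g : G}
    (hgt : g * t = t * g) (hgx : g * x = x * g) :
    ∃ k < 3, g = x ^ k ∨ g = x ^ k * t := by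
  have hx1 : x ≠ 1 := fun h => F.xz (h ▸ one_mem _)
  have hgB : g ∈ B := M.swap.cent_le F.swap hψ F.xQ hx1 hgx
  have hti := inv_eq_of_mul_eq_one_right F.tt
  have hcardB : Nat.card ↥(zpowers z) = 3 := by rw [M.z_eq F, M.cardZ]
  -- a centraliser of `x` and `z` in `B` fixed by `t` lies in `⟨x⟩`
  have key : ∀ w ∈ B, w * x = x * w → w * z = z * w → w * t = t * w → ∃ k < 3, w = x ^ k := by
    intro w hwB hwx hwz hwt
    have hc : QB ≤ centralizer {w} := le_of_nine M.nb.card hcardB (zpowers_le.2 F.zB)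
      (zpowers_le.2 (mem_centralizer_singleton_iff.2 hwz.symm)) F.xQ
      (mem_centralizer_singleton_iff.2 hwx.symm) F.xz
    have hwQ : w ∈ QB := M.nb.selfc w hwB fun q hq => (mem_centralizer_singleton_iff.1 (hc hq)).symm
    have hle : QB ⊓ centralizer {t} ≤ zpowers x := by
      intro v hv
      by_contra hvx
      have hx3 : Nat.card ↥(zpowers x) = 3 := by
        rw [Nat.card_zpowers, orderOf_eq_prime (M.nb.exp x F.xQ) hx1]
      have := le_of_nine (K := centralizer {t}) M.nb.card hx3 (zpowers_le.2 F.xQ)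
        (zpowers_le.2 (mem_centralizer_singleton_iff.2 F.tx)) hv.1 hv.2 hvx F.zB
      have hzt := mem_centralizer_singleton_iff.1 this
      exact F.z1 (M.na.eq_one_of_fixed F.zA (by
        rw [← F.invA z F.zA, ← hzt, mul_assoc, F.tt, mul_one]))
    obtain ⟨k, hk⟩ := mem_zpowers_iff.1 (hle ⟨hwQ, mem_centralizer_singleton_iff.2 hwt⟩)
    refine ⟨(k % 3).toNat, by omega, ?_⟩
    rw [← hk]
    have hx3 : orderOf x = 3 := orderOf_eq_prime (M.nb.exp x F.xQ) hx1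
    rw [← zpow_mod_orderOf, hx3, ← zpow_natCast, Int.toNat_of_nonneg (by omega)]
    rfl
  set w := g * z * g⁻¹ with hw
  have hwQ : w ∈ QB := M.nb.norm g hgB z F.zB
  have hwinv : t * w * t = w⁻¹ := by
    calc t * w * t = (t * g) * z * (g⁻¹ * t⁻¹) := by rw [hw, hti]; group
      _ = (g * t) * z * (g * t)⁻¹ := by rw [← mul_inv_rev, hgt]
      _ = g * (t * z * t) * g⁻¹ := by rw [mul_inv_rev, hti]; group
      _ = w⁻¹ := by rw [F.invA z F.zA, hw]; group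
  have hwz : w ∈ zpowers z := by
    by_contra hwz
    have h := le_of_nine (K := invertedIn QB M.nb.comm t F.tt) M.nb.card hcardB
      (zpowers_le.2 F.zB) (zpowers_le.2 ⟨F.zB, F.invA z F.zA⟩) hwQ ⟨hwQ, hwinv⟩ hwz F.xQ
    exact hx1 (M.nb.eq_one_of_fixed F.xQ (by
      rw [← h.2, ← F.tx, mul_assoc, F.tt, mul_one]))
  obtain ⟨k, hk⟩ := mem_zpowers_iff.1 hwz
  have hz3 : orderOf z = 3 := orderOf_eq_prime (M.na.exp z F.zA) F.z1
  rw [← zpow_mod_orderOf, hz3] at hk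
  have hk3 : k % (3 : ℕ) = 0 ∨ k % (3 : ℕ) = 1 ∨ k % (3 : ℕ) = 2 := by omega
  rcases hk3 with h0 | h0 | h0 <;> rw [h0] at hk
  · refine absurd ?_ F.z1
    rw [zpow_zero, hw] at hk
    exact conj_eq_one_iff.1 hk.symm
  · rw [zpow_one, hw] at hk
    obtain ⟨j, hj, e⟩ := key g hgB hgx (mul_inv_eq_iff_eq_mul.1 hk.symm) hgt
    exact ⟨j, hj, Or.inl e⟩
  · rw [show z ^ (2 : ℤ) = z * z from zpow_two z, ← M.na.cube_inv F.zA, hw] at hk
    have e1 : (g * t) * z * (g * t)⁻¹ = z := by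
      calc (g * t) * z * (g * t)⁻¹ = g * (t * z * t) * g⁻¹ := by rw [mul_inv_rev, hti]; group
        _ = (g * z * g⁻¹)⁻¹ := by rw [F.invA z F.zA]; group
        _ = z := by rw [← hk, inv_inv]
    obtain ⟨j, hj, e⟩ := key (g * t) (mul_mem hgB F.tB) (by
      rw [mul_assoc, ← F.tx, ← mul_assoc, hgx, mul_assoc]) (mul_inv_eq_iff_eq_mul.1 e1) (by
      rw [mul_assoc, ← mul_assoc t g t, ← hgt, mul_assoc g t t, F.tt, mul_one])
    refine ⟨j, hj, Or.inr ?_⟩
    rw [← e, mul_assoc, F.tt, mul_one]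

/-- A `3'`-group normalised by `QB` is trivial. -/
theorem Amal.l1 (M : Amal A B QA QB) (F : Frame A B QA QB t τ x y z)
    {ψ : GL (Fin 2) (ZMod 3) →* G} (hψ : Side B QB τ t y x z⁻¹ ψ) (U : Subgroup G)
    (hU : ¬ 3 ∣ Nat.card U) (hxU : x ∈ normalizer (U : Set G))
    (hzU : z ∈ normalizer (U : Set G)) : U = ⊥ := by
  have hcardB : Nat.card ↥(zpowers z) = 3 := by rw [M.z_eq F, M.cardZ]
  have hn : QB ≤ normalizer (U : Set G) := le_of_nine M.nb.card hcardB (zpowers_le.2 F.zB)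
    (zpowers_le.2 hzU) F.xQ hxU F.xz
  have hab : IsMulCommutative QB := ⟨⟨fun a b => Subtype.ext (M.nb.comm a a.2 b b.2)⟩⟩
  have hnc : ¬ IsCyclic QB := by
    intro h
    obtain ⟨g, hg⟩ := IsCyclic.exists_generator (α := QB)
    have h9 : orderOf g = 9 := by rw [orderOf_eq_card_of_forall_mem_zpowers hg, M.nb.card]
    have h3 : g ^ 3 = 1 := Subtype.ext (M.nb.exp g g.2)
    have := orderOf_dvd_of_pow_eq_one h3
    rw [h9] at this
    omega
  have hcop : (Nat.card QB).Coprime (Nat.card U) := by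
    rw [M.nb.card, show 9 = 3 ^ 2 from rfl]
    exact Nat.Coprime.pow_left _ ((Nat.Prime.coprime_iff_not_dvd Nat.prime_three).2 hU)
  rw [← CfsgLib.Coprime.iSup_centralizer_eq hab hnc hn hcop, iSup_eq_bot]
  rintro ⟨a, ha, ha1⟩
  rw [eq_bot_iff_forall]
  rintro w ⟨hwU, hwa⟩
  have hwB : w ∈ B := M.swap.cent_le F.swap hψ ha ha1 (mem_centralizer_singleton_iff.1 hwa)
  have hbot : QB ⊓ U = ⊥ := disjoint_iff.1 (disjoint_of_coprime_natCard hcop)
  have hwQ : w ∈ QB := M.nb.selfc w hwB fun q hq => by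
    have h1 : w * q * w⁻¹ * q⁻¹ ∈ QB ⊓ U := by
      refine ⟨QB.mul_mem (M.nb.norm w hwB q hq) (QB.inv_mem hq), ?_⟩
      rw [show w * q * w⁻¹ * q⁻¹ = w * (q * w⁻¹ * q⁻¹) by group]
      exact mul_mem hwU ((mem_normalizer_iff.1 (hn hq) w⁻¹).1 (U.inv_mem hwU))
    rw [hbot, mem_bot] at h1
    calc w * q = w * q * w⁻¹ * q⁻¹ * (q * w) := by group
      _ = q * w := by rw [h1, one_mul]
  have : w ∈ QB ⊓ U := ⟨hwQ, hwU⟩
  rwa [hbot, mem_bot] at this

theorem gl_gen : (∃ a b : GL (Fin 2) (ZMod 3), a * a * a = 1 ∧ b * b * b = 1 ∧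
    (a * b) * (a * b) = -1) := by decide +kernel

theorem gl_gen' : ∀ g : GL (Fin 2) (ZMod 3), ∃ a b : GL (Fin 2) (ZMod 3), a * a * a = 1 ∧
    b * b * b = 1 ∧ (g = a * b ∨ g = a * b * tauM ∨ g = -1 * (a * b) ∨ g = -1 * (a * b) * tauM) := by
  decide +kernel

/-- `O²(G) = G`. -/
theorem Amal.res (M : Amal A B QA QB) (hgen : A ⊔ B = ⊤) {φ ψ : GL (Fin 2) (ZMod 3) →* G}
    (hφ : Side A QA t τ x y z φ) (hψ : Side B QB τ t y x z⁻¹ ψ) :
    Cfsg.pResidual 2 G = ⊤ := by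
  set R := Cfsg.pResidual 2 G
  have h3 : ∀ g : G, g ^ 3 = 1 → g ∈ R := fun g hg =>
    subset_closure ((Nat.Coprime.pow_left 1 (show Nat.Coprime 3 2 by decide)).coprime_dvd_left
      (by rw [pow_one]; exact orderOf_dvd_of_pow_eq_one hg))
  have hcube : ∀ (χ : GL (Fin 2) (ZMod 3) →* G) a, a * a * a = 1 → χ a ∈ R := fun χ a ha =>
    h3 _ (by rw [← map_pow, pow_succ, pow_two, ha, map_one])
  have hneg : ∀ χ : GL (Fin 2) (ZMod 3) →* G, χ (-1) ∈ R := fun χ => by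
    obtain ⟨a, b, ha, hb, e⟩ := gl_gen
    rw [← e, map_mul, map_mul]
    exact mul_mem (mul_mem (hcube χ a ha) (hcube χ b hb)) (mul_mem (hcube χ a ha) (hcube χ b hb))
  have hall : ∀ χ : GL (Fin 2) (ZMod 3) →* G, χ tauM ∈ R → ∀ g, χ g ∈ R := fun χ hτ g => by
    obtain ⟨a, b, ha, hb, e⟩ := gl_gen' g
    have hab : χ (a * b) ∈ R := by rw [map_mul]; exact mul_mem (hcube χ a ha) (hcube χ b hb)
    rcases e with rfl | rfl | rfl | rfl
    · exact hab
    · rw [map_mul]; exact mul_mem hab hτ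
    · rw [map_mul]; exact mul_mem (hneg χ) hab
    · rw [map_mul, map_mul]; exact mul_mem (mul_mem (hneg χ) hab) hτ
  rw [eq_top_iff, ← hgen, sup_le_iff]
  refine ⟨fun a ha => ?_, fun a ha => ?_⟩
  · obtain ⟨q, hq, g, rfl⟩ := hφ.decomp a ha
    exact mul_mem (h3 q (M.na.exp q hq))
      (hall φ (by rw [hφ.etau, ← hψ.neg]; exact hneg ψ) g)
  · obtain ⟨q, hq, g, rfl⟩ := hψ.decomp a ha
    exact mul_mem (h3 q (M.nb.exp q hq))
      (hall ψ (by rw [hψ.etau, ← hφ.neg]; exact hneg φ) g)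

end CfsgLib.Recog.MTwelveAmalgam
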