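import Cfsg.Agent.Lib.Recog.MTwelveAmalgam.LocalSide

/-!
# Elements of 3-power order in the amalgam

The Sylow 3-subgroup is `QA · QB`, of exponent three; an element of it outside `QB` is conjugate to
one inverted by `t * τ`, hence is inverted by an involution centralising an element of order three
of its centraliser.
-/

set_option autoImplicit false

namespace CfsgLib.Recog.MTwelveAmalgam

open Subgroup

universe u

variable {G : Type u} [Group G] {A B QA QB : Subgroup G} {t τ x y z : G}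

theorem cube_mul {a b k : G} (ha : a * a * a = 1) (hb : b * b * b = 1) (hk : k * k * k = 1)
    (hka : Commute k a) (hkb : Commute k b) (h : b * a = a * b * k) :
    a * b * (a * b) * (a * b) = 1 := by
  have e1 : a * b * (a * b) = a * a * (b * b) * k := by
    calc a * b * (a * b) = a * (b * a) * b := by group
      _ = a * a * b * (k * b) := by rw [h]; group
      _ = _ := by rw [hkb.eq]; group
  have e2 : b * b * a = a * (b * b) * (k * k) := by
    calc b * b * a = b * (b * a) := by group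
      _ = (b * a) * b * k := by nth_rewrite 1 [h]; group
      _ = a * b * (k * b) * k := by rw [h]; group
      _ = _ := by rw [hkb.eq]; group
  calc a * b * (a * b) * (a * b) = a * a * (b * b) * (k * a) * b := by rw [e1]; group
    _ = a * a * (b * b * a) * (k * b) := by rw [hka.eq]; group
    _ = a * a * a * (b * b) * (k * k) * (b * k) := by rw [e2, hkb.eq]; group
    _ = a * a * a * (b * b) * ((k * k) * b) * k := by group
    _ = a * a * a * (b * b * b) * (k * k * k) := by
      rw [(hkb.mul_left hkb).eq]; group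
    _ = 1 := by rw [ha, hb, hk, one_mul, one_mul]

variable [Finite G]

omit [Finite G] in
/-- Products of an element of `QA` and one of `QB` cube to one. -/
theorem Amal.cube (M : Amal A B QA QB) {a b : G} (ha : a ∈ QA) (hb : b ∈ QB) :
    (a * b) ^ 3 = 1 := by
  set k := b⁻¹ * a⁻¹ * b * a with hk
  have hkA : k ∈ QA := by
    refine mul_mem ?_ ha
    have := M.na.norm b⁻¹ (inv_mem (M.qbA hb)) _ (inv_mem ha)
    rwa [inv_inv] at this
  have hkB : k ∈ QB := by
    rw [hk, show b⁻¹ * a⁻¹ * b * a = b⁻¹ * (a⁻¹ * b * a⁻¹⁻¹) by group]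
    exact mul_mem (inv_mem hb) (M.nb.norm a⁻¹ (inv_mem (M.qaB ha)) b hb)
  have h3 : ∀ {Q : Subgroup G} {A : Subgroup G}, NatMod A Q → ∀ q ∈ Q, q * q * q = 1 :=
    fun N q hq => by rw [← pow_two, ← pow_succ]; exact N.exp q hq
  rw [pow_succ, pow_two]
  exact cube_mul (h3 M.na a ha) (h3 M.nb b hb) (h3 M.na k hkA) (M.na.comm k hkA a ha)
    (M.nb.comm k hkB b hb) (by rw [hk]; group)

/-- Elements of 3-power order are conjugate into `QA · QB`. -/
theorem Amal.conj_mem_S (M : Amal A B QA QB) (h27 : 27 ∣ Nat.card G) (h81 : ¬ 81 ∣ Nat.card G)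
    {g : G} {k : ℕ} (hg : orderOf g = 3 ^ k) :
    ∃ c : G, ∃ a ∈ QA, ∃ b ∈ QB, c * g * c⁻¹ = a * b := by
  have : Fact (Nat.Prime 3) := ⟨Nat.prime_three⟩
  have hn : QB ≤ normalizer (QA : Set G) := fun b hb => mem_normalizer_iff.2 fun q =>
    ⟨fun hq => M.na.norm b (M.qbA hb) q hq, fun hq => by
      have := M.na.norm b⁻¹ (inv_mem (M.qbA hb)) _ hq
      simpa [mul_assoc] using this⟩
  have hA3 : IsPGroup 3 QA := IsPGroup.of_card (n := 2) (by rw [M.na.card]; norm_num)
  have hB3 : IsPGroup 3 QB := IsPGroup.of_card (n := 2) (by rw [M.nb.card]; norm_num)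
  have hS3 : IsPGroup 3 ↥(QB ⊔ QA) := hB3.to_sup_of_normal_right' hA3 hn
  obtain ⟨P, hP⟩ := hS3.exists_le_sylow
  have hPc : Nat.card (P : Subgroup G) = 27 := by
    obtain ⟨n, hn'⟩ := IsPGroup.iff_card.1 P.isPGroup'
    have h1 : 3 ≤ n := by
      have h := P.pow_dvd_card_of_pow_dvd_card (n := 3) h27
      rw [hn'] at h
      exact (Nat.pow_dvd_pow_iff_le_right (by norm_num)).1 h
    have h2 : n < 4 := by
      by_contra h
      exact h81 ((pow_dvd_pow 3 (not_lt.1 h)).trans (hn' ▸ card_subgroup_dvd_card _))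
    rw [hn', show n = 3 by omega]; norm_num
  have hS : QB ⊔ QA = (P : Subgroup G) := by
    refine eq_of_le_of_card_ge hP ?_
    have h1 : Nat.card ↥(QB ⊔ QA) ∣ 3 ^ 3 := (card_dvd_of_le hP).trans (by rw [hPc]; norm_num)
    obtain ⟨i, hi, hi'⟩ := (Nat.dvd_prime_pow Nat.prime_three).1 h1
    have h9 : Nat.card QA < Nat.card ↥(QB ⊔ QA) := by
      refine lt_of_le_of_ne (card_le_of_le le_sup_right) fun h => ?_
      have hle : QB ≤ QA := le_sup_left.trans
        (eq_of_le_of_card_ge (le_sup_right : QA ≤ QB ⊔ QA) h.ge).ge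
      have hz := M.cardZ
      rw [inf_of_le_right hle, M.nb.card] at hz
      omega
    rw [hi', M.na.card] at h9
    rw [hi', hPc]
    interval_cases i <;> simp_all
  obtain ⟨Q, hQ⟩ :=
    (IsPGroup.of_card (n := k) (by rw [Nat.card_zpowers, hg]) : IsPGroup 3 (zpowers g)).exists_le_sylow
  obtain ⟨c, hc⟩ := MulAction.exists_smul_eq G Q P
  have : c * g * c⁻¹ ∈ (P : Subgroup G) := by
    rw [← hc]
    exact ⟨g, hQ (mem_zpowers g), rfl⟩
  rw [← hS, sup_comm] at this
  obtain ⟨a, ha, b, hb, e⟩ := (CfsgLib.Coprime.mem_sup_of_le_normalizer hn).1 this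
  exact ⟨c, a, ha, b, hb, e.symm⟩

/-- Elements of 3-power order cube to one. -/
theorem Amal.exp_three (M : Amal A B QA QB) (h27 : 27 ∣ Nat.card G) (h81 : ¬ 81 ∣ Nat.card G)
    {g : G} {k : ℕ} (hg : orderOf g = 3 ^ k) : g ^ 3 = 1 := by
  obtain ⟨c, a, ha, b, hb, e⟩ := M.conj_mem_S h27 h81 hg
  have := M.cube ha hb
  rw [← e, conj_pow] at this
  exact conj_eq_one_iff.1 this

/-- An element of `QA` or `QB` times its image under `t * τ` lies in `⟨z⟩`. -/
theorem Frame.neg_mod (M : Amal A B QA QB) (F : Frame A B QA QB t τ x y z) {a : G} (ha : a ∈ QA) :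
    t * τ * a * (t * τ) * a ∈ zpowers z := by
  have h0i : (t * τ)⁻¹ = t * τ := by
    rw [mul_inv_rev, inv_eq_of_mul_eq_one_right F.tt, inv_eq_of_mul_eq_one_right F.ττ, F.tτ]
  have h00 : t * τ * (t * τ) = 1 := by
    rw [mul_eq_one_iff_eq_inv, h0i]
  set k := t * τ * a * (t * τ) * a with hk
  have hkA : k ∈ QA := by
    refine mul_mem ?_ ha
    have := M.na.norm (t * τ) (mul_mem F.tA F.τA) a ha
    rwa [h0i] at this
  have hfix : k * (t * τ) = t * τ * k := by
    have hc := M.na.comm (t * τ * a * (t * τ)) (by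
      have := M.na.norm (t * τ) (mul_mem F.tA F.τA) a ha
      rwa [h0i] at this) a ha
    calc k * (t * τ) = a * (t * τ * a * (t * τ)) * (t * τ) := by rw [hk, hc]
      _ = a * (t * τ) * a * (t * τ * (t * τ)) := by group
      _ = (t * τ * (t * τ)) * a * (t * τ) * a := by rw [h00, one_mul, mul_one]
      _ = _ := by rw [hk]; group
  by_contra hkz
  have hz3 : Nat.card ↥(zpowers z) = 3 := by rw [M.z_eq F, M.cardZ]
  have hcz : z * (t * τ) = t * τ * z := by
    have e1 := F.invA z F.zA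
    have e2 := F.invB z F.zB
    calc z * (t * τ) = (τ * z * τ)⁻¹ * (t * τ) := by rw [e2, inv_inv]
      _ = τ⁻¹ * z⁻¹ * τ⁻¹ * (t * τ) := by group
      _ = τ * (t * z * t) * τ * (t * τ) := by rw [inv_eq_of_mul_eq_one_right F.ττ, e1]
      _ = τ * t * z * (t * τ * (t * τ)) := by group
      _ = _ := by rw [h00, mul_one, ← F.tτ]
  have hle := le_of_nine (K := centralizer {t * τ}) M.na.card hz3 (zpowers_le.2 F.zA)
    (zpowers_le.2 (mem_centralizer_singleton_iff.2 hcz)) hkA
    (mem_centralizer_singleton_iff.2 hfix) hkz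
  have hy := mem_centralizer_singleton_iff.1 (hle F.yQ)
  have e : t * y * t = y := by
    calc t * y * t = t * (y * τ) * τ⁻¹ * t := by group
      _ = t * τ * y * (τ * t) := by rw [F.τy, inv_eq_of_mul_eq_one_right F.ττ]; group
      _ = y * (t * τ) * (t * τ) := by rw [← F.tτ, hy]
      _ = y := by rw [mul_assoc, h00, mul_one]
  have hy1 : y ≠ 1 := fun h => F.yz (h ▸ one_mem _)
  exact hy1 (M.na.eq_one_of_fixed F.yQ (by rw [← F.invA y F.yQ, e]))

/-- An element of the Sylow 3-subgroup outside `QB` has a conjugate inverted by `t * τ`. -/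
theorem Frame.conj_inverted (M : Amal A B QA QB) (F : Frame A B QA QB t τ x y z) {a b : G}
    (ha : a ∈ QA) (hb : b ∈ QB) (hab : a * b ∉ QB) :
    ∃ c : G, t * τ * (c * (a * b) * c⁻¹) * (t * τ) = (c * (a * b) * c⁻¹)⁻¹ ∧
      z * (c * (a * b) * c⁻¹) = c * (a * b) * c⁻¹ * z ∧ z * (t * τ) = t * τ * z := by
  set o := t * τ with ho
  have hoi : o⁻¹ = o := by
    rw [ho, mul_inv_rev, inv_eq_of_mul_eq_one_right F.tt, inv_eq_of_mul_eq_one_right F.ττ, F.tτ]
  have hoo : o * o = 1 := by rw [mul_eq_one_iff_eq_inv, hoi]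
  have hoz : z * o = o * z := by
    have e1 := F.invA z F.zA
    have e2 := F.invB z F.zB
    calc z * o = (τ * z * τ)⁻¹ * o := by rw [e2, inv_inv]
      _ = τ⁻¹ * z⁻¹ * τ⁻¹ * o := by group
      _ = τ * (t * z * t) * τ * o := by rw [inv_eq_of_mul_eq_one_right F.ττ, e1]
      _ = τ * t * z * (o * o) := by rw [ho]; group
      _ = _ := by rw [hoo, mul_one, ← F.tτ]
  have hZc : ∀ w ∈ zpowers z, Commute w o ∧ (∀ q ∈ QA, Commute w q) ∧ ∀ q ∈ QB, Commute w q := by
    intro w hw
    obtain ⟨i, rfl⟩ := mem_zpowers_iff.1 hw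
    exact ⟨(show Commute z o from hoz).zpow_left i,
      fun q hq => M.na.comm _ (zpow_mem F.zA i) q hq,
      fun q hq => M.nb.comm _ (zpow_mem F.zB i) q hq⟩
  have hka := F.neg_mod M ha
  have hkb := F.swap.neg_mod M.swap hb
  rw [zpowers_inv, ← F.tτ] at hkb
  rw [← ho] at hka hkb
  set s := a * b with hs
  have hsZ : ∀ w ∈ zpowers z, Commute w s := fun w hw =>
    ((hZc w hw).2.1 a ha).mul_right ((hZc w hw).2.2 b hb)
  have hcomm : ∀ p ∈ QA, ∀ q ∈ QB, p * q * p⁻¹ * q⁻¹ ∈ zpowers z := fun p hp q hq => by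
    rw [M.z_eq F]
    refine ⟨?_, QB.mul_mem (M.nb.norm p (M.qaB hp) q hq) (QB.inv_mem hq)⟩
    rw [show p * q * p⁻¹ * q⁻¹ = p * (q * p⁻¹ * q⁻¹) by group]
    exact QA.mul_mem hp (M.na.norm q (M.qbA hq) _ (QA.inv_mem hp))
  -- `o s o s ∈ ⟨z⟩`
  set e := o * s * o * s with he
  have hez : e ∈ zpowers z := by
    have h1 : o * a * o ∈ QA := by
      have := M.na.norm o (mul_mem F.tA F.τA) a ha; rwa [hoi] at this
    have h2 : o * b * o ∈ QB := by
      have := M.nb.norm o (mul_mem F.tB F.τB) b hb; rwa [hoi] at this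
    have hk := hcomm a ha _ h2
    have e' : e = (o * a * o) * (a * (o * b * o) * a⁻¹ * (o * b * o)⁻¹)⁻¹ * a * ((o * b * o) * b) := by
      calc e = (o * a * (o * o) * b * o) * (a * b) := by rw [he, hs, hoo]; group
        _ = _ := by group
    set c := (a * (o * b * o) * a⁻¹ * (o * b * o)⁻¹)⁻¹ with hcdef
    have hsw : o * a * o * c * a = o * a * o * a * c := by
      rw [mul_assoc (o * a * o), ((hZc c (inv_mem hk)).2.1 a ha).eq, ← mul_assoc]
    rw [e', hsw]
    exact mul_mem (mul_mem hka (inv_mem hk)) hkb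
  -- conjugating by a power of `x` changes `s` by any element of `⟨z⟩`
  set k1 := x * s * x⁻¹ * s⁻¹ with hk1
  have hk1z : k1 ∈ zpowers z := by
    have hk := inv_mem (hcomm a ha x F.xQ)
    have hxb : x * b * x⁻¹ = b := by rw [M.nb.comm x F.xQ b hb, mul_inv_cancel_right]
    have : k1 = (a * x * a⁻¹ * x⁻¹)⁻¹ := by
      calc k1 = x * a * x⁻¹ * (x * b * x⁻¹) * b⁻¹ * a⁻¹ := by rw [hk1, hs]; group
        _ = _ := by rw [hxb]; group
    rw [this]; exact hk
  have hz3 : Nat.card ↥(zpowers z) = 3 := by rw [M.z_eq F, M.cardZ]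
  have hk11 : k1 ≠ 1 := by
    intro h
    have hxa : a * x = x * a := by
      have hxb := M.nb.comm x F.xQ b hb
      have h' : x * s = s * x := by
        calc x * s = k1 * (s * x) := by rw [hk1]; group
          _ = _ := by rw [h, one_mul]
      rw [hs] at h'
      calc a * x = a * (x * b) * b⁻¹ := by group
        _ = x * (a * b) * b⁻¹ := by rw [hxb, h', mul_assoc a b x]
        _ = _ := by group
    have haz : a ∉ zpowers z := fun h => hab (mul_mem ((zpowers_le.2 F.zB) h) hb)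
    have hle := le_of_nine (K := centralizer {x}) M.na.card hz3 (zpowers_le.2 F.zA)
      (zpowers_le.2 (mem_centralizer_singleton_iff.2 (M.nb.comm z F.zB x F.xQ))) ha
      (mem_centralizer_singleton_iff.2 hxa) haz
    have hyx := mem_centralizer_singleton_iff.1 (hle F.yQ)
    exact F.z1 (by
      calc z = x * y * x⁻¹ * y⁻¹ := by rw [F.rel]; group
        _ = 1 := by rw [← hyx]; group)
  have hgen : zpowers k1 = zpowers z := eq_of_le_of_card_ge (zpowers_le.2 hk1z) (by
    rw [hz3, Nat.card_zpowers, orderOf_eq_prime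
      (M.nb.exp k1 ((zpowers_le.2 F.zB) hk1z)) hk11])
  obtain ⟨n, hn⟩ := mem_zpowers_iff.1 (hgen ▸ hez : e ∈ zpowers k1)
  have hk1s : Commute k1 x := (hZc k1 hk1z).2.2 x F.xQ
  have hconj : x ^ n * s * (x ^ n)⁻¹ = e * s := by
    have h0 : Commute (k1⁻¹ * x) k1 := (Commute.refl k1).inv_left.mul_left hk1s.symm
    have h1 : s * x * s⁻¹ = k1⁻¹ * x := by rw [hk1]; group
    have h2 : s * x ^ n * s⁻¹ = k1⁻¹ ^ n * x ^ n := by
      rw [← MulAut.conj_apply, map_zpow, MulAut.conj_apply, h1, (hk1s.inv_left).mul_zpow]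
    rw [inv_zpow, hn] at h2
    calc x ^ n * s * (x ^ n)⁻¹ = x ^ n * (s * x ^ n * s⁻¹)⁻¹ * s := by group
      _ = e * s := by
        rw [h2, mul_inv_rev, inv_inv, mul_inv_cancel_left]
  refine ⟨x ^ n, ?_, ?_, hoz⟩
  · rw [hconj]
    have he3 : e * e * e = 1 := by
      rw [← pow_two, ← pow_succ]; exact M.nb.exp e ((zpowers_le.2 F.zB) hez)
    refine eq_inv_of_mul_eq_one_left ?_
    calc o * (e * s) * o * (e * s) = o * e * (o⁻¹ * (o * s * o)) * e * s := by group
      _ = (e * o) * o⁻¹ * (o * s * o * e) * s := by rw [(hZc e hez).1.symm.eq]; group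
      _ = e * (o * (s * (o * e)) * s) := by group
      _ = e * (o * (e * s) * o * s) := by
        rw [(hZc e hez).1.symm.eq, ← mul_assoc s e o, ← (hsZ e hez).eq]
        group
      _ = e * (e * o * s * o * s) := by
        rw [← mul_assoc o e s, (hZc e hez).1.symm.eq]
      _ = e * (e * (o * s * o * s)) := by group
      _ = 1 := by rw [← he, ← mul_assoc, he3]
  · rw [hconj, ← mul_assoc, ((hZc e hez).2.1 z F.zA).symm.eq, mul_assoc, (hsZ z (mem_zpowers z)).eq,
      ← mul_assoc]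

end CfsgLib.Recog.MTwelveAmalgam
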