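import Cfsg.Agent.Lib.Recog.MTwelveAmalgam.Rad
import Cfsg.Agent.Lib.Recog.MTwelveAmalgam.Fpf
import Mathlib.GroupTheory.FixedPointFree

/-!
# The `p`-parts of the nilpotent subgroup, `p ≥ 5`, and the case `|R| = 8`
-/

set_option autoImplicit false
set_option linter.unusedSectionVars false
set_option maxRecDepth 10000

namespace CfsgLib.Recog.MTwelveAmalgam

open Subgroup

universe u

theorem qList_nodup : qList.Nodup := by decide +kernel

namespace Loc

variable {G : Type u} [Group G] [Finite G] (L : Loc G)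

/-- The Sylow `p`-subgroup of `N`. -/
noncomputable def P (p : ℕ) : Subgroup G :=
  ((default : Sylow p ↥L.N) : Subgroup ↥L.N).map L.N.subtype

variable {p : ℕ} [hp : Fact p.Prime]

theorem mem_P (h6 : p.Coprime 6) {g : G} :
    g ∈ L.P p ↔ g * L.t = L.t * g ∧ ∃ k, orderOf g = p ^ k := by
  have hN : g * L.t = L.t * g → (∃ k, orderOf g = p ^ k) → g ∈ L.N := fun hg ⟨k, hk⟩ =>
    L.mem_N_of_coprime hg (by rw [hk]; exact Nat.Coprime.pow_left _ h6)
  refine ⟨fun h => ⟨?_, ?_⟩, fun ⟨hg, k, hk⟩ => ?_⟩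
  · exact L.mem_H.1 (L.N_le (map_subtype_le _ h))
  · obtain ⟨k, hk⟩ := IsPGroup.iff_orderOf.1
      (show IsPGroup p ↥(L.P p) from (default : Sylow p ↥L.N).isPGroup'.map L.N.subtype) ⟨g, h⟩
    exact ⟨k, by rw [← hk, Subgroup.orderOf_mk]⟩
  · have hgN := hN hg ⟨k, hk⟩
    have := L.N_nil
    set S := (default : Sylow p ↥L.N)
    have : (S : Subgroup ↥L.N).Normal :=
      Sylow.normal_of_normalizerCondition Group.normalizerCondition_of_isNilpotent S
    have hz : IsPGroup p (zpowers (⟨g, hgN⟩ : ↥L.N)) :=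
      IsPGroup.of_card (n := k) (by rw [Nat.card_zpowers, Subgroup.orderOf_mk, hk])
    obtain ⟨Q, hQ⟩ := hz.exists_le_sylow
    have e : Q = S := by
      obtain ⟨c, hc⟩ := MulAction.exists_smul_eq ↥L.N S Q
      rw [← hc]
      exact Sylow.smul_eq_of_normal
    refine ⟨⟨g, hgN⟩, ?_, rfl⟩
    have := hQ (mem_zpowers (⟨g, hgN⟩ : ↥L.N))
    rwa [e] at this

theorem P_conj (h6 : p.Coprime 6) {g n : G} (hg : g * L.t = L.t * g) (hn : n ∈ L.P p) :
    g * n * g⁻¹ ∈ L.P p := by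
  obtain ⟨hnt, k, hk⟩ := (L.mem_P h6).1 hn
  refine (L.mem_P h6).2 ⟨?_, k, by rw [← MulAut.conj_apply, MulEquiv.orderOf_eq, hk]⟩
  exact L.mem_H.1 (mul_mem (mul_mem (L.mem_H.2 hg) (L.mem_H.2 hnt)) (inv_mem (L.mem_H.2 hg)))

/-- Elements of order prime to 6 centralise `R`. -/
theorem P_comm_R (h6 : p.Coprime 6) {g n : G} (hg : g ∈ L.P p) (hn : n ∈ L.R) :
    g * n = n * g := by
  obtain ⟨hgt, k, hk⟩ := (L.mem_P h6).1 hg
  exact L.coprime_comm hgt (by rw [hk]; exact Nat.Coprime.pow_left _ h6) hn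

/-- Elements of order three of `H` are conjugate to `X` up to inversion. -/
theorem conj_X_three {z : G} (hz : z * L.t = L.t * z) (hz3 : orderOf z = 3) :
    ∃ h : G, h * L.t = L.t * h ∧ L.X ∈ zpowers (h * z * h⁻¹) ∧ h * z * h⁻¹ ∈ zpowers L.X := by
  classical
  have : Fact (Nat.Prime 3) := ⟨Nat.prime_three⟩
  set x : ↥L.H := ⟨L.X, L.φ_mem _⟩
  set w : ↥L.H := ⟨z, L.mem_H.2 hz⟩
  have hxo : orderOf x = 3 := by rw [← Subgroup.orderOf_coe]; exact L.X_order
  have hwo : orderOf w = 3 := by rw [← Subgroup.orderOf_coe]; exact hz3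
  have h3 : (Nat.card ↥L.H).factorization 3 = 1 := by
    have hd : 3 ^ 1 ∣ Nat.card ↥L.H := by rw [pow_one, ← hxo]; exact orderOf_dvd_natCard x
    have h1 := (Nat.prime_three.pow_dvd_iff_le_factorization Nat.card_pos.ne').1 hd
    have h2 : ¬ 2 ≤ (Nat.card ↥L.H).factorization 3 := fun h =>
      L.not_nine_dvd_H ((Nat.prime_three.pow_dvd_iff_le_factorization Nat.card_pos.ne').2 h)
    omega
  let P₀ : Sylow 3 ↥L.H := Sylow.ofCard (zpowers x) (by rw [Nat.card_zpowers, hxo, h3, pow_one])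
  let P₁ : Sylow 3 ↥L.H := Sylow.ofCard (zpowers w) (by rw [Nat.card_zpowers, hwo, h3, pow_one])
  obtain ⟨⟨g, hg⟩, hgP⟩ := MulAction.exists_smul_eq ↥L.H P₁ P₀
  have hmem : g * z * g⁻¹ ∈ zpowers L.X := by
    have h1 : (⟨g, hg⟩ : ↥L.H) * w * (⟨g, hg⟩ : ↥L.H)⁻¹ ∈ (P₀ : Subgroup ↥L.H) := by
      rw [← hgP]
      exact ⟨w, mem_zpowers w, rfl⟩
    obtain ⟨j, hj⟩ := mem_zpowers_iff.1 h1
    exact mem_zpowers_iff.2 ⟨j, by simpa [w, x] using congrArg Subtype.val hj⟩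
  refine ⟨g, L.mem_H.1 hg, ?_, hmem⟩
  have h1 : zpowers (g * z * g⁻¹) ≤ zpowers L.X := zpowers_le.2 hmem
  rw [eq_of_le_of_card_ge h1 (by rw [Nat.card_zpowers, Nat.card_zpowers,
    ← MulAut.conj_apply, MulEquiv.orderOf_eq, hz3, L.X_order])]
  exact mem_zpowers _

/-- An element of order three of `H` acts without fixed points on the elements of order prime to 6. -/
theorem fpf (h6 : p.Coprime 6) {f z : G} (hf : f ∈ L.P p) (hz : z * L.t = L.t * z)
    (hz3 : orderOf z = 3) (hc : f * z = z * f) : f = 1 := by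
  obtain ⟨h, hh, hX, -⟩ := L.conj_X_three hz hz3
  set f' := h * f * h⁻¹ with hf'
  obtain ⟨hf't, k, hk⟩ := (L.mem_P h6).1 (L.P_conj h6 hh hf)
  have hfz : Commute f' (h * z * h⁻¹) := by
    show f' * (h * z * h⁻¹) = h * z * h⁻¹ * f'
    calc f' * (h * z * h⁻¹) = h * (f * z) * h⁻¹ := by rw [hf']; group
      _ = _ := by rw [hc, hf']; group
  obtain ⟨j, hj⟩ := mem_zpowers_iff.1 hX
  have hfX : f' * L.X = L.X * f' := by rw [← hj]; exact (hfz.zpow_right j).eq
  obtain ⟨i, -, hi⟩ := L.cent_x f' hf't hfX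
  have h16 : f' ^ 6 = 1 := by
    have hX6 : (L.X ^ i) ^ 6 = 1 := by
      rw [← pow_mul, mul_comm, pow_mul, show L.X ^ 6 = (L.X * L.X * L.X) ^ 2 by
        rw [← pow_two, ← pow_succ, ← pow_mul], L.X3, one_pow, one_pow]
    rcases hi with e | e
    · rw [e, hX6]
    · rw [e, ((show Commute L.X L.t from L.φ_comm _).pow_left i).mul_pow, hX6,
        show L.t ^ 6 = (L.t * L.t) ^ 3 by rw [← pow_two, ← pow_mul], L.tt, one_pow, one_mul]
  have h1 : orderOf f' = 1 := Nat.eq_one_of_dvd_coprimes (Nat.Coprime.pow_left k h6)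
    (dvd_of_eq hk) (orderOf_dvd_of_pow_eq_one h16)
  rw [orderOf_eq_one_iff, hf'] at h1
  exact conj_eq_one_iff.1 h1

/-- A nontrivial element of `P` fixed by the reflection. -/
theorem exists_fixed_P (h6 : p.Coprime 6) (hdvd : p ∣ Nat.card L.N) :
    ∃ f ∈ L.P p, f ≠ 1 ∧ f * L.r = L.r * f := by
  by_contra hcon
  push Not at hcon
  let σ : ↥(L.P p) →* ↥(L.P p) :=
    { toFun := fun n => ⟨L.r * n * L.r⁻¹, L.P_conj h6 (L.φ_comm _) n.2⟩
      map_one' := Subtype.ext (by simp)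
      map_mul' := fun a b => Subtype.ext (by
        show L.r * ((a : G) * b) * L.r⁻¹ = L.r * a * L.r⁻¹ * (L.r * b * L.r⁻¹)
        group) }
  have h1 : MonoidHom.FixedPointFree σ := fun n hn => by
    by_contra h
    exact hcon n n.2 (fun e => h (Subtype.ext e))
      (mul_inv_eq_iff_eq_mul.1 (congrArg Subtype.val hn)).symm
  have h2 : Function.Involutive σ := fun n => Subtype.ext (by
    show L.r * (L.r * n * L.r⁻¹) * L.r⁻¹ = n
    calc L.r * (L.r * n * L.r⁻¹) * L.r⁻¹ = (L.r * L.r) * n * (L.r * L.r)⁻¹ := by group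
      _ = n := by rw [L.rr, one_mul, inv_one, mul_one])
  have hinv : ∀ n ∈ L.P p, L.r * n * L.r = n⁻¹ := fun n hn => by
    have := congrArg Subtype.val (congrFun (h1.coe_eq_inv_of_involutive h2) ⟨n, hn⟩)
    simpa [σ, L.r_inv] using this
  obtain ⟨n, hn, hn1⟩ : ∃ n ∈ L.P p, n ≠ 1 := by
    have := (default : Sylow p ↥L.N).ne_bot_of_dvd_card hdvd
    obtain ⟨⟨n, hnN⟩, hn, hn1⟩ := (ne_bot_iff_exists_ne_one.1 this) |> fun ⟨⟨a, ha⟩, h⟩ =>
      (⟨a, ha, fun e => h (Subtype.ext e)⟩ : ∃ a ∈ ((default : Sylow p ↥L.N) : Subgroup ↥L.N), a ≠ 1)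
    exact ⟨n, ⟨⟨n, hnN⟩, hn, rfl⟩, fun e => hn1 (Subtype.ext e)⟩
  have hXt : L.X * L.t = L.t * L.X := L.φ_comm _
  have hn' : L.X⁻¹ * n * L.X ∈ L.P p := by
    have := L.P_conj h6 (L.mem_H.1 (inv_mem (L.φ_mem xM))) hn
    rwa [inv_inv] at this
  have e1 := hinv _ hn'
  have e2 := hinv n hn
  have hXXo : orderOf (L.X * L.X) = 3 := by
    rw [← pow_two, Nat.Coprime.orderOf_pow (by rw [L.X_order]; norm_num), L.X_order]
  refine hn1 (L.fpf h6 hn (z := L.X * L.X) ?_ hXXo ?_)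
  · rw [mul_assoc, hXt, ← mul_assoc, hXt, mul_assoc]
  · have hrX : L.X⁻¹ = L.r * L.X * L.r := L.rXr.symm
    have hX2 : L.X = L.r * L.X⁻¹ * L.r := by
      rw [hrX]
      calc L.X = (L.r * L.r) * L.X * (L.r * L.r) := by rw [L.rr, one_mul, mul_one]
        _ = _ := by group
    -- both `r` and `X r X⁻¹` invert `n`
    have e3 : (L.X * L.r * L.X⁻¹) * n * (L.X * L.r * L.X⁻¹) = n⁻¹ := by
      calc (L.X * L.r * L.X⁻¹) * n * (L.X * L.r * L.X⁻¹)
          = L.X * (L.r * (L.X⁻¹ * n * L.X) * L.r) * L.X⁻¹ := by group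
        _ = n⁻¹ := by rw [e1]; group
    have e4 : L.X * L.r * L.X⁻¹ * L.r = L.X * L.X := by
      rw [mul_assoc L.X, mul_assoc L.X, ← hX2]
    have e5 : (L.X * L.X) * n * (L.X * L.X)⁻¹ = n := by
      calc (L.X * L.X) * n * (L.X * L.X)⁻¹
          = (L.X * L.r * L.X⁻¹) * (L.r * n * L.r) * (L.X * L.r * L.X⁻¹) := by
            rw [← e4, mul_inv_rev, mul_inv_rev, mul_inv_rev, inv_inv, L.r_inv]; group
        _ = n := by
          rw [e2]
          calc L.X * L.r * L.X⁻¹ * n⁻¹ * (L.X * L.r * L.X⁻¹)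
              = ((L.X * L.r * L.X⁻¹)⁻¹ * n * (L.X * L.r * L.X⁻¹)⁻¹)⁻¹ := by group
            _ = (L.X * L.r * L.X⁻¹ * n * (L.X * L.r * L.X⁻¹))⁻¹ := by
              rw [mul_inv_rev (L.X * L.r), mul_inv_rev L.X L.r, inv_inv, L.r_inv, ← mul_assoc L.X]
            _ = n := by rw [e3, inv_inv]
    exact (mul_inv_eq_iff_eq_mul.1 e5).symm

/-- An element of order three and its image under the reflection. -/
theorem three_dvd {z : G} (hz : z * L.t = L.t * z) (hz3 : orderOf z = 3) :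
    3 ∣ orderOf (z⁻¹ * (L.r * z * L.r)) := by
  classical
  have : Fact (Nat.Prime 3) := ⟨Nat.prime_three⟩
  have := L.N_normal
  set q := QuotientGroup.mk' (L.N.subgroupOf L.H)
  set zH : ↥L.H := ⟨z, L.mem_H.2 hz⟩
  set rH : ↥L.H := ⟨L.r, L.φ_mem _⟩
  set xH : ↥L.H := ⟨L.X, L.φ_mem _⟩
  have hq3 : ∀ {a : ↥L.H}, orderOf (a : G) = 3 → orderOf (q a) = 3 := by
    intro a ha
    refine orderOf_eq_prime ?_ fun h => ?_
    · rw [← map_pow, show a ^ 3 = 1 from Subtype.ext (by rw [coe_pow, ← ha, pow_orderOf_eq_one, coe_one]),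
        map_one]
    · have ha' : (a : G) ∈ L.N := (QuotientGroup.eq_one_iff a).1 h
      exact L.N_three (ha ▸ L.N.orderOf_dvd_natCard ha')
  set e := q zH
  set c := q xH
  set b := q rH
  have he : orderOf e = 3 := hq3 hz3
  have hc : orderOf c = 3 := hq3 L.X_order
  have hi : (zpowers c).index = 2 := by
    have h1 := (zpowers c).card_mul_index
    rw [Nat.card_zpowers, hc, show Nat.card (↥L.H ⧸ L.N.subgroupOf L.H) = 6 from L.N_index] at h1
    omega
  have he3 : e ^ 3 = 1 := he ▸ pow_orderOf_eq_one e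
  have hmem : e ∈ zpowers c := by
    have := pow_mem (Subgroup.mul_self_mem_of_index_two hi e) 2
    rwa [← pow_two, ← pow_mul, show 2 * 2 = 3 + 1 from rfl, pow_add, he3, one_mul, pow_one] at this
  obtain ⟨k, hk⟩ := mem_zpowers_iff.1 hmem
  have hbb : b⁻¹ = b := inv_eq_of_mul_eq_one_right (by
    rw [← map_mul]; exact (congrArg q (Subtype.ext L.rr : rH * rH = 1)).trans (map_one q))
  have hbc : b * c * b⁻¹ = c⁻¹ := by
    rw [hbb, ← map_mul, ← map_mul, ← map_inv]; exact congrArg q (Subtype.ext L.rXr)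
  have hbe : b * e * b = e⁻¹ := by
    conv_lhs => arg 2; rw [← hbb]
    rw [← hk, ← MulAut.conj_apply, map_zpow, MulAut.conj_apply, hbc, inv_zpow]
  have hw : q (zH⁻¹ * (rH * zH * rH)) = e := by
    rw [map_mul, map_inv, map_mul, map_mul, hbe]
    calc e⁻¹ * e⁻¹ = e⁻¹ * e⁻¹ * e ^ 3 := by rw [he3, mul_one]
      _ = e := by group
  rw [show z⁻¹ * (L.r * z * L.r) = ((zH⁻¹ * (rH * zH * rH) : ↥L.H) : G) from rfl,
    Subgroup.orderOf_coe]
  exact he ▸ hw ▸ orderOf_map_dvd q _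

/-- Conjugation on `P`. -/
noncomputable def conjP (h6 : p.Coprime 6) (g : G) (hg : g * L.t = L.t * g) :
    MulAut ↥(L.P p) where
  toFun n := ⟨g * n * g⁻¹, L.P_conj h6 hg n.2⟩
  invFun n := ⟨g⁻¹ * n * g⁻¹⁻¹, L.P_conj h6 (L.mem_H.1 (inv_mem (L.mem_H.2 hg))) n.2⟩
  left_inv n := Subtype.ext (by
    show g⁻¹ * (g * n * g⁻¹) * g⁻¹⁻¹ = n
    group)
  right_inv n := Subtype.ext (by
    show g * (g⁻¹ * n * g⁻¹⁻¹) * g⁻¹ = n
    group)
  map_mul' a b := Subtype.ext (by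
    show g * ((a : G) * b) * g⁻¹ = g * a * g⁻¹ * (g * b * g⁻¹)
    group)

/-- An element commuting with the fixed points of the reflection and with one element of order three
commutes with all of `P`. -/
theorem P_le_cent (h6 : p.Coprime 6) {s z : G} (hz : z * L.t = L.t * z) (hz3 : orderOf z = 3)
    (hsz : s * z = z * s) (hs : ∀ f ∈ L.P p, f * L.r = L.r * f → s * f = f * s) :
    ∀ g ∈ L.P p, s * g = g * s := by
  classical
  set W := L.P p ⊓ centralizer ({s} : Set G) with hW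
  suffices h : L.P p ≤ W from fun g hg => (mem_centralizer_singleton_iff.1 (h hg).2).symm
  let a := L.conjP (p := p) h6 L.X (L.φ_comm _)
  let b := L.conjP (p := p) h6 L.r (L.φ_comm _)
  have hX3 := L.X3
  have hcard := fpf_card_le_of_coprime a b (by
      obtain ⟨n, hn⟩ := IsPGroup.iff_card.1
        ((default : Sylow p ↥L.N).isPGroup'.map L.N.subtype)
      rw [show Nat.card ↥(L.P p) = p ^ n from hn]
      exact Nat.Coprime.pow_left _ (Nat.Coprime.coprime_dvd_right (by norm_num) h6))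
    (fun g => Subtype.ext (by
      show L.X * (L.X * (L.X * g * L.X⁻¹) * L.X⁻¹) * L.X⁻¹ = g
      calc L.X * (L.X * (L.X * g * L.X⁻¹) * L.X⁻¹) * L.X⁻¹
          = (L.X * L.X * L.X) * g * (L.X * L.X * L.X)⁻¹ := by group
        _ = g := by rw [hX3, one_mul, inv_one, mul_one]))
    (fun g hg => Subtype.ext (L.fpf h6 g.2 (L.φ_comm _) L.X_order
      (mul_inv_eq_iff_eq_mul.1 (congrArg Subtype.val hg)).symm))
    (fun g => Subtype.ext (by
      show L.r * (L.r * g * L.r⁻¹) * L.r⁻¹ = g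
      calc L.r * (L.r * g * L.r⁻¹) * L.r⁻¹ = (L.r * L.r) * g * (L.r * L.r)⁻¹ := by group
        _ = g := by rw [L.rr, one_mul, inv_one, mul_one]))
    (fun g => Subtype.ext (by
      show L.r * (L.X * g * L.X⁻¹) * L.r⁻¹ = L.X * (L.X * (L.r * g * L.r⁻¹) * L.X⁻¹) * L.X⁻¹
      have hrX : L.r * L.X = L.X * L.X * L.r := by
        calc L.r * L.X = (L.r * L.X * L.r) * L.r := by rw [mul_assoc _ L.r L.r, L.rr, mul_one]
          _ = _ := by rw [L.rXr, inv_eq_of_mul_eq_one_right (a := L.X) (b := L.X * L.X)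
              (by rw [← mul_assoc, hX3])]
      calc L.r * (L.X * g * L.X⁻¹) * L.r⁻¹ = (L.r * L.X) * g * (L.r * L.X)⁻¹ := by group
        _ = _ := by rw [hrX]; group))
  set Fx := {c : ↥(L.P p) // b c = c}
  have hFr : ∀ c : Fx, ((c : ↥(L.P p)) : G) * L.r = L.r * (c : ↥(L.P p)) := fun c =>
    (mul_inv_eq_iff_eq_mul.1 (congrArg Subtype.val c.2)).symm
  have hFs : ∀ c : Fx, ((c : ↥(L.P p)) : G) ∈ W := fun c => ⟨c.1.2,
    mem_centralizer_singleton_iff.2 (hs _ c.1.2 (hFr c)).symm⟩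
  let F : Fx × Fx → ↥W := fun q => ⟨(q.1 : ↥(L.P p)) * (z * (q.2 : ↥(L.P p)) * z⁻¹),
    mul_mem (hFs q.1) ⟨L.P_conj h6 hz q.2.1.2, mem_centralizer_singleton_iff.2 (by
      have e := (mem_centralizer_singleton_iff.1 (hFs q.2).2)
      have hzi : z⁻¹ * s = s * z⁻¹ := (show Commute s z from hsz).inv_right.eq.symm
      calc z * (q.2 : ↥(L.P p)) * z⁻¹ * s = z * ((q.2 : ↥(L.P p)) * (z⁻¹ * s)) := by group
        _ = z * ((q.2 : ↥(L.P p)) * s) * z⁻¹ := by rw [hzi]; group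
        _ = (z * s) * (q.2 : ↥(L.P p)) * z⁻¹ := by rw [e]; group
        _ = _ := by rw [← hsz]; group)⟩⟩
  have hF : Function.Injective F := by
    rintro ⟨⟨⟨p1, hp1⟩, hb1⟩, ⟨⟨q1, hq1⟩, hd1⟩⟩ ⟨⟨⟨p2, hp2⟩, hb2⟩, ⟨⟨q2, hq2⟩, hd2⟩⟩ h
    have h' : p1 * (z * q1 * z⁻¹) = p2 * (z * q2 * z⁻¹) := congrArg Subtype.val h
    set c := q2 * q1⁻¹ with hc
    have hzc : p2⁻¹ * p1 = z * c * z⁻¹ := by
      calc p2⁻¹ * p1 = p2⁻¹ * (p1 * (z * q1 * z⁻¹)) * (z * q1⁻¹ * z⁻¹) := by group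
        _ = _ := by rw [h', hc]; group
    have hr : ∀ {g : G} (hg : g ∈ L.P p), b ⟨g, hg⟩ = ⟨g, hg⟩ → Commute L.r g := fun hg e =>
      mul_inv_eq_iff_eq_mul.1 (congrArg Subtype.val e)
    have hcr : Commute L.r c := (hr hq2 hd2).mul_right (hr hq1 hd1).inv_right
    have hzcr : Commute L.r (z * c * z⁻¹) := hzc ▸ ((hr hp2 hb2).inv_right.mul_right (hr hp1 hb1))
    set w := z⁻¹ * (L.r * z * L.r) with hw
    have hwc : Commute w c := by
      show w * c = c * w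
      calc w * c = z⁻¹ * (L.r * z * (L.r * c)) := by rw [hw]; group
        _ = z⁻¹ * (L.r * (z * c * z⁻¹)) * z * L.r := by rw [hcr.eq]; group
        _ = c * w := by rw [hzcr.eq, hw]; group
    have hc1 : c = 1 := by
      have hwo : 0 < orderOf w := orderOf_pos w
      refine L.fpf h6 (mul_mem hq2 (inv_mem hq1)) (z := w ^ (orderOf w / 3)) ?_
        (orderOf_pow_orderOf_div hwo.ne' (L.three_dvd hz hz3)) (hwc.pow_left _).symm.eq
      exact L.mem_H.1 (pow_mem (mul_mem (inv_mem (L.mem_H.2 hz))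
        (mul_mem (mul_mem (L.φ_mem _) (L.mem_H.2 hz)) (L.φ_mem _))) _)
    have hq : q1 = q2 := (mul_inv_eq_one.1 hc1).symm
    subst hq
    have hp : p1 = p2 := mul_right_cancel h'
    subst hp
    rfl
  have h2 : Nat.card (Fx × Fx) ≤ Nat.card W := Nat.card_le_card_of_injective F hF
  rw [Nat.card_prod] at h2
  have := eq_of_le_of_card_ge (inf_le_left : W ≤ L.P p) (hcard.trans h2)
  exact this.ge

/-- If `|R| = 8` the only involution of `R` is `t`. -/
theorem invol_R (hR : Nat.card L.R = 8) {d : G} (hd : d ∈ L.R) (hdd : d * d = 1) :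
    d = 1 ∨ d = L.t := by
  classical
  have hv : L.φ (xM * uM * xM⁻¹) ∈ L.R := by
    rw [map_mul, map_mul, map_inv]; exact L.R_conj (L.φ_comm _) L.U_R
  have hneg : ∀ g, L.φ g ∈ L.R → L.φ (-g) ∈ L.R := fun g hg => by
    rw [← neg_one_mul, map_mul, L.φ_neg]; exact mul_mem L.t_R hg
  have huv : L.φ (uM * (xM * uM * xM⁻¹)) ∈ L.R := by rw [map_mul]; exact mul_mem L.U_R hv
  have hall : ∀ g ∈ qList, L.φ g ∈ L.R := by
    intro g hg
    simp only [qList, List.mem_cons, List.not_mem_nil, or_false] at hg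
    rcases hg with rfl | rfl | rfl | rfl | rfl | rfl | rfl | rfl
    · rw [map_one]; exact one_mem _
    · rw [L.φ_neg]; exact L.t_R
    · exact L.U_R
    · exact hneg _ L.U_R
    · exact hv
    · exact hneg _ hv
    · exact huv
    · exact hneg _ huv
  let f : {g // g ∈ qList} → ↥L.R := fun g => ⟨L.φ g, hall g g.2⟩
  have hf : Function.Injective f := fun a b h => Subtype.ext (L.φ_inj (congrArg Subtype.val h))
  have hb := hf.bijective_of_nat_card_le (by
    rw [hR, Nat.card_eq_fintype_card, Fintype.card_subtype]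
    exact le_of_eq qList_count.1.symm)
  obtain ⟨⟨g, hg⟩, e⟩ := hb.2 ⟨d, hd⟩
  obtain rfl : L.φ g = d := congrArg Subtype.val e
  rcases qList_sq g hg with h | h | h
  · rw [← map_mul, h, L.φ_neg] at hdd
    exact absurd hdd L.t_ne_one
  · exact Or.inl (by rw [h, map_one])
  · exact Or.inr (by rw [h, L.φ_neg])

/-- If `|R| = 8` and `|H| ≠ 48` a prime at least 5 divides `|N|`. -/
theorem exists_prime (hR : Nat.card L.R = 8) (hH : Nat.card L.H ≠ 48) :
    ∃ q : ℕ, q.Prime ∧ q.Coprime 6 ∧ q ∣ Nat.card L.N := by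
  have := L.N_normal
  set S := (default : Sylow 2 ↥L.N)
  have hS : Nat.card (S : Subgroup ↥L.N) = 8 := by
    rw [← hR]
    exact Nat.card_congr ((S : Subgroup ↥L.N).equivMapOfInjective _ L.N.subtype_injective).toEquiv
  have hm : (S : Subgroup ↥L.N).index ≠ 1 := fun h => hH (by
    have h1 := (L.N.subgroupOf L.H).card_mul_index
    rw [show (L.N.subgroupOf L.H).index = 6 from L.N_index,
      Nat.card_congr (subgroupOfEquivOfLe L.N_le).toEquiv,
      ← (S : Subgroup ↥L.N).card_mul_index, hS, h] at h1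
    omega)
  have hd : (S : Subgroup ↥L.N).index ∣ Nat.card L.N := index_dvd_card _
  have hq := Nat.minFac_prime hm
  set q := (S : Subgroup ↥L.N).index.minFac
  refine ⟨q, hq, ?_, (Nat.minFac_dvd _).trans hd⟩
  have h2 : q ≠ 2 := fun h => S.not_dvd_index (h.symm.dvd.trans (Nat.minFac_dvd _))
  have h3 : q ≠ 3 := fun h => L.N_three (by rw [← h]; exact (Nat.minFac_dvd _).trans hd)
  rw [show 6 = 2 * 3 from rfl]
  exact Nat.Coprime.mul_right ((Nat.coprime_primes hq Nat.prime_two).2 h2)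
    ((Nat.coprime_primes hq Nat.prime_three).2 h3)

end Loc

end CfsgLib.Recog.MTwelveAmalgam
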