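import Cfsg.Agent.Lib.Recog.MTwelveAmalgam.Cfg
import Cfsg.Agent.Lib.Recog.MTwelveAmalgam.NOneLoc
import Cfsg.Agent.Lib.Recog.MTwelveAmalgam.NOneFrame

/-!
# The case `|R| = 8`: the involution centraliser is `GL₂(3)`

Otherwise a prime `p ≥ 5` divides `|N|`. The `p`-elements commuting with `t` and `τ` commute with the
two quaternion groups, hence with an element `σ` of order three inducing a three-cycle on
`⟨t, τ⟩` and inverted by an involution `i` centralising `t`. An element of order three centralises `σ`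
and `i`, so `σ` centralises the whole `p`-part of `C(i)`, hence so does `t`: impossible.
-/

set_option autoImplicit false
set_option linter.unusedSectionVars false

namespace CfsgLib.Recog.MTwelveAmalgam

open Subgroup

universe u

variable {G : Type u} [Group G] [Finite G]

namespace Loc

variable (L : Loc G)

theorem U_r_U : L.U * L.r * L.U⁻¹ = L.r * L.t := by
  have hrt : L.r * L.t = L.t * L.r := L.φ_comm _
  have h1 : L.U⁻¹ * L.r * L.U = L.r * L.t := by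
    have h1 : L.U⁻¹ * (L.r * L.U * L.r) = L.t := by rw [L.rUr, inv_mul_cancel_left]
    calc L.U⁻¹ * L.r * L.U = L.U⁻¹ * (L.r * L.U * L.r) * L.r⁻¹ := by group
      _ = _ := by rw [h1, L.r_inv, hrt]
  calc L.U * L.r * L.U⁻¹ = (L.U * L.U) * (L.U⁻¹ * L.r * L.U) * (L.U * L.U)⁻¹ := by group
    _ = L.t * (L.r * L.t) * L.t⁻¹ := by rw [h1, L.UU]
    _ = _ := by rw [mul_inv_eq_iff_eq_mul, hrt, mul_assoc L.t L.r, hrt]

/-- The involution `U r`. -/
theorem Ur_invol : (L.U * L.r) * L.t = L.t * (L.U * L.r) ∧ (L.U * L.r) * (L.U * L.r) = 1 ∧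
    L.U * L.r ∉ L.R := by
  refine ⟨?_, ?_, fun h => L.r_not_R ?_⟩
  · rw [mul_assoc, L.φ_comm, ← mul_assoc, L.φ_comm, mul_assoc]
  · calc L.U * L.r * (L.U * L.r) = L.U * (L.r * L.U * L.r) := by group
      _ = 1 := by rw [L.rUr, ← mul_assoc, L.UU, L.tt]
  · have := mul_mem (inv_mem L.U_R) h
    rwa [inv_mul_cancel_left] at this

theorem card_N : Nat.card L.H = 6 * Nat.card L.N := by
  have h1 := (L.N.subgroupOf L.H).card_mul_index
  rw [show (L.N.subgroupOf L.H).index = 6 from L.N_index,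
    Nat.card_congr (subgroupOfEquivOfLe L.N_le).toEquiv] at h1
  omega

theorem card_R_two : Nat.card L.R = 2 ^ (Nat.card L.N).factorization 2 := by
  rw [← (default : Sylow 2 ↥L.N).card_eq_multiplicity]
  exact (Nat.card_congr (((default : Sylow 2 ↥L.N) : Subgroup ↥L.N).equivMapOfInjective _
    L.N.subtype_injective).toEquiv).symm

end Loc

namespace Cfg

variable (C : Cfg G)

/-- The amalgam behind the configuration. -/
def Anchor : Prop :=
  ∃ A B QA QB : Subgroup G, Amal A B QA QB ∧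
    Frame A B QA QB C.Lt.t C.Lτ.t (C.Lt.φ xM) (C.Lτ.φ xM) C.z

theorem conj_t_τ : C.u⁻¹ * C.u' * C.t * (C.u⁻¹ * C.u')⁻¹ = C.τ := by
  have e1 : C.u * C.τ * C.u⁻¹ = C.τ * C.t := by
    have := C.Lt.U_r_U
    rwa [show C.Lt.r = C.Lτ.t from C.φt_tau] at this
  have e2 : C.u' * C.t * C.u'⁻¹ = C.t * C.τ := by
    have := C.Lτ.U_r_U
    rwa [show C.Lτ.r = C.Lt.t from C.φτ_tau] at this
  have e3 : C.τ * C.t = C.t * C.τ := by
    have := C.Lt.φ_comm tauM
    rwa [C.φt_tau] at this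
  calc C.u⁻¹ * C.u' * C.t * (C.u⁻¹ * C.u')⁻¹ = C.u⁻¹ * (C.u' * C.t * C.u'⁻¹) * C.u := by group
    _ = C.u⁻¹ * (C.u * C.τ * C.u⁻¹) * C.u := by rw [e1, e2, e3]
    _ = C.τ := by group

theorem card_H_eq : Nat.card C.Lτ.H = Nat.card C.Lt.H := by
  refine (Nat.card_congr ((MulAut.conj (C.u⁻¹ * C.u')).toEquiv.subtypeEquiv fun g => ?_)).symm
  rw [C.Lt.mem_H, C.Lτ.mem_H]
  show _ ↔ MulAut.conj (C.u⁻¹ * C.u') g * C.τ = C.τ * MulAut.conj (C.u⁻¹ * C.u') g
  rw [← C.conj_t_τ, ← MulAut.conj_apply (C.u⁻¹ * C.u') C.t, ← map_mul, ← map_mul,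
    (MulEquiv.injective _).eq_iff]

/-- **The case `|R| = 8`.** -/
theorem card_H_of_R_eight (hA : C.Anchor) (hR : Nat.card C.Lt.R = 8) :
    Nat.card C.Lt.H = 48 := by
  classical
  obtain ⟨A, B, QA, QB, M, F⟩ := hA
  obtain ⟨ψ, hψ⟩ := M.swap.exists_side F.swap
  by_contra hH
  obtain ⟨p, hp, h6, hpd⟩ := C.Lt.exists_prime hR hH
  have : Fact p.Prime := ⟨hp⟩
  have hRτ : Nat.card C.Lτ.R = 8 := by
    have h1 := C.Lτ.card_N
    rw [C.card_H_eq, C.Lt.card_N] at h1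
    rw [C.Lτ.card_R_two, ← show Nat.card C.Lt.N = Nat.card C.Lτ.N by omega, ← C.Lt.card_R_two, hR]
  set t := C.Lt.t with ht
  set τ := C.Lτ.t with hτ
  have hrt : C.Lt.r = τ := C.φt_tau
  have hrτ : C.Lτ.r = t := C.φτ_tau
  have htτ : t * τ = τ * t := F.tτ
  -- no element of order prime to 6 centralises a conjugate of an element of `QB`
  have noQB : ∀ s f c : G, c * s * c⁻¹ ∈ QB → c * s * c⁻¹ ≠ 1 → s * f = f * s →
      (∃ k, orderOf f = p ^ k) → f = 1 := by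
    intro s f c hs hs1 hsf ⟨k, hk⟩
    have hfB : c * f * c⁻¹ ∈ B := M.swap.cent_le F.swap hψ hs hs1 (by
      calc c * f * c⁻¹ * (c * s * c⁻¹) = c * (f * s) * c⁻¹ := by group
        _ = _ := by rw [← hsf]; group)
    have h1 := B.orderOf_dvd_natCard hfB
    rw [M.nb.cardA, ← MulAut.conj_apply, MulEquiv.orderOf_eq, hk] at h1
    have h2 : p ^ k = 1 := Nat.eq_one_of_dvd_coprimes
      (show (p ^ k).Coprime 432 by
        rw [show 432 = 2 ^ 4 * 3 ^ 3 from rfl]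
        exact Nat.Coprime.mul_right
          (Nat.Coprime.pow _ _ (h6.coprime_dvd_right (by norm_num)))
          (Nat.Coprime.pow _ _ (h6.coprime_dvd_right (by norm_num))))
      dvd_rfl h1
    rw [← orderOf_eq_one_iff, hk, h2]
  -- a nontrivial `p`-element commuting with `t` and `τ`
  obtain ⟨f, hf, hf1, hfr⟩ := C.Lt.exists_fixed_P (p := p) h6 hpd
  rw [hrt] at hfr
  obtain ⟨hft, hfk⟩ := (C.Lt.mem_P h6).1 hf
  -- the involutions `i`, `i'`
  set i := C.Lt.U * τ with hi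
  set i' := C.Lτ.U * t with hi'
  obtain ⟨hit, hii, hiR⟩ := C.Lt.Ur_invol
  rw [hrt] at hit hii hiR
  obtain ⟨hi't, hi'i, -⟩ := C.Lτ.Ur_invol
  rw [hrτ] at hi't hi'i
  rw [← hi] at hit hii hiR
  rw [← hi'] at hi't hi'i
  have hinvi : i⁻¹ = i := inv_eq_of_mul_eq_one_right hii
  have hinvi' : i'⁻¹ = i' := inv_eq_of_mul_eq_one_right hi'i
  have act1 : i * τ * i⁻¹ = τ * t := by
    have := C.Lt.U_r_U
    rw [hrt] at this
    calc i * τ * i⁻¹ = C.Lt.U * (τ * τ * τ⁻¹) * C.Lt.U⁻¹ := by rw [hi]; group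
      _ = _ := by rw [mul_inv_cancel_right, this]
  have act2 : i' * t * i'⁻¹ = t * τ := by
    have := C.Lτ.U_r_U
    rw [hrτ] at this
    calc i' * t * i'⁻¹ = C.Lτ.U * (t * t * t⁻¹) * C.Lτ.U⁻¹ := by rw [hi']; group
      _ = _ := by rw [mul_inv_cancel_right, this]
  have act1t : i * t * i⁻¹ = t := by rw [hit, mul_inv_cancel_right]
  have act2τ : i' * τ * i'⁻¹ = τ := by rw [hi't, mul_inv_cancel_right]
  -- elements commuting with `t` and `i`
  have key : ∀ w : G, w * t = t * w → w * i = i * w → (∃ k, orderOf w = p ^ k) →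
      Commute w i ∧ Commute w i' := by
    intro w hwt hwi hwk
    have hwP : w ∈ C.Lt.P p := (C.Lt.mem_P h6).2 ⟨hwt, hwk⟩
    have hwu : Commute w C.Lt.U := C.Lt.P_comm_R h6 hwP C.Lt.U_R
    have hwτ : Commute w τ := by
      have := hwu.inv_right.mul_right (show Commute w i from hwi)
      rwa [hi, inv_mul_cancel_left] at this
    have hwu' : Commute w C.Lτ.U :=
      C.Lτ.P_comm_R h6 ((C.Lτ.mem_P h6).2 ⟨hwτ.eq, hwk⟩) C.Lτ.U_R
    exact ⟨hwi, hwu'.mul_right hwt⟩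
  -- the element `σ`
  set g := i * i' with hg
  have g1 : g * t * g⁻¹ = τ := by
    calc g * t * g⁻¹ = i * (i' * t * i'⁻¹) * i⁻¹ := by rw [hg]; group
      _ = (i * t * i⁻¹) * (i * τ * i⁻¹) := by rw [act2]; group
      _ = τ := by
        rw [act1t, act1, ← mul_assoc, htτ, mul_assoc, C.Lt.tt, mul_one]
  have g2 : g * τ * g⁻¹ = τ * t := by
    calc g * τ * g⁻¹ = i * (i' * τ * i'⁻¹) * i⁻¹ := by rw [hg]; group
      _ = _ := by rw [act2τ, act1]
  have g3 : g * (τ * t) * g⁻¹ = t := by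
    calc g * (τ * t) * g⁻¹ = (g * τ * g⁻¹) * (g * t * g⁻¹) := by group
      _ = t := by rw [g1, g2, mul_assoc, htτ, ← mul_assoc, C.Lτ.tt, one_mul]
  have g3t : Commute (g ^ 3) t := by
    show g ^ 3 * t = t * g ^ 3
    refine mul_inv_eq_iff_eq_mul.1 ?_
    calc g ^ 3 * t * (g ^ 3)⁻¹ = g * (g * (g * t * g⁻¹) * g⁻¹) * g⁻¹ := by
          rw [pow_succ, pow_two]; group
      _ = t := by rw [g1, g2, g3]
  have hτ1 : τ ≠ t := fun h => C.Lt.r_ne_t (hrt.trans h)
  have hτ2 : τ * t ≠ t := fun h => C.Lt.r_ne (hrt.trans (mul_eq_right.1 h))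
  have gpow : ∀ n : ℕ, (n % 3 = 1 → g ^ n * t * (g ^ n)⁻¹ = τ) ∧
      (n % 3 = 2 → g ^ n * t * (g ^ n)⁻¹ = τ * t) := by
    intro n
    have e : g ^ n * t * (g ^ n)⁻¹ = g ^ (n % 3) * t * (g ^ (n % 3))⁻¹ := by
      have h := (g3t.pow_left (n / 3)).eq
      conv_lhs => rw [← Nat.mod_add_div n 3, pow_add, pow_mul]
      calc g ^ (n % 3) * (g ^ 3) ^ (n / 3) * t * (g ^ (n % 3) * (g ^ 3) ^ (n / 3))⁻¹
          = g ^ (n % 3) * ((g ^ 3) ^ (n / 3) * t) * ((g ^ 3) ^ (n / 3))⁻¹ * (g ^ (n % 3))⁻¹ := by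
            group
        _ = _ := by rw [h]; group
    refine ⟨fun h => ?_, fun h => ?_⟩
    · rw [e, h, pow_one, g1]
    · rw [e, h, pow_two, mul_inv_rev]
      calc g * g * t * (g⁻¹ * g⁻¹) = g * (g * t * g⁻¹) * g⁻¹ := by group
        _ = _ := by rw [g1, g2]
  have h3o : 3 ∣ orderOf g := by
    rw [Nat.dvd_iff_mod_eq_zero]
    by_contra h
    have e : g ^ orderOf g * t * (g ^ orderOf g)⁻¹ = t := by
      rw [pow_orderOf_eq_one, one_mul, inv_one, mul_one]
    rcases (show orderOf g % 3 = 1 ∨ orderOf g % 3 = 2 by omega) with h' | h'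
    · exact hτ1 (((gpow _).1 h').symm.trans e)
    · exact hτ2 (((gpow _).2 h').symm.trans e)
  obtain ⟨b, e, he3, hbe⟩ :=
    Nat.exists_eq_pow_mul_and_not_dvd (orderOf_pos g).ne' 3 (by norm_num)
  set σ := g ^ e with hσ
  have hσo : orderOf σ = 3 ^ b := by
    rw [hσ, orderOf_pow_of_dvd (by intro h; simp [h] at he3) (hbe ▸ dvd_mul_left _ _), hbe,
      Nat.mul_div_left _ (Nat.pos_of_ne_zero fun h => by simp [h] at he3)]
  have hσ3 : σ ^ 3 = 1 := M.exp_three C.Lt.h27 C.Lt.h81 hσo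
  have hσt : σ * t * σ⁻¹ * (σ * σ * t * (σ * σ)⁻¹) = t := by
    have hσσ : σ * σ = g ^ (2 * e) := by rw [hσ, ← pow_add, two_mul]
    rw [hσσ, hσ]
    rcases (show e % 3 = 1 ∨ e % 3 = 2 by omega) with h | h
    · rw [(gpow e).1 h, (gpow (2 * e)).2 (by omega), ← mul_assoc, C.Lτ.tt, one_mul]
    · rw [(gpow e).2 h, (gpow (2 * e)).1 (by omega), mul_assoc, htτ, ← mul_assoc, C.Lτ.tt, one_mul]
  have hiσ : i * σ * i = σ⁻¹ := by
    have h1 : i * g * i⁻¹ = g⁻¹ := by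
      rw [hinvi, hg]
      refine eq_inv_of_mul_eq_one_left ?_
      calc i * (i * i') * i * (i * i') = (i * i) * i' * (i * i) * i' := by group
        _ = 1 := by rw [hii, one_mul, mul_one, hi'i]
    calc i * σ * i = MulAut.conj i (g ^ e) := by rw [MulAut.conj_apply, hinvi]
      _ = σ⁻¹ := by rw [map_pow, MulAut.conj_apply, h1, inv_pow]
  -- transport `i` to `τ`
  obtain ⟨h, hht, hh⟩ := C.Lt.outside hit hii hiR
  rw [hrt] at hh
  set s := h⁻¹ * σ * h with hs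
  have hτs : τ * s * τ = s⁻¹ := by
    have : τ = h⁻¹ * i * h := by rw [← hh]; group
    rw [this, hs]
    calc h⁻¹ * i * h * (h⁻¹ * σ * h) * (h⁻¹ * i * h) = h⁻¹ * (i * σ * i) * h := by group
      _ = _ := by rw [hiσ]; group
  have hti : h⁻¹ * t * h = t := by
    rw [mul_assoc, ← hht, inv_mul_cancel_left]
  have hsF : ∀ w ∈ C.Lτ.P p, w * C.Lτ.r = C.Lτ.r * w → s * w = w * s := by
    intro w hw hwr
    obtain ⟨hwτ, k, hk⟩ := (C.Lτ.mem_P h6).1 hw
    rw [hrτ] at hwr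
    obtain ⟨c1, c2⟩ := key (h * w * h⁻¹)
      (by
        calc h * w * h⁻¹ * t = h * w * (h⁻¹ * t * h) * h⁻¹ := by group
          _ = h * (t * w) * h⁻¹ := by rw [hti, mul_assoc h w t, hwr]
          _ = _ := by rw [← mul_assoc, hht]; group; rfl)
      (by
        rw [← hh]
        calc h * w * h⁻¹ * (h * τ * h⁻¹) = h * (w * τ) * h⁻¹ := by group
          _ = _ := by rw [show w * τ = τ * w from hwτ]; group)
      ⟨k, by rw [← MulAut.conj_apply, MulEquiv.orderOf_eq, hk]⟩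
    have hc : Commute (h * w * h⁻¹) σ := (c1.mul_right c2).pow_right e
    rw [hs]
    calc h⁻¹ * σ * h * w = h⁻¹ * (σ * (h * w * h⁻¹)) * h := by group
      _ = h⁻¹ * ((h * w * h⁻¹) * σ) * h := by rw [hc.eq]
      _ = _ := by group
  -- `f` as an element for `τ`
  have hfP : f ∈ C.Lτ.P p := (C.Lτ.mem_P h6).2 ⟨hfr, hfk⟩
  have hfr' : f * C.Lτ.r = C.Lτ.r * f := by rw [hrτ]; exact hft
  have hsf : s * f = f * s := hsF f hfP hfr'
  -- `σ` is not trivial
  have hσ1 : σ ≠ 1 := fun h1 => by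
    have hb : b ≠ 0 := by
      rintro rfl
      rw [hbe, pow_zero, one_mul] at h3o
      exact he3 h3o
    have h2 := hσo
    rw [h1, orderOf_one] at h2
    exact absurd (Nat.pow_eq_one.1 h2.symm) (by simp [hb])
  have hs1 : s ≠ 1 := fun h1 => hσ1 (by
    have : σ = h * s * h⁻¹ := by rw [hs]; group
    rw [this, h1, mul_one, mul_inv_cancel])
  have hso : orderOf s = 3 := orderOf_eq_prime (by
    rw [hs, show h⁻¹ * σ * h = h⁻¹ * σ * h⁻¹⁻¹ by group, conj_pow, hσ3, mul_one, mul_inv_cancel]) hs1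
  -- an element of order three centralising `s` and `τ`
  obtain ⟨z0, hz0τ, hz0o, hz0s⟩ : ∃ z0 : G, z0 * τ = τ * z0 ∧ orderOf z0 = 3 ∧ s * z0 = z0 * s := by
    obtain ⟨c, a, ha, q, hq, hcs⟩ := M.conj_mem_S C.Lt.h27 C.Lt.h81 (k := 1) (g := s)
      (by rw [hso, pow_one])
    have hcs1 : c * s * c⁻¹ ≠ 1 := fun h => hs1 (conj_eq_one_iff.1 h)
    have hnot : a * q ∉ QB := fun h => hf1 (noQB s f c (hcs ▸ h) hcs1 hsf hfk)
    obtain ⟨d, hd1, hd2, hd3⟩ := F.conj_inverted M ha hq hnot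
    set k := d * c with hk
    rw [← hcs, show d * (c * s * c⁻¹) * d⁻¹ = k * s * k⁻¹ by rw [hk]; group] at hd1 hd2
    set j := k⁻¹ * (t * τ) * k with hj
    set z2 := k⁻¹ * C.z * k with hz2
    have htt0 : (t * τ) * (t * τ) = 1 := by
      calc (t * τ) * (t * τ) = t * (τ * t) * τ := by group
        _ = (t * t) * (τ * τ) := by rw [← htτ]; group
        _ = 1 := by rw [C.Lt.tt, C.Lτ.tt, one_mul]
    have hjj : j * j = 1 := by
      calc j * j = k⁻¹ * ((t * τ) * (t * τ)) * k := by rw [hj]; group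
        _ = 1 := by rw [htt0, mul_one, inv_mul_cancel]
    have hjs : j * s * j = s⁻¹ := by
      calc j * s * j = k⁻¹ * ((t * τ) * (k * s * k⁻¹) * (t * τ)) * k := by rw [hj]; group
        _ = _ := by rw [hd1]; group
    have hz2s : z2 * s = s * z2 := by
      calc z2 * s = k⁻¹ * (C.z * (k * s * k⁻¹)) * k := by rw [hz2]; group
        _ = _ := by rw [hd2, hz2]; group
    have hz2j : z2 * j = j * z2 := by
      calc z2 * j = k⁻¹ * (C.z * (t * τ)) * k := by rw [hz2, hj]; group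
        _ = _ := by rw [hd3, hz2, hj]; group
    have hz2o : orderOf z2 = 3 := by
      rw [hz2, show k⁻¹ * C.z * k = MulAut.conj k⁻¹ C.z by rw [MulAut.conj_apply, inv_inv],
        MulEquiv.orderOf_eq]
      exact orderOf_eq_prime (M.na.exp _ F.zA) F.z1
    -- the dihedral group `⟨τ, j⟩`
    set w := j * τ with hw
    have hτi := inv_eq_of_mul_eq_one_right C.Lτ.tt
    have hji := inv_eq_of_mul_eq_one_right hjj
    have hws : Commute w s := by
      show w * s = s * w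
      calc w * s = j * (τ * s * τ) * τ⁻¹ := by rw [hw]; group
        _ = j * s⁻¹ * τ := by rw [hτs, hτi]
        _ = (j * s * j⁻¹)⁻¹ * j * τ := by group
        _ = _ := by rw [hji, hjs, inv_inv, hw, mul_assoc]
    have hjw : j * w * j⁻¹ = w⁻¹ := by
      refine eq_inv_of_mul_eq_one_left ?_
      calc j * w * j⁻¹ * w = j * j * τ * (j⁻¹ * j) * τ := by rw [hw]; group
        _ = 1 := by rw [hjj, one_mul, inv_mul_cancel, mul_one, C.Lτ.tt]
    rcases Nat.even_or_odd' (orderOf w) with ⟨m, hm | hm⟩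
    · exfalso
      set d' := w ^ m with hd'
      have hm0 : 0 < m := by have := orderOf_pos w; omega
      have hdne : d' ≠ 1 := pow_ne_one_of_lt_orderOf hm0.ne' (by omega)
      have hdd : d' * d' = 1 := by rw [hd', ← pow_add, ← two_mul, ← hm, pow_orderOf_eq_one]
      have hds : Commute d' s := hws.pow_left m
      have hτw : τ * w * τ⁻¹ = w⁻¹ := by
        rw [hw, mul_inv_rev, hτi, hji]
        calc τ * (j * τ) * τ = τ * j * (τ * τ) := by group
          _ = τ * j := by rw [C.Lτ.tt, mul_one]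
      have hdτ : d' * τ = τ * d' := by
        have : τ * d' * τ⁻¹ = d' := by
          rw [hd', ← MulAut.conj_apply, map_pow, MulAut.conj_apply, hτw, inv_pow, ← hd']
          exact inv_eq_of_mul_eq_one_right hdd
        exact (mul_inv_eq_iff_eq_mul.1 this).symm
      by_cases hdR : d' ∈ C.Lτ.R
      · rcases C.Lτ.invol_R hRτ hdR hdd with h1 | h1
        · exact hdne h1
        · have h2 : τ * s * τ = s := by
            have := hds.eq
            rw [h1, ← hτ] at this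
            rw [this, mul_assoc, C.Lτ.tt, mul_one]
          rw [hτs] at h2
          have h4 : orderOf s ∣ 2 := orderOf_dvd_of_pow_eq_one (by
            rw [pow_two]; exact inv_eq_iff_mul_eq_one.1 h2)
          rw [hso] at h4
          norm_num at h4
      · obtain ⟨h', -, hh'⟩ := C.Lτ.outside hdτ hdd hdR
        rw [hrτ] at hh'
        have hst : (h'⁻¹ * s * h') * t = t * (h'⁻¹ * s * h') := by
          calc h'⁻¹ * s * h' * t = h'⁻¹ * (s * (h' * t * h'⁻¹)) * h' := by group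
            _ = h'⁻¹ * ((h' * t * h'⁻¹) * s) * h' := by rw [hh', hds.eq]
            _ = _ := by group
        obtain ⟨l, -, -, hl⟩ := C.Lt.conj_X_three hst (by
          rw [show h'⁻¹ * s * h' = MulAut.conj h'⁻¹ s by rw [MulAut.conj_apply, inv_inv],
            MulEquiv.orderOf_eq, hso])
        have hl' : (l * h'⁻¹) * s * (l * h'⁻¹)⁻¹ ∈ QB := by
          rw [show l * h'⁻¹ * s * (l * h'⁻¹)⁻¹ = l * (h'⁻¹ * s * h') * l⁻¹ by group]
          exact (zpowers_le.2 F.xQ) hl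
        exact hf1 (noQB s f _ hl' (fun h => hs1 (conj_eq_one_iff.1 h)) hsf hfk)
    · refine ⟨w ^ m * z2 * (w ^ m)⁻¹, ?_, by
        rw [← MulAut.conj_apply, MulEquiv.orderOf_eq, hz2o], ?_⟩
      · -- `w ^ m` conjugates `j` to `τ`
        have hwj : w ^ m * j * (w ^ m)⁻¹ = τ := by
          have h1 : j * (w ^ m)⁻¹ = w ^ m * j := by
            have h2 : j * w ^ m * j⁻¹ = (w ^ m)⁻¹ := by
              rw [← MulAut.conj_apply, map_pow, MulAut.conj_apply, hjw, inv_pow]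
            calc j * (w ^ m)⁻¹ = (j * j) * w ^ m * j⁻¹ := by rw [← h2]; group
              _ = _ := by rw [hjj, one_mul, hji]
          have h3 : w ^ (2 * m) = w⁻¹ := eq_inv_of_mul_eq_one_left (by
            rw [← pow_succ, ← hm, pow_orderOf_eq_one])
          rw [mul_assoc, h1, ← mul_assoc, ← pow_add, ← two_mul, h3, hw, mul_inv_rev, hτi, hji,
            mul_assoc, hjj, mul_one]
        rw [← hwj]
        calc w ^ m * z2 * (w ^ m)⁻¹ * (w ^ m * j * (w ^ m)⁻¹)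
            = w ^ m * (z2 * j) * (w ^ m)⁻¹ := by group
          _ = _ := by rw [hz2j]; group
      · have hwm : Commute (w ^ m) s := hws.pow_left m
        calc s * (w ^ m * z2 * (w ^ m)⁻¹) = (s * w ^ m) * z2 * (w ^ m)⁻¹ := by group
          _ = w ^ m * (s * z2) * (w ^ m)⁻¹ := by rw [hwm.symm.eq]; group
          _ = w ^ m * z2 * (s * (w ^ m)⁻¹) := by rw [← hz2s]; group
          _ = _ := by rw [hwm.symm.inv_right.eq]; group
  -- `σ` centralises the `p`-part at `τ`, hence so does `t`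
  have hall := C.Lτ.P_le_cent h6 hz0τ hz0o hz0s hsF
  have hallt : ∀ w ∈ C.Lτ.P p, w * t = t * w := by
    intro w hw
    have hwt : t * w * t⁻¹ ∈ C.Lτ.P p := C.Lτ.P_conj h6 htτ hw
    have c1 : Commute (t * s * t⁻¹) w := by
      have := hall _ (C.Lτ.P_conj h6 (g := t⁻¹) (show t⁻¹ * C.Lτ.t = C.Lτ.t * t⁻¹ from
        (show Commute t τ from htτ).inv_left.eq) hw)
      show t * s * t⁻¹ * w = w * (t * s * t⁻¹)
      calc t * s * t⁻¹ * w = t * (s * (t⁻¹ * w * t⁻¹⁻¹)) * t⁻¹ := by group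
        _ = _ := by rw [this]; group
    have c2 : Commute s w := hall w hw
    have c3 : Commute (s * s * (s⁻¹ * (t * s * t⁻¹)) * (s * s)⁻¹) w :=
      (((c2.mul_left c2).mul_left (c2.inv_left.mul_left c1))).mul_left (c2.mul_left c2).inv_left
    have e2 : s * s * (s⁻¹ * (t * s * t⁻¹)) * (s * s)⁻¹ = t := by
      have e1 : s * s * (s⁻¹ * (t * s * t⁻¹)) * (s * s)⁻¹ =
          h⁻¹ * (σ * t * σ⁻¹ * (σ * σ * t⁻¹ * (σ * σ)⁻¹)) * h := by
        have ht' : t = h⁻¹ * t * h := hti.symm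
        nth_rewrite 1 [ht']
        nth_rewrite 2 [ht']
        rw [hs]; group
      rw [e1, inv_eq_of_mul_eq_one_right C.Lt.tt, hσt, hti]
    rw [e2] at c3
    exact c3.eq.symm
  -- contradiction with the element `y`
  have hYf : C.Lτ.X * f * C.Lτ.X⁻¹ ∈ C.Lτ.P p := C.Lτ.P_conj h6 (C.Lτ.φ_comm _) hfP
  have h1 := hallt _ hYf
  rw [← hrτ] at h1
  have hrX : C.Lτ.r * C.Lτ.X = C.Lτ.X⁻¹ * C.Lτ.r := by
    rw [← C.Lτ.rXr, mul_assoc _ C.Lτ.r C.Lτ.r, C.Lτ.rr, mul_one]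
  have h2 : C.Lτ.X⁻¹ * f * C.Lτ.X = C.Lτ.X * f * C.Lτ.X⁻¹ := by
    calc C.Lτ.X⁻¹ * f * C.Lτ.X = (C.Lτ.r * C.Lτ.X) * (C.Lτ.r⁻¹ * f) * C.Lτ.X := by rw [hrX]; group
      _ = (C.Lτ.r * C.Lτ.X) * f * (C.Lτ.r⁻¹ * C.Lτ.X) := by
        rw [(show Commute f C.Lτ.r from hfr').inv_right.eq.symm]; group
      _ = C.Lτ.r * (C.Lτ.X * f * C.Lτ.X⁻¹) * (C.Lτ.X * (C.Lτ.r⁻¹ * C.Lτ.X)) := by group
      _ = C.Lτ.X * f * C.Lτ.X⁻¹ * C.Lτ.r * (C.Lτ.X * (C.Lτ.r * C.Lτ.X)) := by
        rw [← h1, C.Lτ.r_inv]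
      _ = _ := by rw [hrX, mul_inv_cancel_left, mul_assoc _ C.Lτ.r C.Lτ.r, C.Lτ.rr, mul_one]
  have h3 : f * (C.Lτ.X * C.Lτ.X) = C.Lτ.X * C.Lτ.X * f := by
    calc f * (C.Lτ.X * C.Lτ.X) = C.Lτ.X * (C.Lτ.X⁻¹ * f * C.Lτ.X) * C.Lτ.X := by group
      _ = _ := by rw [h2]; group
  exact hf1 (C.Lτ.fpf h6 hfP (z := C.Lτ.X * C.Lτ.X)
    (by rw [← map_mul]; exact C.Lτ.φ_comm _)
    (by rw [← pow_two, Nat.Coprime.orderOf_pow (by rw [C.Lτ.X_order]; norm_num), C.Lτ.X_order])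
    h3)

end Cfg

end CfsgLib.Recog.MTwelveAmalgam
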