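import Cfsg.Agent.Lib.Recog.MTwelveAmalgam.Natural
import Cfsg.Agent.Lib.Recog.MTwelveAmalgam.NOne
import Cfsg.Agent.Lib.Recog.MTwelveAmalgam.Endgame
import Cfsg.Agent.Lib.Coprime.SymplecticType
import Cfsg.Agent.Lib.Solvable.PCore

/-!
# The amalgam of type `M₁₂` / `L₃(3)`: the two cases

If `|D| = 2` the centraliser is `GL₂(3)`; otherwise `|D| = 4`, `R` is extraspecial of order 32,
the odd core of the centraliser is trivial and `t` is conjugate to `f t` in `R`.
-/

set_option autoImplicit false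
set_option linter.unusedSectionVars false

namespace CfsgLib.Recog.MTwelveAmalgam

open Subgroup
open scoped commutatorElement

universe u

/-- The data of a common fixed involution when `|D| = 4`. -/
structure Cfg.Four {G : Type u} [Group G] [Finite G] (C : Cfg G) (f : G) : Prop where
  cz : C.Cz f
  sq : f * f = 1
  ne : f ≠ 1
  fa : C.a f = f
  all : C.InAll f
  one_x : C.Lt.One f
  one_y : C.Lτ.One f
  card : Nat.card C.Lt.D = 4

namespace Cfg

variable {G : Type u} [Group G] [Finite G] {C : Cfg G} {f : G} (F : C.Four f)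
include F

theorem Four.card_R : Nat.card C.Lt.R = 32 := by rw [C.Lt.card_R_sq, F.card]

theorem Four.D_list {d : G} (hd : d ∈ C.Lt.D) :
    d = 1 ∨ d = C.t ∨ d = f ∨ d = f * C.t := by
  classical
  have hft : f ≠ C.t := fun e => C.t_not_Dτ (e ▸ F.all.2.1)
  have hs : ({1, C.t, f, f * C.t} : Set G) ⊆ (C.Lt.D : Set G) := by
    rintro g (rfl | rfl | rfl | rfl)
    exacts [one_mem _, C.Lt.t_D, F.all.1, mul_mem F.all.1 C.Lt.t_D]
  have h1 : f * C.t ≠ 1 := fun e => hft (by
    calc f = f * C.t * C.t := by rw [mul_assoc, C.tt, mul_one]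
      _ = C.t := by rw [e, one_mul])
  have h2 : f * C.t ≠ C.t := fun e => F.ne (mul_eq_right.1 e)
  have h3 : f * C.t ≠ f := fun e => C.Lt.t_ne_one (mul_eq_left.1 e)
  have hc : ({1, C.t, f, f * C.t} : Set G).ncard = 4 := by
    rw [Set.ncard_insert_of_notMem (by simp [C.Lt.t_ne_one.symm, F.ne.symm, h1.symm]) (Set.toFinite _),
      Set.ncard_insert_of_notMem (by simp [hft.symm, h2.symm]) (Set.toFinite _),
      Set.ncard_pair h3.symm]
  have he := Set.eq_of_subset_of_ncard_le hs (by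
    rw [← Nat.card_coe_set_eq, SetLike.coe_sort_coe, F.card, hc]) (Set.toFinite _)
  have hd' : d ∈ ({1, C.t, f, f * C.t} : Set G) := by rw [he]; exact hd
  simpa using hd'

theorem Four.D_sq {d : G} (hd : d ∈ C.Lt.D) : d * d = 1 := by
  have hft : C.t * f = f * C.t := (C.Lt.R_comm (C.Lt.D_le F.all.1)).symm
  rcases F.D_list hd with rfl | rfl | rfl | rfl
  · exact one_mul 1
  · exact C.tt
  · exact F.sq
  · rw [show f * C.t * (f * C.t) = f * (C.t * f) * C.t by group, hft, ← mul_assoc, F.sq, one_mul,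
      C.tt]

theorem Four.U_f : C.Lt.U * f = f * C.Lt.U := mul_inv_eq_iff_eq_mul.1 F.fa

theorem Four.D_U {d : G} (hd : d ∈ C.Lt.D) : Commute d C.Lt.U := by
  have h1 : Commute f C.Lt.U := F.U_f.symm
  have h2 : Commute C.t C.Lt.U := (C.Lt.φ_comm uM).symm
  rcases F.D_list hd with rfl | rfl | rfl | rfl
  exacts [Commute.one_left _, h2, h1, h1.mul_left h2]

theorem Four.D_comm {d e : G} (hd : d ∈ C.Lt.D) (he : e ∈ C.Lt.D) : Commute d e := by
  have h1 : Commute e f := F.cz.2 e (C.Dt_le he)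
  have h2 : Commute e C.t := C.Lt.R_comm (C.Lt.D_le he)
  rcases F.D_list hd with rfl | rfl | rfl | rfl
  exacts [Commute.one_left _, h2.symm, h1.symm, h1.symm.mul_left h2.symm]

/-- Elements fixed modulo `t` commute. -/
theorem Four.fixed_comm {a b : G} (ha : a ∈ C.Lt.R) (hb : b ∈ C.Lt.R)
    (ea : C.Lt.MT (C.Lt.r * a * C.Lt.r) a) (eb : C.Lt.MT (C.Lt.r * b * C.Lt.r) b) :
    Commute a b := by
  rcases C.Lt.fixed_cases ha ea with h | ⟨d, hd, rfl⟩ <;>
    rcases C.Lt.fixed_cases hb eb with h' | ⟨e, he, rfl⟩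
  · exact F.D_comm h h'
  · exact (F.D_comm h he).mul_right (F.D_U h)
  · exact (F.D_comm hd h').mul_left (F.D_U h').symm
  · exact ((F.D_comm hd he).mul_right (F.D_U hd)).mul_left
      ((F.D_U he).symm.mul_right (Commute.refl _))

theorem Four.fixed_sq {a : G} (ha : a ∈ C.Lt.R) (ea : C.Lt.MT (C.Lt.r * a * C.Lt.r) a) :
    C.Lt.MT (a * a) 1 := by
  rcases C.Lt.fixed_cases ha ea with h | ⟨d, hd, rfl⟩
  · exact Or.inl (F.D_sq h)
  · refine Or.inr ?_
    rw [show d * C.Lt.U * (d * C.Lt.U) = d * (C.Lt.U * d) * C.Lt.U by group, (F.D_U hd).symm.eq,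
      ← mul_assoc, F.D_sq hd, one_mul, C.Lt.UU, one_mul]

/-- `R` modulo `t` is elementary abelian. -/
theorem Four.quot : ∀ A B : ↥C.Lt.R ⧸ C.Lt.T, A * B = B * A ∧ A * A = 1 := by
  set L := C.Lt
  intro A B
  set fx : (↥L.R ⧸ L.T) → Prop := fun P => ∃ n : ↥L.R, L.MT (L.r * n * L.r) n ∧ (n : ↥L.R ⧸ L.T) = P
  have hcc : ∀ P Q, fx P → fx Q → Commute P Q := by
    rintro _ _ ⟨n, hn, rfl⟩ ⟨m, hm, rfl⟩
    show _ * _ = _ * _
    rw [← QuotientGroup.mk_mul, ← QuotientGroup.mk_mul]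
    exact congrArg _ (Subtype.ext (F.fixed_comm n.2 m.2 hn hm).eq)
  have hαc : ∀ P Q, fx P → fx Q → Commute (L.α P) Q := fun P Q hP hQ =>
    fpf_comm_pair L.α L.α3 L.α_fix (hcc P Q hP hQ)
  have hsq : ∀ P, fx P → P * P = 1 := by
    rintro _ ⟨n, hn, rfl⟩
    rw [← QuotientGroup.mk_mul, ← QuotientGroup.mk_one, L.mk_eq_iff]
    simpa using F.fixed_sq n.2 hn
  have hgen : ∀ P, ∃ P₁ P₂, fx P₁ ∧ fx P₂ ∧ P = P₁ * L.α P₂ := by
    intro P
    obtain ⟨n, rfl⟩ := QuotientGroup.mk_surjective P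
    obtain ⟨a, ha, b, hb, h1, h2, h3⟩ := L.gen n.2
    refine ⟨((⟨a, ha⟩ : ↥L.R) : ↥L.R ⧸ L.T), ((⟨b, hb⟩ : ↥L.R) : ↥L.R ⧸ L.T), ⟨_, h1, rfl⟩,
      ⟨_, h2, rfl⟩, ?_⟩
    rw [L.α_mk, ← QuotientGroup.mk_mul, L.mk_eq_iff]
    simpa using h3
  obtain ⟨a₁, a₂, ha₁, ha₂, eA⟩ := hgen A
  obtain ⟨b₁, b₂, hb₁, hb₂, eB⟩ := hgen B
  rw [eA, eB]
  refine ⟨((hcc _ _ ha₁ hb₁).mul_right (hαc _ _ hb₂ ha₁).symm).mul_left
    ((hαc _ _ ha₂ hb₁).mul_right ((hcc _ _ ha₂ hb₂).map L.α.toMonoidHom)) |>.eq, ?_⟩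
  have e : L.α a₂ * a₁ = a₁ * L.α a₂ := hαc _ _ ha₂ ha₁
  rw [show a₁ * L.α a₂ * (a₁ * L.α a₂) = a₁ * (L.α a₂ * a₁) * L.α a₂ by group, e, ← mul_assoc,
    hsq _ ha₁, one_mul, ← map_mul, hsq _ ha₂, map_one]

theorem Four.sq_MT {n : G} (hn : n ∈ C.Lt.R) : C.Lt.MT (n * n) 1 := by
  have := (F.quot ((⟨n, hn⟩ : ↥C.Lt.R) : ↥C.Lt.R ⧸ C.Lt.T) 1).2
  rw [← QuotientGroup.mk_mul, ← QuotientGroup.mk_one, C.Lt.mk_eq_iff] at this
  simpa using this

/-- The pair `(f t, c f)` is not centralised by `R`. -/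
theorem Four.not_central (h : ∀ n ∈ C.Lt.R, n * f = f * n) : False := by
  set L := C.Lt
  obtain ⟨e, e1, e2⟩ := C.pair_one F.all F.sq F.one_y F.one_x
  have hc : ∀ n ∈ L.R, n * L.c f = L.c f * n := fun n hn => by
    have h1 := congrArg L.c (h (L.c (L.c n)) (L.c_R (L.c_R hn)))
    rwa [L.c_mul, L.c_mul, L.ccc] at h1
  have h1 := L.pair_bound e1 (by rw [C.rt]; exact e2) L.R L.R_two fun g hg =>
    ⟨by rw [← mul_assoc, h g hg, mul_assoc, show g * C.t = C.t * g from L.R_comm hg, mul_assoc],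
      hc g hg⟩
  rw [F.card_R, F.card] at h1
  norm_num at h1

/-- The centre of `R` is `⟨t⟩`. -/
theorem Four.center_eq : center ↥C.Lt.R = C.Lt.T := by
  set L := C.Lt
  refine le_antisymm (fun z hz => ?_) fun z hz => mem_center_iff.2 fun g => Subtype.ext ?_
  · by_contra hzT
    have hzc : ∀ n ∈ L.R, n * (z : G) = z * n := fun n hn =>
      congrArg Subtype.val (mem_center_iff.1 hz ⟨n, hn⟩)
    have hzR := z.2
    set z' := L.r * (z : G) * L.r
    have hR : ∀ {n}, n ∈ L.R → L.r * n * L.r ∈ L.R := fun hn => by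
      simpa only [L.r_inv] using L.R_conj (L.φ_comm tauM) hn
    have hrr : ∀ g, L.r * (L.r * g * L.r) * L.r = g := fun g => by
      rw [← mul_assoc, ← mul_assoc, L.rr, one_mul, mul_assoc, L.rr, mul_one]
    have hz'c : ∀ n ∈ L.R, n * z' = z' * n := fun n hn => by
      have := hzc _ (hR hn)
      calc n * z' = L.r * (L.r * n * L.r * z) * L.r := by
            conv_lhs => rw [← hrr n]
            simp only [z']
            calc _ = L.r * (L.r * n * L.r) * (L.r * L.r) * z * L.r := by group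
              _ = _ := by rw [L.rr]; group
        _ = L.r * (z * (L.r * n * L.r)) * L.r := by rw [this]
        _ = _ := by
          conv_rhs => rw [← hrr n]
          simp only [z']
          symm
          calc _ = L.r * z * (L.r * L.r) * (L.r * n * L.r) * L.r := by group
            _ = _ := by rw [L.rr]; group
    -- a central element fixed modulo `t`
    obtain ⟨w, hwR, hwc, hwf, hwT⟩ : ∃ w ∈ L.R, (∀ n ∈ L.R, n * w = w * n) ∧
        L.MT (L.r * w * L.r) w ∧ ¬ (w = 1 ∨ w = L.t) := by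
      by_cases hk : (z : G) * z' = 1 ∨ (z : G) * z' = L.t
      · refine ⟨z, hzR, hzc, ?_, fun h => hzT (mem_subgroupOf.2 (L.mem_zpowers_t.2 h))⟩
        have hzz := F.sq_MT hzR
        rw [L.MT_iff (mul_mem hzR hzR) (one_mem _)] at hzz
        rw [L.MT_iff (hR hzR) hzR]
        have hk' : L.MT ((z : G) * z') 1 := by
          rcases hk with h | h
          exacts [Or.inl h, Or.inr (by rw [h, one_mul])]
        rw [L.MT_iff (mul_mem hzR (hR hzR)) (one_mem _)] at hk'
        exact mul_left_cancel (a := ((⟨z, hzR⟩ : ↥L.R) : ↥L.R ⧸ L.T)) (hk'.trans hzz.symm)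
      · refine ⟨z * z', mul_mem hzR (hR hzR), fun n hn =>
          ((show Commute n (z : G) from hzc n hn).mul_right (show Commute n z' from hz'c n hn)).eq,
          Or.inl ?_, hk⟩
        calc L.r * ((z : G) * z') * L.r = L.r * (z : G) * (L.r * L.r) * z' * L.r := by
              rw [L.rr]; group
          _ = z' * (L.r * z' * L.r) := by simp only [z']; group
          _ = z' * (z : G) := by rw [hrr]
          _ = _ := hz'c _ hzR ▸ rfl
    rcases L.fixed_cases hwR hwf with hd | ⟨d, hd, rfl⟩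
    · rcases F.D_list hd with e | e | e | e
      · exact hwT (Or.inl e)
      · exact hwT (Or.inr e)
      · exact F.not_central (e ▸ hwc)
      · refine F.not_central fun n hn => ?_
        have h1 := hwc n hn
        rw [e] at h1
        calc n * f = n * (f * C.t) * C.t := by rw [mul_assoc n, mul_assoc f, C.tt, mul_one]
          _ = f * C.t * n * C.t := by rw [h1]
          _ = f * (n * C.t) * C.t := by rw [mul_assoc f C.t n, ← L.R_comm hn]
          _ = f * n := by rw [mul_assoc f, mul_assoc n, C.tt, mul_one]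
    · -- then `U` commutes with its image
      have hcd : Commute (L.c d) d := (L.eps (L.D_le hd) (F.D_sq hd)).1
      have hdi : d⁻¹ = d := inv_eq_of_mul_eq_one_right (F.D_sq hd)
      have hw' : ∀ n ∈ L.R, Commute n (L.c (d * L.U)) := fun n hn => by
        have h1 := congrArg L.c (hwc (L.c (L.c n)) (L.c_R (L.c_R hn)))
        simp only [L.c_mul, L.ccc] at h1
        show _ * _ = _ * _
        simp only [L.c_mul]
        exact h1
      have hU : L.U = d * (d * L.U) := by rw [← mul_assoc, F.D_sq hd, one_mul]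
      have hcU : L.c L.U = L.c d * L.c (d * L.U) := by rw [← L.c_mul, ← hU]
      have key : Commute L.U (L.c L.U) := by
        rw [hcU]
        refine Commute.mul_right ?_ (hw' _ L.U_R)
        rw [hU]
        exact hcd.symm.mul_left (show Commute (L.c d) (d * L.U) from hwc _ (L.c_R (L.D_le hd))).symm
      have hq : L.U * L.c L.U * (L.U * L.c L.U) = L.t := by
        simp only [Loc.c, ← map_inv, ← map_mul, gl_facts.2.2.2.2.2.2.2.2.1, L.φ_neg]
      rw [show L.U * L.c L.U * (L.U * L.c L.U) = L.U * (L.c L.U * L.U) * L.c L.U by group, ← key.eq,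
        ← mul_assoc, L.UU, mul_assoc, ← L.c_mul, L.UU, L.c_t, L.tt] at hq
      exact L.t_ne_one hq.symm
  · rcases L.mem_zpowers_t.1 (mem_subgroupOf.1 hz) with h | h <;>
      simp only [Subgroup.coe_mul, h]
    · rw [mul_one, one_mul]
    · exact L.R_comm g.2

theorem Four.extraspecial : Cfsg.IsExtraspecial 2 C.Lt.R := by
  have : Fact (Nat.Prime 2) := ⟨Nat.prime_two⟩
  set L := C.Lt
  refine CfsgLib.Coprime.isExtraspecial_of_central L.R_two L.T L.card_T F.center_eq (fun x y => ?_)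
    (fun x => ?_) fun h => ?_
  · rw [← QuotientGroup.eq_one_iff]
    show QuotientGroup.mk' L.T ⁅x, y⁆ = 1
    rw [map_commutatorElement, commutatorElement_eq_one_iff_mul_comm]
    exact (F.quot _ _).1
  · rw [← QuotientGroup.eq_one_iff, QuotientGroup.mk_pow, pow_two]
    exact (F.quot _ 1).2
  · have h1 : Nat.card L.T = Nat.card L.R := by rw [h, card_top]
    rw [L.card_T, F.card_R] at h1
    norm_num at h1

/-- No prime at least five divides the order of the centraliser. -/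
theorem Four.P_bot {p : ℕ} [hp : Fact p.Prime] (h6 : p.Coprime 6) : C.Lt.P p = ⊥ := by
  set P := C.Lt.P p with hP
  have memP : ∀ {g}, g ∈ P ↔ g * C.t = C.t * g ∧ ∃ k, orderOf g = p ^ k := C.Lt.mem_P h6
  have hord : ∀ e g : G, orderOf (e * g * e⁻¹) = orderOf g := fun e g => by
    rw [← MulAut.conj_apply, MulEquiv.orderOf_eq]
  -- conjugates of `t` inside `R` have the same `P`
  have hconj : ∀ e : G, e * C.t * e⁻¹ ∈ C.Lt.R → ∀ g, g ∈ P ↔ e * g * e⁻¹ ∈ P := by
    intro e he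
    have h1 : ∀ g ∈ P, e⁻¹ * g * e ∈ P := fun g hg => by
      obtain ⟨-, hk⟩ := memP.1 hg
      refine memP.2 ⟨?_, by rwa [show e⁻¹ * g * e = e⁻¹ * g * e⁻¹⁻¹ by group, hord]⟩
      have h2 := C.Lt.P_comm_R h6 hg he
      calc e⁻¹ * g * e * C.t = e⁻¹ * (g * (e * C.t * e⁻¹)) * e := by group
        _ = _ := by rw [h2]; group
    let j : ↥P → ↥P := fun g => ⟨e⁻¹ * g * e, h1 g g.2⟩
    have hj : Function.Injective j := fun a b h =>
      Subtype.ext (mul_left_cancel (mul_right_cancel (congrArg Subtype.val h)))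
    refine fun g => ⟨fun hg => ?_, fun hg => by simpa [mul_assoc] using h1 _ hg⟩
    obtain ⟨m, hm⟩ := (Finite.injective_iff_surjective.1 hj) ⟨g, hg⟩
    have hm' : e⁻¹ * (m : G) * e = g := congrArg Subtype.val hm
    rw [← hm']
    simpa [mul_assoc] using m.2
  obtain ⟨e, e1, e2⟩ := C.pair_one F.all F.sq F.one_y F.one_x
  set k := C.u⁻¹ * C.u' with hk
  have hkt : k * C.t * k⁻¹ = C.τ := C.conj_t_τ
  have a1 : e * C.t * e⁻¹ ∈ C.Lt.R := e1 ▸ mul_mem (C.Lt.D_le F.all.1) C.Lt.t_R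
  have a2 : e * k * C.t * (e * k)⁻¹ ∈ C.Lt.R := by
    rw [show e * k * C.t * (e * k)⁻¹ = e * (k * C.t * k⁻¹) * e⁻¹ by group, hkt, e2]
    exact C.Lt.c_R (C.Lt.D_le F.all.1)
  -- so `P` is attached to `τ` as well
  have hkP : ∀ g, g ∈ P ↔ k * g * k⁻¹ ∈ P := fun g => by
    rw [hconj _ a2 g, hconj _ a1 (k * g * k⁻¹)]
    simp only [mul_inv_rev, mul_assoc]
  have memP' : ∀ {g}, g ∈ P ↔ g * C.τ = C.τ * g ∧ ∃ k, orderOf g = p ^ k := fun {g} => by
    have e' : k⁻¹ * g * k ∈ P ↔ g ∈ P := by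
      rw [hkP (k⁻¹ * g * k), show k * (k⁻¹ * g * k) * k⁻¹ = g by group]
    rw [← e', memP, show orderOf (k⁻¹ * g * k) = orderOf g by simpa using hord k⁻¹ g, ← hkt]
    refine and_congr_left' ⟨fun h => ?_, fun h => ?_⟩
    · calc g * (k * C.t * k⁻¹) = k * (k⁻¹ * g * k * C.t) * k⁻¹ := by group
        _ = _ := by rw [h]; group
    · calc k⁻¹ * g * k * C.t = k⁻¹ * (g * (k * C.t * k⁻¹)) * k := by group
        _ = _ := by rw [h]; group
  have hyP : ∀ g ∈ P, C.y * g * C.y⁻¹ ∈ P := fun g hg => by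
    obtain ⟨h1, h2⟩ := memP'.1 hg
    refine memP'.2 ⟨?_, by rwa [hord]⟩
    have hy : C.y * C.τ = C.τ * C.y := C.Lτ.φ_comm xM
    exact (((show Commute C.y C.τ from hy).mul_left (show Commute g C.τ from h1)).mul_left
      (show Commute C.y C.τ from hy).inv_left).eq
  have hn : ∀ {a}, (∀ g ∈ P, a * g * a⁻¹ ∈ P) → a ∈ normalizer (P : Set G) := fun {a} ha =>
    Subgroup.mem_normalizer_fintype fun n hn => ha n hn
  have nu : C.u ∈ normalizer (P : Set G) := hn fun g hg => C.Lt.P_conj h6 (C.Lt.φ_comm uM) hg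
  have nx : C.x ∈ normalizer (P : Set G) := hn fun g hg => C.Lt.P_conj h6 (C.Lt.φ_comm xM) hg
  have ny : C.y ∈ normalizer (P : Set G) := hn hyP
  have nz : C.z ∈ normalizer (P : Set G) := by
    have := mul_mem (mul_mem (inv_mem nu) ny) nu
    rcases C.u_y with h | h <;> rw [show C.u⁻¹ * C.y * C.u = _ from h] at this
    exacts [this, by simpa using inv_mem this]
  refine C.l1x P (fun h => ?_) nx nz
  obtain ⟨n, hn'⟩ := IsPGroup.iff_card.1 (show IsPGroup p ↥P from
    (default : Sylow p ↥C.Lt.N).isPGroup'.map C.Lt.N.subtype)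
  rw [hn'] at h
  have := Nat.prime_three.dvd_of_dvd_pow h
  rw [Nat.prime_dvd_prime_iff_eq Nat.prime_three hp.out] at this
  exact absurd (h6.coprime_dvd_right (show 3 ∣ 6 by norm_num)) (by rw [← this]; norm_num)

theorem Four.R_eq_N : C.Lt.R = C.Lt.N := by
  set L := C.Lt
  have := L.N_nil
  set S := (default : Sylow 2 ↥L.N)
  have hi : (S : Subgroup ↥L.N).index = 1 := by
    by_contra hne
    have hq := Nat.minFac_prime hne
    set q := (S : Subgroup ↥L.N).index.minFac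
    have : Fact q.Prime := ⟨hq⟩
    have hd : q ∣ Nat.card L.N := (Nat.minFac_dvd _).trans (index_dvd_card _)
    have h2 : q ≠ 2 := fun h => S.not_dvd_index (h.symm.dvd.trans (Nat.minFac_dvd _))
    have h3 : q ≠ 3 := fun h => L.N_three (h ▸ hd)
    have h6 : q.Coprime 6 := by
      rw [show 6 = 2 * 3 from rfl]
      exact Nat.Coprime.mul_right ((Nat.coprime_primes hq Nat.prime_two).2 h2)
        ((Nat.coprime_primes hq Nat.prime_three).2 h3)
    have h1 := F.P_bot (p := q) h6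
    rw [Loc.P, map_eq_bot_iff_of_injective _ L.N.subtype_injective] at h1
    exact (default : Sylow q ↥L.N).ne_bot_of_dvd_card hd h1
  rw [Loc.R, index_eq_one.1 hi, ← MonoidHom.range_eq_map, range_subtype]

/-- The large case is `M₁₂`. -/
theorem Four.m12 : Cfsg.Spor.IsoM12 G := by
  set L := C.Lt
  have := L.N_normal
  have hRN := F.R_eq_N
  have hp : L.N.subgroupOf L.H = Cfsg.pCore 2 ↥L.H := by
    refine le_antisymm (le_sSup ⟨inferInstance, ?_⟩) ?_
    · rw [← hRN]
      exact L.R_two.of_equiv (subgroupOfEquivOfLe (hRN.trans_le L.N_le)).symm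
    · have : Fact (Nat.Prime 2) := ⟨Nat.prime_two⟩
      refine L.le_N (CfsgLib.Solvable.pCore_normal 2 _) fun h => ?_
      obtain ⟨n, hn⟩ := IsPGroup.iff_card.1 (CfsgLib.Solvable.pCore_isPGroup (G := ↥L.H) 2)
      rw [hn] at h
      exact absurd (Nat.prime_three.dvd_of_dvd_pow h) (by norm_num)
  obtain ⟨e⟩ := L.six.equiv_perm
  obtain ⟨h, h1, -⟩ := C.pair_one F.all F.sq F.one_y F.one_x
  refine L.m12 L.R ?_ F.extraspecial F.card_R ((QuotientGroup.quotientMulEquivOfEq hp.symm).trans e)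
    (fun r hr hc => L.fix hr (Or.inl ?_)) ⟨h, ?_, ?_⟩
  · rw [← hp, map_subgroupOf_eq_of_le L.N_le, hRN]
  · show L.X * r * L.X⁻¹ = r
    rw [show L.X * r = r * L.X from hc.symm, mul_inv_cancel_right]
  · rw [show h * L.t * h⁻¹ = f * C.t from h1]
    exact mul_mem (L.D_le F.all.1) L.t_R
  · rw [show h * L.t * h⁻¹ = f * C.t from h1]
    exact fun e => F.ne (mul_eq_right.1 e)

end Cfg

/-- **The recognition.** -/
theorem Cfg.m12_or_psl {G : Type u} [Group G] [Finite G] (C : Cfg G) (hA : C.Anchor) :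
    Cfsg.Spor.IsoM12 G ∨ Nonempty (G ≃* Matrix.ProjectiveSpecialLinearGroup (Fin 3) (ZMod 3)) := by
  by_cases h4 : 4 ≤ Nat.card C.Lt.D
  · obtain ⟨f, hf, hf2, hf1, hfa, -, hA', hx, hy, hd⟩ := C.exists_fixed h4
    exact Or.inl (Cfg.Four.m12 (C := C) ⟨hf, hf2, hf1, hfa, hA', hx, hy, hd⟩)
  · refine Or.inr (C.Lt.psl (C.card_H_of_R_eight hA ?_))
    haveI : Fact (Nat.Prime 2) := ⟨Nat.prime_two⟩
    obtain ⟨j, hj⟩ := IsPGroup.iff_card.1 (C.Lt.R_two.to_le C.Lt.D_le)
    have h2 := C.Lt.two_dvd_D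
    have hj1 : j = 1 := by
      rcases j with _ | _ | j
      · rw [hj] at h2; norm_num at h2
      · rfl
      · exfalso
        exact h4 (hj ▸ le_trans (by norm_num) (Nat.pow_le_pow_right (n := 2) (by norm_num) (show 2 ≤ j + 2 by omega)))
    rw [C.Lt.card_R_sq, hj, hj1]
    norm_num

end CfsgLib.Recog.MTwelveAmalgam
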