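import Cfsg.Agent.Lib.Recog.MTwelveAmalgam.Small

/-!
# There is a common fixed point, and `D` has order four
-/

set_option autoImplicit false
set_option linter.unusedSectionVars false

namespace CfsgLib.Recog.MTwelveAmalgam

open Subgroup

universe u

namespace Cfg

variable {G : Type u} [Group G] [Finite G] (C : Cfg G)

theorem swap_d : Nat.card C.swap.Lt.D = Nat.card C.Lt.D := C.dτ

/-- No natural plane: the signs give too large a subgroup in a conjugate of `E`. -/
theorem no_natural (hno : ∀ g, C.Cz g → g * g = 1 → C.a g = g → C.b g = g → g = 1)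
    (h4 : 4 ≤ Nat.card C.Lt.D) : False := by
  classical
  haveI : Fact (Nat.Prime 2) := ⟨Nat.prime_two⟩
  obtain ⟨n, hn, hn2, han, hnA, hn1⟩ := C.exists_natural hno h4
  obtain ⟨hb1, hbn, hab, hbb⟩ := C.natural_facts hno hn hn2 han hn1
  set m := C.b n with hm
  have hmz : C.Cz m := C.Cz_b hn
  have hmA : C.InAll m := C.InAll_b hnA
  have hm2 : m * m = 1 := by rw [hm, ← C.b_mul, hn2]; simp [b]
  have hnm : n * m = m * n := C.Cz_comm hn hmz
  set k := n * m with hk
  have hk2 : k * k = 1 := by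
    rw [hk, show n * m * (n * m) = n * (m * n) * m by group, ← hnm, ← mul_assoc n n, hn2, one_mul, hm2]
  have hk1 : k ≠ 1 := fun h => hbn (by
    calc m = n * (n * m) := by rw [← mul_assoc, hn2, one_mul]
      _ = n := by rw [← hk, h, mul_one])
  have hkz : C.Cz k := C.Cz_mul hn hmz
  have hkA : C.InAll k := ⟨mul_mem hnA.1 hmA.1, mul_mem hnA.2.1 hmA.2.1, mul_mem hnA.2.2 hmA.2.2⟩
  have hkA' : C.swap.InAll k := ⟨hkA.2.1, hkA.1, by rw [C.swap_Dz]; exact hkA.2.2⟩
  -- four points of the plane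
  have hnΔ : n ∈ C.Δ := ⟨hnA.1, hnA.2.1⟩
  have hmΔ : m ∈ C.Δ := ⟨hmA.1, hmA.2.1⟩
  set Z : Finset G := {1, n, m, k} with hZ
  have hZc : Z.card = 4 := by
    have n1 : n ≠ k := fun h => hb1 (mul_eq_left.1 h.symm)
    have n2 : m ≠ k := fun h => hn1 (mul_eq_right.1 h.symm)
    rw [hZ, Finset.card_insert_of_notMem (by simp [hn1.symm, hb1.symm, hk1.symm]),
      Finset.card_insert_of_notMem (by simp [hbn.symm, n1]), Finset.card_pair n2]
  have hZΔ : (Z : Set G) ⊆ C.Δ := by
    intro g hg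
    simp only [hZ, Finset.coe_insert, Finset.coe_singleton, Set.mem_insert_iff,
      Set.mem_singleton_iff] at hg
    rcases hg with rfl | rfl | rfl | rfl
    exacts [one_mem _, hnΔ, hmΔ, mul_mem hnΔ hmΔ]
  have hΔ4 : 4 ≤ Nat.card C.Δ := by
    rw [← hZc, ← Set.ncard_coe_finset, ← SetLike.coe_sort_coe, Nat.card_coe_set_eq]
    exact Set.ncard_le_ncard hZΔ (Set.toFinite _)
  have h8 : 8 ≤ Nat.card C.Lt.D := by rw [← C.card_Δ]; omega
  -- the signs
  have hy := C.key_one hnA hn2 han hn1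
  have hx : C.Lt.Zero n := (C.Lt.zero_or_one (C.Lt.D_le hnA.1) hn2).resolve_right fun h => by
    have := C.small hn hnA hn2 han hn1 h
    omega
  have hky := C.swap.key_one hkA' hk2 hbb hk1
  have hkx : C.Lτ.Zero k := (C.Lτ.zero_or_one (C.Lτ.D_le hkA.2.1) hk2).resolve_right fun h => by
    have := C.swap.small (C.Cz_swap.2 hkz) hkA' hk2 hbb hk1 h
    rw [C.swap_d] at this
    omega
  have hkz1 : C.Lz.One k := by
    have := C.swap.Lz.one_conj (L' := C.Lz) (h := 1) (w := k)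
      (Or.inl (by rw [C.swap.Lz_X, C.Lz_X]; simp [swap]))
      (by rw [C.swap.Lz_t, C.Lz_t]; simp only [one_mul, inv_one, mul_one]; exact C.tτ) hk2 hky.2
    simpa using this
  have hmy : C.Lτ.One m := by
    have h := C.Lz.one_conj C.uz_conj C.uz_t hk2 hkz1
    rwa [show C.u * k * C.u⁻¹ = m from hab] at h
  -- additivity
  set L := C.Lτ with hL
  set q := L.c n with hq
  have hnR : n ∈ L.R := L.D_le hnA.2.1
  have hqR : q ∈ L.R := L.c_R hnR
  have hmk : m = n * k := by rw [hk, ← mul_assoc, hn2, one_mul]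
  have hqk : q * k = k * q := by
    have e := hmy
    rw [hmk, Loc.One, L.c_mul, L.c_mul, hy.1, hkx, ← hq] at e
    have hzc : ∀ {g}, g ∈ L.R → L.t * g = g * L.t := fun hg => (L.R_comm hg).symm
    have hkR : k ∈ L.R := L.D_le hkA.2.1
    have e' : n * q * k * (L.c k * L.t) = n * k * q * (L.c k * L.t) := by
      calc n * q * k * (L.c k * L.t) = n * q * (k * L.c k * L.t) := by group
        _ = n * q * (L.t * (k * L.c k)) := by rw [hzc (mul_mem hkR (L.c_R hkR))]
        _ = n * q * L.t * (k * L.c k) := by group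
        _ = _ := by rw [e]; group
    exact mul_left_cancel (a := n) (by
      have := mul_right_cancel e'
      rw [mul_assoc, mul_assoc] at this
      exact this)
  -- the conjugate pair
  set q₁ := C.Lt.c n
  have f1 : q₁ * C.τ * q₁⁻¹ = C.τ * n := by
    have := C.Lt.zero_flip hnA.1 hn2 hx
    rwa [C.rt] at this
  have f2 : q₁ * C.t * q₁⁻¹ = C.t := C.Lt.t_conj (C.Lt.R_comm (C.Lt.c_R (C.Lt.D_le hnA.1)))
  set L' := L.conj q₁
  have ht' : L'.t = C.τ * n := by rw [Loc.conj_t]; exact f1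
  have hr' : L'.r = C.t := by rw [Loc.conj_r, C.rτ]; exact f2
  have hq2 : q * q = 1 := L.c_sq hn2
  have hqn : q * n = n * q := (L.eps hnR hn2).1
  have hqτ : q * C.τ = C.τ * q := L.R_comm hqR
  have hqR' : q ∉ L'.R := fun h => L'.noQ h hq2 (by
    have e := L.r_c (L.mem_D.1 hnA.2.1).2
    rw [hy.1, C.rτ] at e
    rw [hr', ht', hq, e, ← hq, ← hqn, mul_assoc q n, show n * L.t = C.τ * n from L.R_comm hnR])
  obtain ⟨h, hht, hh⟩ := L'.outside (s := q)
    (by rw [ht', ← mul_assoc, hqτ, mul_assoc, hqn, mul_assoc]) hq2 hqR'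
  have hp1 : h * q₁ * L.t * (h * q₁)⁻¹ = C.τ * n := by
    calc h * q₁ * L.t * (h * q₁)⁻¹ = h * L'.t * h⁻¹ := by rw [Loc.conj_t]; group
      _ = L'.t := L'.t_conj hht
      _ = _ := ht'
  have hp2 : h * q₁ * L.r * (h * q₁)⁻¹ = q := by
    calc h * q₁ * L.r * (h * q₁)⁻¹ = h * L'.r * h⁻¹ := by rw [Loc.conj_r]; group
      _ = q := hh
  have hbound : ∀ S : Subgroup G, S ≤ L.R → (∀ g ∈ S, g * n = n * g) → (∀ g ∈ S, g * q = q * g) →
      Nat.card S ≤ 2 * Nat.card C.Lt.D := fun S hS h1 h2 => by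
    rw [← C.dτ]
    refine L.pair_bound hp1 hp2 S (L.R_two.to_le hS) fun g hg => ⟨?_, h2 g hg⟩
    rw [← mul_assoc, show g * C.τ = C.τ * g from L.R_comm (hS hg), mul_assoc, h1 g hg, mul_assoc]
  have hc1 : ∀ d ∈ L.D, d * n = n * d := fun d hd => hn.2 d (C.Dτ_le hd)
  have hc2 : ∀ d ∈ L.D, L.c d * q = q * L.c d := fun d hd => by
    rw [hq, ← L.c_mul, hc1 d hd, L.c_mul]
  -- at most sixteen
  have h16 : Nat.card C.Lt.D ≤ 16 := by
    set π := QuotientGroup.mk' L.T
    set S : Subgroup G := ((centralizer ({π ⟨n, hnR⟩, π ⟨q, hqR⟩} : Set (↥L.R ⧸ L.T))).comap π).map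
      L.R.subtype
    have hmem : ∀ {g} (hg : g ∈ L.R), g ∈ S ↔ L.MT (g * n) (n * g) ∧ L.MT (g * q) (q * g) := by
      intro g hg
      have e : g ∈ S ↔ (⟨g, hg⟩ : ↥L.R) ∈
          (centralizer ({π ⟨n, hnR⟩, π ⟨q, hqR⟩} : Set (↥L.R ⧸ L.T))).comap π :=
        ⟨fun ⟨g', hg', e⟩ => (show g' = ⟨g, hg⟩ from Subtype.ext e) ▸ hg', fun h => ⟨_, h, rfl⟩⟩
      rw [e, mem_comap, mem_centralizer_iff]
      simp only [Set.mem_insert_iff, Set.mem_singleton_iff, forall_eq_or_imp, forall_eq]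
      rw [L.MT_iff (mul_mem hg hnR) (mul_mem hnR hg), L.MT_iff (mul_mem hg hqR) (mul_mem hqR hg)]
      exact ⟨fun ⟨a, b⟩ => ⟨a.symm, b.symm⟩, fun ⟨a, b⟩ => ⟨a.symm, b.symm⟩⟩
    have hS : S ≤ L.R := map_subtype_le _
    have g1 : L.D ≤ S := fun d hd => (hmem (L.D_le hd)).2 ⟨Or.inl (hc1 d hd),
      L.MT_symm (L.pair hnR (L.D_le hd) (Or.inl (hc1 d hd).symm))⟩
    have g2 : ∀ d ∈ L.D, L.c d ∈ S := fun d hd => (hmem (L.c_R (L.D_le hd))).2
      ⟨L.pair (L.D_le hd) hnR (Or.inl (hc1 d hd)), Or.inl (hc2 d hd)⟩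
    have c0 := L.card_sub_ge S L.D hS le_rfl L.t_D g1 g2
    obtain ⟨S', hS', h1, c1⟩ := L.half S hS (fun g hg => ((hmem (hS hg)).1 hg).1)
    obtain ⟨S'', hS'', h2, c2⟩ := L.half S' (hS'.trans hS)
      (fun g hg => ((hmem (hS (hS' hg))).1 (hS' hg)).2)
    have c3 := hbound S'' (hS''.trans (hS'.trans hS)) (fun g hg => h1 g (hS'' hg)) h2
    rw [C.dτ] at c0
    have hd : 0 < Nat.card C.Lt.D := Nat.card_pos
    have : Nat.card C.Lt.D * Nat.card C.Lt.D ≤ 16 * Nat.card C.Lt.D := by omega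
    exact Nat.le_of_mul_le_mul_right this hd
  obtain ⟨j, hj⟩ := IsPGroup.iff_card.1 (C.Lt.R_two.to_le C.Lt.D_le)
  have hj3 : 3 ≤ j := by
    by_contra h
    have : (2 : ℕ) ^ j ≤ 2 ^ 2 := Nat.pow_le_pow_right (by norm_num) (by omega)
    omega
  have hj4 : j ≤ 4 := by
    by_contra h
    have : (2 : ℕ) ^ 5 ≤ 2 ^ j := Nat.pow_le_pow_right (by norm_num) (by omega)
    omega
  interval_cases j
  · -- order eight
    set S : Subgroup G := L.R ⊓ centralizer ({n, q} : Set G)
    have hmem : ∀ {g}, g ∈ S ↔ g ∈ L.R ∧ g * n = n * g ∧ g * q = q * g := fun {g} => by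
      rw [mem_inf, mem_centralizer_iff]
      simp only [Set.mem_insert_iff, Set.mem_singleton_iff, forall_eq_or_imp, forall_eq]
      exact ⟨fun ⟨a, b, c⟩ => ⟨a, b.symm, c.symm⟩, fun ⟨a, b, c⟩ => ⟨a, b.symm, c.symm⟩⟩
    have hΔ : (C.Δ : Set G) = Z := by
      refine (Set.eq_of_subset_of_ncard_le hZΔ ?_ (Set.toFinite _)).symm
      rw [Set.ncard_coe_finset, hZc, ← Nat.card_coe_set_eq]
      have := C.card_Δ
      rw [SetLike.coe_sort_coe]
      omega
    have hΔq : ∀ g ∈ C.Δ, g * q = q * g := by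
      intro g hg
      have hg' : g ∈ (C.Δ : Set G) := hg
      rw [hΔ] at hg'
      simp only [hZ, Finset.coe_insert, Finset.coe_singleton, Set.mem_insert_iff,
        Set.mem_singleton_iff] at hg'
      rcases hg' with rfl | rfl | rfl | rfl
      · simp
      · exact hqn.symm
      · rw [hmk]; exact ((show Commute n q from hqn.symm).mul_left (show Commute k q from hqk.symm)).eq
      · exact hqk.symm
    have hDq : ∀ d ∈ L.D, d * q = q * d := by
      intro d hd
      rcases C.swap.Dt_decomp (show d ∈ C.swap.Lt.D from hd) with h' | h'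
      · exact hΔq d ⟨h'.2, h'.1⟩
      · have e := hΔq (d * C.τ) ⟨h'.2, h'.1⟩
        refine mul_right_cancel (b := C.τ) ?_
        rw [mul_assoc, hqτ, ← mul_assoc, e, mul_assoc]
    have g1 : L.D ≤ S := fun d hd => hmem.2 ⟨L.D_le hd, hc1 d hd, hDq d hd⟩
    have g2 : ∀ d ∈ L.D, L.c d ∈ S := fun d hd => by
      refine hmem.2 ⟨L.c_R (L.D_le hd), ?_, hc2 d hd⟩
      have hdc : d * L.c q = L.c q * d := by
        rw [hq, hy.1, ← hq]
        exact (((show Commute d n from hc1 d hd).mul_right (show Commute d q from hDq d hd)).mul_right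
          (show Commute d L.t from L.R_comm (L.D_le hd))).eq
      have := congrArg L.c hdc
      rwa [L.c_mul, L.c_mul, hq, L.ccc] at this
    have c0 := L.card_sub_ge S L.D inf_le_left le_rfl L.t_D g1 g2
    have c3 := hbound S inf_le_left (fun g hg => (hmem.1 hg).2.1) (fun g hg => (hmem.1 hg).2.2)
    rw [C.dτ, hj] at c0
    rw [hj] at c3
    norm_num at c0 c3
    omega
  · -- order sixteen
    have hΔ8 : Nat.card C.Δ = 8 := by have := C.card_Δ; omega
    have hzΔ : ∀ x ∈ C.Δ, ∀ y ∈ C.Δ, x * y = y * x := by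
      intro x hxΔ y hy'
      by_cases hxZ : x ∈ Z
      · have : C.Cz x := by
          simp only [hZ, Finset.mem_insert, Finset.mem_singleton] at hxZ
          rcases hxZ with rfl | rfl | rfl | rfl
          exacts [⟨one_mem _, fun _ _ => by simp⟩, hn, hmz, hkz]
        exact (this.2 y (C.Dt_le hy'.1)).symm
      · set K := C.Δ ⊓ centralizer ({x} : Set G)
        have hsub : (↑(insert x Z) : Set G) ⊆ K := by
          intro g hg
          rw [Finset.coe_insert] at hg
          rcases hg with rfl | hg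
          · exact ⟨hxΔ, mem_centralizer_singleton_iff.2 rfl⟩
          · refine ⟨hZΔ hg, mem_centralizer_singleton_iff.2 ?_⟩
            simp only [hZ, Finset.coe_insert, Finset.coe_singleton, Set.mem_insert_iff,
              Set.mem_singleton_iff] at hg
            rcases hg with rfl | rfl | rfl | rfl
            · simp
            · exact (hn.2 x (C.Dt_le hxΔ.1)).symm
            · exact (hmz.2 x (C.Dt_le hxΔ.1)).symm
            · exact (hkz.2 x (C.Dt_le hxΔ.1)).symm
        have h5 : 5 ≤ Nat.card K := by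
          rw [← show (insert x Z).card = 5 by rw [Finset.card_insert_of_notMem hxZ, hZc],
            ← Set.ncard_coe_finset, ← SetLike.coe_sort_coe, Nat.card_coe_set_eq]
          exact Set.ncard_le_ncard hsub (Set.toFinite _)
        have h8' : Nat.card K ∣ 8 := hΔ8 ▸ card_dvd_of_le inf_le_left
        have hK : K = C.Δ := eq_of_le_of_card_ge inf_le_left (by
          rw [hΔ8]
          have := Nat.le_of_dvd (by norm_num) h8'
          obtain ⟨i, hi, hi'⟩ := (Nat.dvd_prime_pow Nat.prime_two).1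
            (show Nat.card K ∣ 2 ^ 3 from h8')
          interval_cases i <;> omega)
        have := (hK.ge hy').2
        exact (mem_centralizer_singleton_iff.1 this).symm
    have hdec : ∀ e ∈ C.E, ∃ s, C.Cz s ∧ e * s ∈ C.Δ := by
      intro e he
      rcases (show e ∈ C.Lt.D ∨ e * C.τ ∈ C.Lt.D from C.rt ▸ (show e ∈ C.Lt.D ∨ e * C.Lt.r ∈ C.Lt.D
        from he)) with h' | h' <;> rcases C.Dt_decomp h' with h'' | h''
      · exact ⟨1, ⟨one_mem _, fun _ _ => by simp⟩, by rwa [mul_one]⟩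
      · exact ⟨C.t, C.Cz_t, h''⟩
      · exact ⟨C.τ, C.Cz_τ, h''⟩
      · exact ⟨C.τ * C.t, C.Cz_mul C.Cz_τ C.Cz_t, by rwa [← mul_assoc]⟩
    have habE : ∀ g ∈ C.E, C.Cz g := by
      intro g hg
      refine ⟨hg, fun e he => ?_⟩
      obtain ⟨s, hs, hs'⟩ := hdec g hg
      obtain ⟨s₁, hs₁, hs₁'⟩ := hdec e he
      have e1 : Commute (e * s₁) (g * s) := hzΔ _ hs₁' _ hs'
      have e2 : Commute e s := hs.2 e he
      have e3 : Commute g s₁ := hs₁.2 g hg
      have e4 : Commute s₁ s := hs.2 _ hs₁.1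
      have e5 : Commute (e * s₁ * s₁⁻¹) (g * s * s⁻¹) := by
        have k1 : Commute s₁ (g * s) := e3.symm.mul_right e4
        have k2 : Commute (e * s₁ * s₁⁻¹) (g * s) := e1.mul_left k1.inv_left
        have k3 : Commute (e * s₁ * s₁⁻¹) s := by simpa using e2
        exact k2.mul_right k3.inv_right
      simpa using e5.eq
    have h := C.card_E_mod hno habE
    rw [C.Lt.card_E, hj] at h
    norm_num at h

/-- A common fixed point with non-trivial signs everywhere, and `|D| = 4`. -/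
theorem exists_fixed (h4 : 4 ≤ Nat.card C.Lt.D) :
    ∃ f, C.Cz f ∧ f * f = 1 ∧ f ≠ 1 ∧ C.a f = f ∧ C.b f = f ∧ C.InAll f ∧ C.Lt.One f ∧
      C.Lτ.One f ∧ Nat.card C.Lt.D = 4 := by
  by_cases hno : ∀ g, C.Cz g → g * g = 1 → C.a g = g → C.b g = g → g = 1
  · exact (C.no_natural hno h4).elim
  · push Not at hno
    obtain ⟨f, hf, hf2, hfa, hfb, hf1⟩ := hno
    have hA := C.fixed_InAll hf hf2 hfa hfb
    have hy := (C.key_one hA hf2 hfa hf1).1
    have hx : C.Lt.One f := by
      have := C.swap.key_one (w := f) ⟨hA.2.1, hA.1, by rw [C.swap_Dz]; exact hA.2.2⟩ hf2 hfb hf1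
      exact this.1
    exact ⟨f, hf, hf2, hf1, hfa, hfb, hA, hx, hy,
      le_antisymm (C.small hf hA hf2 hfa hf1 hx) h4⟩

end Cfg

end CfsgLib.Recog.MTwelveAmalgam
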