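import Cfsg.Agent.Lib.Recog.MTwelveAmalgam.Frame

/-!
# Conjugate frames and the 2-part `E` of the centraliser of a pair
-/

set_option autoImplicit false
set_option linter.unusedSectionVars false

namespace CfsgLib.Recog.MTwelveAmalgam

open Subgroup

universe u

namespace Loc

variable {G : Type u} [Group G] [Finite G] (L : Loc G)

/-- The conjugate frame. -/
def conj (h : G) : Loc G where
  t := h * L.t * h⁻¹
  φ := (MulAut.conj h : G →* G).comp L.φ
  φ_inj := (MulAut.conj h).injective.comp L.φ_inj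
  φ_neg := by simp [L.φ_neg]
  cent_x := fun g h1 h2 => by
    simp only [MonoidHom.coe_comp, Function.comp_apply, MonoidHom.coe_coe, MulAut.conj_apply] at h2 ⊢
    obtain ⟨k, hk, hk'⟩ := L.cent_x (h⁻¹ * g * h)
      (by
        calc h⁻¹ * g * h * L.t = h⁻¹ * (g * (h * L.t * h⁻¹)) * h := by group
          _ = _ := by rw [h1]; group)
      (by
        calc h⁻¹ * g * h * L.φ xM = h⁻¹ * (g * (h * L.φ xM * h⁻¹)) * h := by group
          _ = _ := by rw [h2]; group)
    refine ⟨k, hk, ?_⟩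
    rw [conj_pow]
    rcases hk' with e | e
    · left
      calc g = h * (h⁻¹ * g * h) * h⁻¹ := by group
        _ = _ := by rw [e]
    · right
      calc g = h * (h⁻¹ * g * h) * h⁻¹ := by group
        _ = _ := by rw [e]; group
  res := L.res
  h27 := L.h27
  h81 := L.h81

@[simp] theorem conj_t (h : G) : (L.conj h).t = h * L.t * h⁻¹ := rfl
@[simp] theorem conj_r (h : G) : (L.conj h).r = h * L.r * h⁻¹ := rfl
@[simp] theorem conj_Xeq (h : G) : (L.conj h).X = h * L.X * h⁻¹ := rfl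

/-- `⟨r⟩ × C_R(r)`. -/
noncomputable def E : Subgroup G where
  carrier := {g | g ∈ L.D ∨ g * L.r ∈ L.D}
  one_mem' := Or.inl (one_mem _)
  mul_mem' := fun {a b} ha hb => by
    simp only [Set.mem_setOf_eq] at ha hb ⊢
    rcases ha with ha | ha <;> rcases hb with hb | hb
    · exact Or.inl (mul_mem ha hb)
    · exact Or.inr (by rw [mul_assoc]; exact mul_mem ha hb)
    · refine Or.inr ?_
      rw [mul_assoc, (L.mem_D.1 hb).2, ← mul_assoc]
      exact mul_mem ha hb
    · refine Or.inl ?_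
      have hbr : b * L.r = L.r * b := by
        have e := (L.mem_D.1 hb).2
        rw [mul_assoc b L.r L.r, L.rr, mul_one] at e
        calc b * L.r = L.r * (L.r * (b * L.r)) := by rw [← mul_assoc, L.rr, one_mul]
          _ = L.r * b := by rw [← e]
      rw [show a * b = a * L.r * (b * L.r) by
        rw [hbr, ← mul_assoc, mul_assoc a L.r L.r, L.rr, mul_one]]
      exact mul_mem ha hb
  inv_mem' := fun {a} ha => by
    simp only [Set.mem_setOf_eq] at ha ⊢
    rcases ha with ha | ha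
    · exact Or.inl (inv_mem ha)
    · refine Or.inr ?_
      have har : a * L.r = L.r * a := by
        have e := (L.mem_D.1 ha).2
        rw [mul_assoc a L.r L.r, L.rr, mul_one] at e
        calc a * L.r = L.r * (L.r * (a * L.r)) := by rw [← mul_assoc, L.rr, one_mul]
          _ = L.r * a := by rw [← e]
      have := inv_mem ha
      rwa [har, mul_inv_rev, L.r_inv] at this

theorem D_le_E : L.D ≤ L.E := fun _ h => Or.inl h

theorem r_E : L.r ∈ L.E := Or.inr (by rw [L.rr]; exact one_mem _)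

theorem t_E : L.t ∈ L.E := L.D_le_E L.t_D

/-- `E` consists of the 2-elements centralising `t` and `r`. -/
theorem mem_E {g : G} : g ∈ L.E ↔
    g * L.t = L.t * g ∧ g * L.r = L.r * g ∧ ∃ k, orderOf g = 2 ^ k := by
  refine ⟨fun h => ?_, fun ⟨h1, h2, h3⟩ => ?_⟩
  · have hD : ∀ {d}, d ∈ L.D → ∃ k, orderOf d = 2 ^ k := fun hd => (L.mem_R.1 (L.D_le hd)).2
    rcases h with h | h
    · exact ⟨L.R_comm (L.D_le h), (L.mem_D.1 h).2, hD h⟩
    · have e := (L.mem_D.1 h).2
      rw [mul_assoc g L.r L.r, L.rr, mul_one] at e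
      have e' : g * L.r = L.r * g := by
        calc g * L.r = L.r * (L.r * (g * L.r)) := by rw [← mul_assoc, L.rr, one_mul]
          _ = L.r * g := by rw [← e]
      refine ⟨?_, e', ?_⟩
      · calc g * L.t = g * L.r * (L.r * L.t) := by rw [mul_assoc, ← mul_assoc L.r, L.rr, one_mul]
          _ = g * L.r * L.t * L.r := by rw [L.φ_comm]; group
          _ = L.t * g := by
            rw [L.R_comm (L.D_le h), mul_assoc L.t, mul_assoc g, L.rr, mul_one]
      · obtain ⟨k, hk⟩ := hD h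
        obtain ⟨j, -, hj⟩ := (Nat.dvd_prime_pow Nat.prime_two).1
          (((show Commute (g * L.r) L.r from (L.mem_D.1 h).2).orderOf_mul_dvd_mul_orderOf).trans
            (show orderOf (g * L.r) * orderOf L.r ∣ 2 ^ (k + 1) by
              rw [hk, pow_succ]
              exact Nat.mul_dvd_mul_left _ (orderOf_dvd_of_pow_eq_one (by rw [pow_two, L.rr]))))
        rw [mul_assoc, L.rr, mul_one] at hj
        exact ⟨j, hj⟩
  · rcases L.two_r h1 h2 h3 with h | h
    · exact Or.inl (L.mem_D.2 ⟨h, h2⟩)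
    · exact Or.inr (L.mem_D.2 ⟨h, by rw [← mul_assoc L.r, ← h2]⟩)

theorem E_two : IsPGroup 2 L.E := IsPGroup.iff_orderOf.2 fun g => by
  obtain ⟨k, hk⟩ := (L.mem_E.1 g.2).2.2
  exact ⟨k, by rw [← hk, Subgroup.orderOf_coe]⟩

theorem card_E : Nat.card L.E = 2 * Nat.card L.D := by
  refine le_antisymm (L.two_bound _ L.E_two fun g hg => ⟨(L.mem_E.1 hg).1, (L.mem_E.1 hg).2.1⟩) ?_
  have hlt : L.D < L.E := lt_of_le_of_ne L.D_le_E fun h => L.r_not_R (L.D_le (h ▸ L.r_E))
  have h1 := (L.D.subgroupOf L.E).card_mul_index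
  rw [Nat.card_congr (subgroupOfEquivOfLe L.D_le_E).toEquiv] at h1
  have h2 : 2 ≤ (L.D.subgroupOf L.E).index := by
    by_contra h
    have h0 := Subgroup.index_ne_zero_of_finite (H := L.D.subgroupOf L.E)
    have h3 : (L.D.subgroupOf L.E).index = 1 := by omega
    rw [index_eq_one, subgroupOf_eq_top] at h3
    exact absurd (lt_of_lt_of_le hlt h3) (lt_irrefl _)
  rw [← h1, mul_comm]
  exact Nat.mul_le_mul_left _ h2

/-- Two frames on the same pair have the same `E`. -/
theorem E_eq {L' : Loc G} (h : ∀ g : G, g * L.t = L.t * g ∧ g * L.r = L.r * g ↔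
    g * L'.t = L'.t * g ∧ g * L'.r = L'.r * g) : L.E = L'.E := by
  ext g
  rw [L.mem_E, L'.mem_E]
  exact ⟨fun ⟨a, b, c⟩ => ⟨((h g).1 ⟨a, b⟩).1, ((h g).1 ⟨a, b⟩).2, c⟩,
    fun ⟨a, b, c⟩ => ⟨((h g).2 ⟨a, b⟩).1, ((h g).2 ⟨a, b⟩).2, c⟩⟩

/-- A 2-group centralising a conjugate of the pair has order at most `2 |D|`. -/
theorem pair_bound {a b h : G} (ha : h * L.t * h⁻¹ = a) (hb : h * L.r * h⁻¹ = b) (P : Subgroup G)
    (h2 : IsPGroup 2 P) (hP : ∀ g ∈ P, g * a = a * g ∧ g * b = b * g) :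
    Nat.card P ≤ 2 * Nat.card L.D := by
  have e := Nat.card_congr (P.equivMapOfInjective (MulAut.conj h⁻¹ : G →* G)
    (MulAut.conj h⁻¹).injective).toEquiv
  rw [e]
  refine L.two_bound _ (h2.map _) ?_
  rintro _ ⟨g, hg, rfl⟩
  simp only [MonoidHom.coe_coe, MulAut.conj_apply, inv_inv]
  obtain ⟨h1, h2'⟩ := hP g hg
  constructor
  · calc h⁻¹ * g * h * L.t = h⁻¹ * (g * a) * h := by rw [← ha]; group
      _ = _ := by rw [h1, ← ha]; group
  · calc h⁻¹ * g * h * L.r = h⁻¹ * (g * b) * h := by rw [← hb]; group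
      _ = _ := by rw [h2', ← hb]; group

end Loc

end CfsgLib.Recog.MTwelveAmalgam
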