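import Cfsg.Agent.Lib.Recog.MTwelveAmalgam.Defs
import Cfsg.Agent.Lib.Recog.SelfCentThree.Final
import Cfsg.Agent.Lib.Geom.SimpleSixty
import Cfsg.Agent.Lib.Transfer.Thompson
import Mathlib.Data.Fintype.Perm

/-!
# The shape of the involution centraliser: a nilpotent normal subgroup of index 6

`H / ⟨t⟩` has a self-centralising subgroup of order three; of the three structures of
`SelfCentThree.conc` the simple group of order 168 and the extension of an elementary group by `A₅`
are impossible because `H` contains `GL₂(3)` with `-1 = t`.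
-/

set_option autoImplicit false
set_option maxRecDepth 10000
set_option synthInstance.maxSize 1000

namespace CfsgLib.Recog.MTwelveAmalgam

open Subgroup Equiv

universe u

/-- A double transposition. -/
def a0 : alternatingGroup (Fin 5) := ⟨swap 0 1 * swap 2 3, Perm.mem_alternatingGroup.2 (by decide)⟩

/-- A 3-cycle normalising a four-group through `a0`. -/
def g0 : alternatingGroup (Fin 5) := ⟨swap 1 2 * swap 2 3, Perm.mem_alternatingGroup.2 (by decide)⟩

/-- A 3-cycle moving the fixed point of that four-group. -/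
def h0 : alternatingGroup (Fin 5) := ⟨swap 2 3 * swap 3 4, Perm.mem_alternatingGroup.2 (by decide)⟩

theorem five_facts : g0 ^ 3 = 1 ∧ g0 ≠ 1 ∧ (g0 * a0) ^ 3 = 1 ∧ g0 * a0 ≠ 1 ∧ h0 ^ 3 = 1 ∧ h0 ≠ 1 ∧
    (g0⁻¹ * h0) ^ 3 = 1 ∧ g0⁻¹ * h0 ≠ 1 ∧
    (g0 * h0 * (g0⁻¹ * a0 * g0)) ^ 3 = 1 ∧ g0 * h0 * (g0⁻¹ * a0 * g0) ≠ 1 := by
  decide +kernel

theorem five_conj_invol : ∀ a : Perm (Fin 5), Perm.sign a = 1 → a * a = 1 → a ≠ 1 →
    ∃ c : Perm (Fin 5), Perm.sign c = 1 ∧ c * a * c⁻¹ = (a0 : Perm (Fin 5)) := by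
  decide +kernel

theorem five_conj_three : ∀ x : Perm (Fin 5), x ^ 3 = 1 → x ≠ 1 → ∀ k : Perm (Fin 5), k ^ 3 = 1 →
    k ≠ 1 → ∃ c : Perm (Fin 5), Perm.sign c = 1 ∧ (c * x * c⁻¹ = k ∨ c * x * c⁻¹ = k⁻¹) := by
  decide +kernel

theorem five_conj :
    (∀ a : alternatingGroup (Fin 5), a * a = 1 → a ≠ 1 → ∃ c, c * a * c⁻¹ = a0) ∧
    (∀ x : alternatingGroup (Fin 5), x ^ 3 = 1 → x ≠ 1 → ∀ k, k ^ 3 = 1 → k ≠ 1 →
      ∃ c, c * x * c⁻¹ = k ∨ c * x * c⁻¹ = k⁻¹) := by
  refine ⟨fun a h2 h1 => ?_, fun x h3 h1 k k3 k1 => ?_⟩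
  · obtain ⟨c, hc, e⟩ := five_conj_invol a (Perm.mem_alternatingGroup.1 a.2)
      (congrArg Subtype.val h2) (fun h => h1 (Subtype.ext h))
    exact ⟨⟨c, Perm.mem_alternatingGroup.2 hc⟩, Subtype.ext e⟩
  · obtain ⟨c, hc, e⟩ := five_conj_three x (congrArg Subtype.val h3)
      (fun h => h1 (Subtype.ext h)) k (congrArg Subtype.val k3) (fun h => k1 (Subtype.ext h))
    exact ⟨⟨c, Perm.mem_alternatingGroup.2 hc⟩, e.imp Subtype.ext Subtype.ext⟩

/-- Congruence modulo the involution. -/
def Mod {G : Type u} [Mul G] (t a b : G) : Prop := a = b ∨ a = b * t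

namespace Mod

variable {G : Type u} [Group G] {t a b c d : G}

theorem refl (a : G) : Mod t a a := Or.inl rfl

theorem symm (tt : t * t = 1) (h : Mod t a b) : Mod t b a :=
  h.imp Eq.symm fun e => by rw [e, mul_assoc, tt, mul_one]

theorem trans (tt : t * t = 1) (h : Mod t a b) (h' : Mod t b c) : Mod t a c := by
  rcases h with rfl | rfl <;> rcases h' with rfl | rfl
  · exact Or.inl rfl
  · exact Or.inr rfl
  · exact Or.inr rfl
  · exact Or.inl (by rw [mul_assoc, tt, mul_one])

theorem mul (tt : t * t = 1) (hz : ∀ g : G, g * t = t * g) (h : Mod t a b) (h' : Mod t c d) :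
    Mod t (a * c) (b * d) := by
  rcases h with rfl | rfl <;> rcases h' with rfl | rfl
  · exact Or.inl rfl
  · exact Or.inr (mul_assoc _ _ _).symm
  · exact Or.inr (by rw [mul_assoc b t, ← hz, mul_assoc])
  · refine Or.inl ?_
    rw [mul_assoc b t, ← mul_assoc t, ← hz, mul_assoc d, tt, mul_one]

theorem conj (hz : ∀ g : G, g * t = t * g) (g : G) (h : Mod t a b) :
    Mod t (g * a * g⁻¹) (g * b * g⁻¹) := by
  rcases h with rfl | rfl
  · exact Or.inl rfl
  · refine Or.inr ?_
    rw [show g * (b * t) * g⁻¹ = g * b * (t * g⁻¹) by group, ← hz g⁻¹]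
    group

end Mod

/-- A normal subgroup, elementary modulo a central involution, with quotient `A₅` in which the
elements of order three act without fixed points, contains no element of order four fixed modulo
the involution by an involution of the quotient. -/
theorem no_five {H : Type u} [Group H] {t : H} (tt : t * t = 1) (t1 : t ≠ 1)
    (hz : ∀ g : H, g * t = t * g) (π : H →* alternatingGroup (Fin 5)) (hπ : Function.Surjective π)
    (hP : ∀ p : H, π p = 1 → Mod t (p * p) 1) {x : H} (hx3 : π x ^ 3 = 1) (hx1 : π x ≠ 1)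
    (hfpf : ∀ p : H, π p = 1 → Mod t (x * p * x⁻¹) p → Mod t p 1)
    {w τ : H} (hw : π w = 1) (hww : w * w = t) (hτ2 : π τ * π τ = 1) (hτ1 : π τ ≠ 1)
    (hτw : Mod t (τ * w * τ⁻¹) w) : False := by
  have hmem : ∀ {p : H}, π p = 1 → ∀ g : H, π (g * p * g⁻¹) = 1 := fun {p} hp g => by
    rw [map_mul, map_mul, hp, map_inv, mul_one, mul_inv_cancel]
  -- commutation modulo `t` in the kernel
  have hcomm : ∀ {p q : H}, π p = 1 → π q = 1 → Mod t (p * q) (q * p) := by
    intro p q hp hq
    have e : p * q = p * p * ((p⁻¹ * q) * (p⁻¹ * q)) * ((q⁻¹ * q⁻¹)) * (q * p) := by group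
    have h1 := hP p hp
    have h2 := hP (p⁻¹ * q) (by rw [map_mul, map_inv, hp, hq, inv_one, one_mul])
    have h3 := hP q⁻¹ (by rw [map_inv, hq, inv_one])
    have h := Mod.mul tt hz (Mod.mul tt hz (Mod.mul tt hz h1 h2) h3) (Mod.refl (t := t) (q * p))
    rw [one_mul, one_mul, one_mul, ← e] at h
    exact h
  -- the elements over elements of order three act without fixed points
  have hfix : ∀ k : H, π k ^ 3 = 1 → π k ≠ 1 → ∀ p : H, π p = 1 → Mod t (k * p * k⁻¹) p →
      Mod t p 1 := by
    intro k hk3 hk1 p hp hfix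
    obtain ⟨c, hc⟩ := five_conj.2 _ hx3 hx1 _ hk3 hk1
    obtain ⟨c, rfl⟩ := hπ c
    set k' := c * x * c⁻¹ with hk'
    obtain ⟨m, hm, hkm⟩ : ∃ m, π m = 1 ∧ (k = k' * m ∨ k⁻¹ = k' * m) := by
      rcases hc with hc | hc
      · refine ⟨k'⁻¹ * k, ?_, Or.inl (by group)⟩
        rw [map_mul, map_inv, hk', map_mul, map_mul, map_inv, hc, inv_mul_cancel]
      · refine ⟨k'⁻¹ * k⁻¹, ?_, Or.inr (by group)⟩
        rw [map_mul, map_inv, hk', map_mul, map_mul, map_inv, hc, map_inv, inv_mul_cancel]
    have hfix' : Mod t (k' * m * p * (k' * m)⁻¹) p := by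
      rcases hkm with h | h
      · rwa [← h]
      · rw [← h, inv_inv]
        have := (Mod.conj hz k⁻¹ hfix).symm tt
        rwa [inv_inv, show k⁻¹ * (k * p * k⁻¹) * k = p by group] at this
    have hmp : Mod t (m * p * m⁻¹) p := by
      have := Mod.mul tt hz (hcomm hm hp) (Mod.refl (t := t) m⁻¹)
      rwa [mul_inv_cancel_right] at this
    have h1 : Mod t (k' * p * k'⁻¹) p := by
      refine Mod.trans tt ((Mod.conj hz k' hmp).symm tt) ?_
      rwa [show k' * (m * p * m⁻¹) * k'⁻¹ = k' * m * p * (k' * m)⁻¹ by group]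
    have h2 := Mod.conj hz c⁻¹ h1
    rw [hk', inv_inv, show c⁻¹ * (c * x * c⁻¹ * p * (c * x * c⁻¹)⁻¹) * c =
      x * (c⁻¹ * p * c) * x⁻¹ by group] at h2
    have h3 := Mod.conj hz c (hfpf (c⁻¹ * p * c) (by simpa using hmem hp c⁻¹) h2)
    simpa [mul_assoc] using h3
  -- the relation `p · kp · k²p = 1`
  have hrel : ∀ k : H, π k ^ 3 = 1 → π k ≠ 1 → ∀ p : H, π p = 1 →
      Mod t (p * (k * p * k⁻¹) * (k * (k * p * k⁻¹) * k⁻¹)) 1 := by
    intro k hk3 hk1 p hp
    have hp1 := hmem hp k
    have hp2 := hmem hp1 k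
    refine hfix k hk3 hk1 _ (by rw [map_mul, map_mul, hp, hp1, hp2, one_mul, one_mul]) ?_
    have hk : Mod t (k * (k * (k * p * k⁻¹) * k⁻¹) * k⁻¹) p := by
      have h3 : π (k * k * k) = 1 := by
        rw [map_mul, map_mul, ← pow_two, ← pow_succ]; exact hk3
      have := Mod.mul tt hz (hcomm h3 hp) (Mod.refl (t := t) (k * k * k)⁻¹)
      rw [mul_inv_cancel_right] at this
      rwa [show k * (k * (k * p * k⁻¹) * k⁻¹) * k⁻¹ = k * k * k * p * (k * k * k)⁻¹ by group]
    have e : k * (p * (k * p * k⁻¹) * (k * (k * p * k⁻¹) * k⁻¹)) * k⁻¹ =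
        k * p * k⁻¹ * (k * (k * p * k⁻¹) * k⁻¹) * (k * (k * (k * p * k⁻¹) * k⁻¹) * k⁻¹) := by group
    rw [e]
    refine Mod.trans tt (Mod.mul tt hz (Mod.refl (t := t) _) hk) ?_
    have := hcomm (p := k * p * k⁻¹ * (k * (k * p * k⁻¹) * k⁻¹)) (q := p)
      (by rw [map_mul, hp1, hp2, one_mul]) hp
    rwa [← mul_assoc p] at this
  -- anticommutation
  have hanti : ∀ k : H, π k ^ 3 = 1 → π k ≠ 1 → k * w * k⁻¹ * w = w * (k * w * k⁻¹) * t := by
    intro k hk3 hk1
    have hsq : ∀ g : H, g * w * g⁻¹ * (g * w * g⁻¹) = t := fun g => by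
      rw [show g * w * g⁻¹ * (g * w * g⁻¹) = g * (w * w) * g⁻¹ by group, hww, hz g,
        mul_inv_cancel_right]
    have hr := hrel k hk3 hk1 w hw
    set q := k * w * k⁻¹ with hq
    set r := k * q * k⁻¹ with hr'
    have hrr : r * r = t := by
      rw [hr', hq, show k * (k * w * k⁻¹) * k⁻¹ = k * k * w * (k * k)⁻¹ by group]
      exact hsq _
    have hwq : w * q * (w * q) = t := by
      rcases hr with e | e
      · have e' : w * q = r⁻¹ := eq_inv_of_mul_eq_one_left e
        rw [e', ← mul_inv_rev, hrr, inv_eq_of_mul_eq_one_right tt]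
      · rw [one_mul] at e
        have e' : w * q = r⁻¹ * t := by
          rw [eq_inv_mul_iff_mul_eq, ← mul_right_inj r⁻¹]
          have : w * q * r = t := e
          calc r⁻¹ * (r * (w * q)) = w * q * r * r⁻¹ := by group
            _ = t * r⁻¹ := by rw [this]
            _ = r⁻¹ * t := (hz _).symm
        rw [e', mul_assoc r⁻¹, ← mul_assoc t r⁻¹ t, ← hz r⁻¹, mul_assoc r⁻¹ t t, tt, mul_one,
          ← mul_inv_rev, hrr, inv_eq_of_mul_eq_one_right tt]
    have hwi : w⁻¹ = w * t := inv_eq_of_mul_eq_one_right (by rw [← mul_assoc, hww, tt])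
    have hqi : q⁻¹ = q * t := inv_eq_of_mul_eq_one_right (by
      rw [← mul_assoc, hq, hsq k, tt])
    calc q * w = w⁻¹ * (w * q * (w * q)) * q⁻¹ := by group
      _ = w * t * t * (q * t) := by rw [hwq, hwi, hqi]
      _ = _ := by rw [mul_assoc w t t, tt, mul_one, ← mul_assoc]
  -- normalise the involution of the quotient
  obtain ⟨c, hc⟩ := five_conj.1 _ hτ2 hτ1
  obtain ⟨g, hg⟩ := hπ (c⁻¹ * g0 * c)
  obtain ⟨h, hh⟩ := hπ (c⁻¹ * h0 * c)
  have hτ0 : π τ = c⁻¹ * a0 * c := by rw [← hc]; group
  obtain ⟨f1, f2, f3, f4, f5, f6, f7, f8, f9, f10⟩ := five_facts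
  have tr : ∀ z : alternatingGroup (Fin 5), z ^ 3 = 1 → z ≠ 1 →
      (c⁻¹ * z * c) ^ 3 = 1 ∧ c⁻¹ * z * c ≠ 1 := fun z h3 h1 => by
    refine ⟨?_, fun e => h1 ?_⟩
    · rw [show (c⁻¹ * z * c) ^ 3 = c⁻¹ * z ^ 3 * c by simp [pow_succ, mul_assoc], h3, mul_one,
        inv_mul_cancel]
    · rw [show z = c * (c⁻¹ * z * c) * c⁻¹ by group, e, mul_one, mul_inv_cancel]
  have kg : π g ^ 3 = 1 ∧ π g ≠ 1 := by rw [hg]; exact tr _ f1 f2
  have kga : π (g * τ) ^ 3 = 1 ∧ π (g * τ) ≠ 1 := by
    rw [map_mul, hg, hτ0, show c⁻¹ * g0 * c * (c⁻¹ * a0 * c) = c⁻¹ * (g0 * a0) * c by group]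
    exact tr _ f3 f4
  have kh : π h ^ 3 = 1 ∧ π h ≠ 1 := by rw [hh]; exact tr _ f5 f6
  have kgh : π (g⁻¹ * h) ^ 3 = 1 ∧ π (g⁻¹ * h) ≠ 1 := by
    rw [map_mul, map_inv, hg, hh,
      show (c⁻¹ * g0 * c)⁻¹ * (c⁻¹ * h0 * c) = c⁻¹ * (g0⁻¹ * h0) * c by group]
    exact tr _ f7 f8
  set ζ := g⁻¹ * τ * g with hζ
  have kghc : π (g * h * ζ) ^ 3 = 1 ∧ π (g * h * ζ) ≠ 1 := by
    rw [hζ, map_mul, map_mul, map_mul, map_mul, map_inv, hg, hh, hτ0,
      show c⁻¹ * g0 * c * (c⁻¹ * h0 * c) * ((c⁻¹ * g0 * c)⁻¹ * (c⁻¹ * a0 * c) * (c⁻¹ * g0 * c)) =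
        c⁻¹ * (g0 * h0 * (g0⁻¹ * a0 * g0)) * c by group]
    exact tr _ f9 f10
  -- the fixed points spread over the four-group
  set q := g * w * g⁻¹ with hq
  have hq1 : π q = 1 := hmem hw g
  set r := g * q * g⁻¹ with hr
  have hr1 : π r = 1 := hmem hq1 g
  have hgq : Mod t (τ * q * τ⁻¹) q := by
    have e1 := hrel g kg.1 kg.2 w hw
    have e2 := hrel (g * τ) kga.1 kga.2 w hw
    have p1 : Mod t (g * τ * w * (g * τ)⁻¹) q := by
      rw [show g * τ * w * (g * τ)⁻¹ = g * (τ * w * τ⁻¹) * g⁻¹ by group]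
      exact Mod.conj hz g hτw
    have p2 : Mod t (g * τ * (g * τ * w * (g * τ)⁻¹) * (g * τ)⁻¹) (g * (τ * q * τ⁻¹) * g⁻¹) := by
      refine Mod.trans tt (Mod.conj hz (g * τ) p1) (Or.inl ?_)
      group
    have e3 : Mod t (w * q * (g * (τ * q * τ⁻¹) * g⁻¹)) 1 :=
      Mod.trans tt ((Mod.mul tt hz (Mod.mul tt hz (Mod.refl (t := t) w) p1) p2).symm tt) e2
    have e4 : Mod t (g * (τ * q * τ⁻¹) * g⁻¹) r := by
      have := Mod.mul tt hz (Mod.refl (t := t) (w * q)⁻¹) (Mod.trans tt e3 (e1.symm tt))
      rwa [inv_mul_cancel_left, inv_mul_cancel_left] at this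
    have := Mod.conj hz g⁻¹ e4
    rwa [show g⁻¹ * (g * (τ * q * τ⁻¹) * g⁻¹) * g⁻¹⁻¹ = τ * q * τ⁻¹ by group,
      show g⁻¹ * r * g⁻¹⁻¹ = q by rw [hr]; group] at this
  have hζw : Mod t (ζ * w * ζ⁻¹) w := by
    have := Mod.conj hz g⁻¹ hgq
    rwa [show g⁻¹ * (τ * q * τ⁻¹) * g⁻¹⁻¹ = ζ * w * ζ⁻¹ by rw [hζ, hq]; group,
      show g⁻¹ * q * g⁻¹⁻¹ = w by rw [hq]; group] at this
  -- an element anticommuting with `w`, `q`, `r`
  set d := h * w * h⁻¹ with hd
  have aw : d * w = w * d * t := hanti h kh.1 kh.2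
  have ct : ∀ a b m : H, a * b = b * a * t →
      m * a * m⁻¹ * (m * b * m⁻¹) = m * b * m⁻¹ * (m * a * m⁻¹) * t := fun a b m e => by
    calc m * a * m⁻¹ * (m * b * m⁻¹) = m * (a * b) * m⁻¹ := by group
      _ = m * b * a * (t * m⁻¹) := by rw [e]; group
      _ = _ := by rw [← hz m⁻¹]; group
  have anticomm_mod : ∀ {a a' b : H}, Mod t a a' → a * b = b * a * t → a' * b = b * a' * t := by
    intro a a' b h e
    rcases h with rfl | rfl
    · exact e
    · refine mul_right_cancel (b := t) ?_
      calc a' * b * t = a' * t * b := by rw [mul_assoc, hz b, ← mul_assoc]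
        _ = b * (a' * t) * t := e
        _ = b * a' * t * t := by rw [← mul_assoc]
  have aq : d * q = q * d * t := by
    have := ct _ _ g (hanti _ kgh.1 kgh.2)
    rwa [show g * (g⁻¹ * h * w * (g⁻¹ * h)⁻¹) * g⁻¹ = d by rw [hd]; group] at this
  have ar : d * (g⁻¹ * w * g) = g⁻¹ * w * g * d * t := by
    have h1 : Mod t (g * h * ζ * w * (g * h * ζ)⁻¹) (g * h * w * (g * h)⁻¹) := by
      rw [show g * h * ζ * w * (g * h * ζ)⁻¹ = g * h * (ζ * w * ζ⁻¹) * (g * h)⁻¹ by group]
      exact Mod.conj hz (g * h) hζw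
    have := ct _ _ g⁻¹ (anticomm_mod h1 (hanti _ kghc.1 kghc.2))
    rwa [show g⁻¹ * (g * h * w * (g * h)⁻¹) * g⁻¹⁻¹ = d by rw [hd]; group, inv_inv] at this
  have hg3 : π (g * g * g) = 1 := by rw [map_mul, map_mul, ← pow_two, ← pow_succ]; exact kg.1
  have hr2 : Mod t (g⁻¹ * w * g) r := by
    have h0 : Mod t (g * g * g * w * (g * g * g)⁻¹) w := by
      have := Mod.mul tt hz (hcomm hg3 hw) (Mod.refl (t := t) (g * g * g)⁻¹)
      rwa [mul_inv_cancel_right] at this
    have := Mod.conj hz g⁻¹ (h0.symm tt)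
    rwa [inv_inv, show g⁻¹ * (g * g * g * w * (g * g * g)⁻¹) * g = r by rw [hr, hq]; group] at this
  have ar' : d * r = r * d * t := by
    have := anticomm_mod hr2 (show g⁻¹ * w * g * d = d * (g⁻¹ * w * g) * t by
      rw [ar, mul_assoc _ t t, tt, mul_one])
    rw [this, mul_assoc _ t t, tt, mul_one]
  have hwqr := hrel g kg.1 kg.2 w hw
  have hc' : d * (w * q * r) = w * q * r * d := by
    rcases hwqr with e | e
    · rw [← hq, ← hr] at e
      rw [e, mul_one, one_mul]
    · rw [← hq, ← hr, one_mul] at e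
      rw [e, hz]
  have h3 : d * (w * q * r) = w * q * r * d * t := by
    calc d * (w * q * r) = d * w * q * r := by group
      _ = w * (d * t) * q * r := by rw [aw]; group
      _ = w * (d * q) * r * t := by
        rw [show w * (d * t) * q * r = w * d * (t * (q * r)) by group, ← hz]
        group
      _ = w * q * (d * t) * r * t := by rw [aq]; group
      _ = w * q * (d * r) * t * t := by
        rw [show w * q * (d * t) * r = w * q * d * (t * r) by group, ← hz r]
        group
      _ = w * q * (d * r) := by rw [mul_assoc _ t t, tt, mul_one]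
      _ = w * q * r * d * t := by rw [ar']; group
  rw [hc'] at h3
  exact t1 (left_eq_mul.1 h3)

/-- The quaternion group in `GL₂(3)`. -/
def qList : List (GL (Fin 2) (ZMod 3)) := [1, -1, uM, -uM, xM * uM * xM⁻¹, -(xM * uM * xM⁻¹),
  uM * (xM * uM * xM⁻¹), -(uM * (xM * uM * xM⁻¹))]

theorem qList_mul : ∀ p ∈ qList, ∀ q ∈ qList, p * q ∈ qList := by
  have h : (qList.all fun p => qList.all fun q => decide (p * q ∈ qList)) = true := by decide +kernel
  simpa [List.all_eq_true] using h

theorem qList_inv : ∀ p ∈ qList, p⁻¹ ∈ qList := by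
  have h : (qList.all fun p => decide (p⁻¹ ∈ qList)) = true := by decide +kernel
  simpa [List.all_eq_true] using h

theorem qList_tau : ∀ p ∈ qList, tauM * p * tauM ∈ qList := by
  have h : (qList.all fun p => decide (tauM * p * tauM ∈ qList)) = true := by decide +kernel
  simpa [List.all_eq_true] using h

theorem qList_sq : ∀ p ∈ qList, p * p = -1 ∨ p = 1 ∨ p = -1 := by
  have h : (qList.all fun p => decide (p * p = -1 ∨ p = 1 ∨ p = -1)) = true := by decide +kernel
  simpa [List.all_eq_true] using h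

theorem qList_count : (Finset.univ.filter fun p : GL (Fin 2) (ZMod 3) => p ∈ qList).card = 8 ∧
    (Finset.univ.filter fun p : GL (Fin 2) (ZMod 3) => p ∈ qList ∨ p * tauM ∈ qList).card = 16 := by
  decide +kernel

theorem gl_closure : ∀ g : GL (Fin 2) (ZMod 3), g = 1 ∨ g = -1 ∨
    (∃ a : GL (Fin 2) (ZMod 3), a * g * a⁻¹ * g⁻¹ = uM) ∨
    (∃ a b : GL (Fin 2) (ZMod 3), a * g * a⁻¹ * (b * g * b⁻¹) = uM) := by decide +kernel

namespace Loc

variable {G : Type u} [Group G] [Finite G] (L : Loc G)

/-- **The shape.** -/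
theorem shape : ∃ N : Subgroup G, N ≤ L.H ∧ (N.subgroupOf L.H).Normal ∧ Group.IsNilpotent N ∧
    ¬ 3 ∣ Nat.card N ∧ N.relIndex L.H = 6 ∧ L.t ∈ N ∧ L.φ uM ∈ N ∧
    L.φ (xM * uM * xM⁻¹) ∈ N ∧ L.φ tauM ∉ N ∧ L.φ xM ∉ N := by
  classical
  set H := L.H with hH
  set tH : ↥H := ⟨L.t, L.mem_H.2 rfl⟩ with htH
  have hz : ∀ g : ↥H, g * tH = tH * g := fun g => Subtype.ext (L.mem_H.1 g.2)
  have tt : tH * tH = 1 := Subtype.ext L.tt
  have t1 : tH ≠ 1 := fun h => L.t_ne_one (congrArg Subtype.val h)
  have hto : orderOf tH = 2 := by rw [← Subgroup.orderOf_coe]; exact L.orderOf_t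
  haveI hTn : (zpowers tH).Normal := ⟨fun z hzm g => by
    obtain ⟨k, rfl⟩ := mem_zpowers_iff.1 hzm
    rw [← Invol.conj_zpow_eq g tH k |>.symm, show g * tH * g⁻¹ = tH by
      rw [hz, mul_inv_cancel_right]]
    exact zpow_mem (mem_zpowers _) k⟩
  have memT : ∀ g : ↥H, g ∈ zpowers tH ↔ g = 1 ∨ g = tH := fun g => by
    refine ⟨fun h => ?_, ?_⟩
    · obtain ⟨k, rfl⟩ := mem_zpowers_iff.1 h
      rcases Int.even_or_odd' k with ⟨l, rfl | rfl⟩
      · left; rw [zpow_mul, zpow_two, tt, one_zpow]
      · right; rw [zpow_add, zpow_mul, zpow_two, tt, one_zpow, one_mul, zpow_one]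
    · rintro (rfl | rfl)
      exacts [one_mem _, mem_zpowers _]
  let ψ : GL (Fin 2) (ZMod 3) →* ↥H := L.φ.codRestrict H L.φ_mem
  have ψ_neg : ψ (-1) = tH := Subtype.ext L.φ_neg
  have ψ_inj : Function.Injective ψ := fun a b h => L.φ_inj (congrArg Subtype.val h)
  obtain ⟨fx3, fx1, ft2, ft1, ftn, ftx, fuu, ftu, fuv, -⟩ := gl_facts
  set x := ψ xM with hx
  set τ := ψ tauM with hτ
  set w := ψ uM with hw
  have x3 : x * x * x = 1 := by rw [hx, ← map_mul, ← map_mul, fx3, map_one]
  have τ2 : τ * τ = 1 := by rw [hτ, ← map_mul, ft2, map_one]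
  have ww : w * w = tH := by rw [hw, ← map_mul, fuu, ψ_neg]
  have τw : τ * w * τ⁻¹ = w * tH := by
    rw [inv_eq_of_mul_eq_one_right τ2, hτ, hw, ← map_mul, ← map_mul, ftu, map_mul, ψ_neg]
  have τx : τ * x * τ⁻¹ = x * x := by
    rw [inv_eq_of_mul_eq_one_right τ2, hτ, hx, ← map_mul, ← map_mul, ftx, map_mul]
  set π := QuotientGroup.mk' (zpowers tH) with hπ
  have πeq : ∀ a b : ↥H, π a = π b → Mod tH a b := fun a b h => by
    rcases (memT _).1 (QuotientGroup.eq.1 h.symm) with e | e
    · exact Or.inl (inv_mul_eq_one.1 e).symm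
    · exact Or.inr (eq_mul_of_inv_mul_eq e)
  have hxo : orderOf x = 3 := orderOf_eq_prime (by rw [pow_succ, pow_two, x3])
    (fun h => fx1 (ψ_inj (by rw [map_one]; exact h)))
  have hcx : ∀ g : ↥H, π g * π x = π x * π g → π g ∈ zpowers (π x) := by
    intro g hg
    have hc : g * x = x * g := by
      rw [← map_mul, ← map_mul] at hg
      rcases πeq _ _ hg with e | e
      · exact e
      · exfalso
        have e' : g * x * g⁻¹ = x * tH := by
          rw [e, show x * g * tH * g⁻¹ = x * (g * tH * g⁻¹) by group, hz, mul_inv_cancel_right]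
        have h6 : (x * tH) ^ 3 = 1 := by
          rw [← e', conj_pow, ← hxo, pow_orderOf_eq_one, mul_one, mul_inv_cancel]
        rw [(show Commute x tH from hz x).mul_pow, ← hxo, pow_orderOf_eq_one, one_mul, hxo,
          pow_succ, pow_two, tt, one_mul] at h6
        exact t1 h6
    obtain ⟨k, -, e | e⟩ := L.cent_x g (L.mem_H.1 g.2) (congrArg Subtype.val hc)
    · rw [show g = x ^ k from Subtype.ext (by rw [e, coe_pow]; rfl), map_pow]
      exact pow_mem (mem_zpowers _) k
    · rw [show g = x ^ k * tH from Subtype.ext (by rw [e, Subgroup.coe_mul, coe_pow]; rfl), map_mul,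
        map_pow, show π tH = 1 from (QuotientGroup.eq_one_iff _).2 (mem_zpowers _), mul_one]
      exact pow_mem (mem_zpowers _) k
  have hπx : π x ≠ 1 := fun h => by
    rcases (memT _).1 ((QuotientGroup.eq_one_iff _).1 h) with e | e
    · rw [e, orderOf_one] at hxo; omega
    · rw [e, hto] at hxo; omega
  have hyp : SelfCentThree.Hyp (π x) := by
    refine ⟨orderOf_eq_prime (by rw [← map_pow, pow_succ, pow_two, x3, map_one]) hπx,
      le_antisymm (fun y hy => ?_) ?_⟩
    · obtain ⟨g, rfl⟩ := QuotientGroup.mk'_surjective _ y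
      exact hcx g (mem_centralizer_singleton_iff.1 hy)
    · rw [zpowers_le, mem_centralizer_singleton_iff]
  rcases SelfCentThree.conc hyp with ⟨N, hN, hnil, h3, hidx⟩ | ⟨E, hE, hE2, hsimp, hi⟩ |
      ⟨hsimp, h168⟩
  · -- the nilpotent case
    haveI := hN
    set M := N.comap π with hM
    have hMi : M.index = N.index := index_comap_of_surjective _ (QuotientGroup.mk'_surjective _)
    have hcard : Nat.card M = 2 * Nat.card N := by
      have h1 := M.card_mul_index
      rw [hMi, (zpowers tH).card_eq_card_quotient_mul_card_subgroup, Nat.card_zpowers, hto,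
        ← N.card_mul_index] at h1
      have hpos : N.index ≠ 0 := index_ne_zero_of_finite
      have := mul_right_cancel₀ hpos (h1.trans (show Nat.card ↥N * N.index * 2 =
        2 * Nat.card ↥N * N.index by ring))
      exact this
    have hM3 : ¬ 3 ∣ Nat.card M := by rw [hcard]; omega
    have hxM : x ∉ M := fun h => hM3 (hxo ▸ M.orderOf_dvd_natCard h)
    have hi6 : M.index = 6 := by
      rw [hMi]
      rcases hidx with h | h
      · exfalso
        -- `τ` would lie in `M`, hence also `x`
        have hτM : τ ∈ M := by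
          have h2 : τ ^ M.index ∈ M := M.pow_index_mem τ
          rwa [hMi, h, pow_succ, pow_two, τ2, one_mul] at h2
        have h4 : x * τ * x⁻¹ ∈ M := (inferInstance : M.Normal).conj_mem τ hτM x
        have h5 : τ⁻¹ * (x * τ * x⁻¹) ∈ M := mul_mem (inv_mem hτM) h4
        rw [show τ⁻¹ * (x * τ * x⁻¹) = τ * x * τ⁻¹ * x⁻¹ by
          rw [inv_eq_of_mul_eq_one_right τ2]; group, τx, mul_inv_cancel_right] at h5
        exact hxM h5
      · exact h
    have hτM : τ ∉ M := fun hτM => by
      have h4 : x * τ * x⁻¹ ∈ M := (inferInstance : M.Normal).conj_mem τ hτM x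
      have h5 : τ⁻¹ * (x * τ * x⁻¹) ∈ M := mul_mem (inv_mem hτM) h4
      rw [show τ⁻¹ * (x * τ * x⁻¹) = τ * x * τ⁻¹ * x⁻¹ by
        rw [inv_eq_of_mul_eq_one_right τ2]; group, τx, mul_inv_cancel_right] at h5
      exact hxM h5
    -- the quaternion group lies in `M`
    have hQM : w ∈ M := by
      by_contra hwM
      set f := QuotientGroup.mk' M with hf
      have hcard6 : Nat.card (↥H ⧸ M) = 6 := hi6
      set v := x * w * x⁻¹ with hv
      have htM : tH ∈ M := by
        show π tH ∈ N
        rw [show π tH = 1 from (QuotientGroup.eq_one_iff _).2 (mem_zpowers _)]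
        exact one_mem _
      have hf2 : f w * f w = 1 := by
        rw [← map_mul, ww]; exact (QuotientGroup.eq_one_iff _).2 htM
      have hfw : f w ≠ 1 := fun h => hwM ((QuotientGroup.eq_one_iff _).1 h)
      have hfwo : orderOf (f w) = 2 := orderOf_eq_prime (by rw [pow_two, hf2]) hfw
      have hfx : orderOf (f x) = 3 := orderOf_eq_prime (by rw [← map_pow, pow_succ, pow_two, x3, map_one])
        (fun h => hxM ((QuotientGroup.eq_one_iff _).1 h))
      have hfv2 : f v * f v = 1 := by
        rw [hv, ← map_mul, show x * w * x⁻¹ * (x * w * x⁻¹) = x * (w * w) * x⁻¹ by group, ww, hz,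
          mul_inv_cancel_right]
        exact (QuotientGroup.eq_one_iff _).2 htM
      have hwv : f w * f v * (f w * f v) = 1 := by
        have e : w * v * (w * v) = tH := by
          rw [hv, hx, hw, ← map_inv, ← map_mul, ← map_mul, ← map_mul, ← map_mul, fuv, ψ_neg]
        rw [← map_mul, ← map_mul, e]
        exact (QuotientGroup.eq_one_iff _).2 htM
      by_cases hfv : f v = f w
      · -- then `w` and `x` commute in a group of order six with an inverting `τ`
        have hcm : f x * f w = f w * f x := by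
          rw [hv, map_mul, map_mul, map_inv, mul_inv_eq_iff_eq_mul] at hfv
          exact hfv
        have hco := (show Commute (f x) (f w) from hcm).orderOf_mul_eq_mul_orderOf_of_coprime
          (by rw [hfx, hfwo]; norm_num)
        rw [hfx, hfwo] at hco
        haveI : IsCyclic (↥H ⧸ M) := isCyclic_of_orderOf_eq_card _ (hco.trans hcard6.symm)
        have hτx' : f τ * f x = f x * f τ := by
          letI : CommGroup (↥H ⧸ M) := IsCyclic.commGroup
          exact mul_comm _ _
        have h5 : f (τ * x * τ⁻¹) = f x := by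
          rw [map_mul, map_mul, map_inv, hτx', mul_inv_cancel_right]
        rw [τx, map_mul, mul_eq_left] at h5
        exact hxM ((QuotientGroup.eq_one_iff _).1 h5)
      · -- a four-group in a group of order six
        have hcm : f w * f v = f v * f w := by
          have := inv_eq_of_mul_eq_one_right hwv
          rw [mul_inv_rev, inv_eq_of_mul_eq_one_right hf2, inv_eq_of_mul_eq_one_right hfv2] at this
          exact this.symm
        have hfv1 : f v ≠ 1 := fun h => hfw (by
          rw [hv, map_mul, map_mul, map_inv, mul_inv_eq_one, mul_eq_left] at h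
          exact h)
        let V : Subgroup (↥H ⧸ M) :=
          { carrier := {1, f w, f v, f w * f v}
            one_mem' := by simp
            inv_mem' := by
              intro a ha
              simp only [Set.mem_insert_iff, Set.mem_singleton_iff] at ha ⊢
              rcases ha with rfl | rfl | rfl | rfl
              · simp
              · exact Or.inr (Or.inl (inv_eq_of_mul_eq_one_right hf2))
              · exact Or.inr (Or.inr (Or.inl (inv_eq_of_mul_eq_one_right hfv2)))
              · exact Or.inr (Or.inr (Or.inr (inv_eq_of_mul_eq_one_right hwv)))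
            mul_mem' := by
              intro a b ha hb
              have e1 : f v * f w = f w * f v := hcm.symm
              have e2 : f v * (f w * f v) = f w := by rw [hcm, ← mul_assoc, hfv2, one_mul]
              have e3 : f w * (f w * f v) = f v := by rw [← mul_assoc, hf2, one_mul]
              have e4 : f w * f v * f w = f v := by rw [mul_assoc, e1, e3]
              have e5 : f w * f v * f v = f w := by rw [mul_assoc, hfv2, mul_one]
              simp only [Set.mem_insert_iff, Set.mem_singleton_iff] at ha hb ⊢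
              rcases ha with rfl | rfl | rfl | rfl <;> rcases hb with rfl | rfl | rfl | rfl <;>
                simp [hf2, hfv2, hwv, e1, e2, e3, e4, e5] }
        have h4 : Nat.card V = 4 := by
          show Nat.card ↥({1, f w, f v, f w * f v} : Set (↥H ⧸ M)) = 4
          rw [Nat.card_coe_set_eq, Set.ncard_insert_of_notMem, Set.ncard_insert_of_notMem,
            Set.ncard_pair]
          · intro e; exact hfw (right_eq_mul.1 e)
          · simp only [Set.mem_insert_iff, Set.mem_singleton_iff, not_or]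
            exact ⟨fun e => hfv e.symm, fun e => hfv1 (left_eq_mul.1 e)⟩
          · simp only [Set.mem_insert_iff, Set.mem_singleton_iff, not_or]
            refine ⟨fun e => hfw e.symm, fun e => hfv1 e.symm, fun e => hfv ?_⟩
            rw [← inv_eq_of_mul_eq_one_right hf2]
            exact (inv_eq_of_mul_eq_one_right e.symm).symm
        have := V.card_subgroup_dvd_card
        rw [h4, hcard6] at this
        norm_num at this
    have hvM : x * w * x⁻¹ ∈ M := (inferInstance : M.Normal).conj_mem w hQM x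
    have htM : tH ∈ M := ww ▸ mul_mem hQM hQM
    -- nilpotency
    have hnilM : Group.IsNilpotent M := by
      let g : ↥M →* ↥N := (π.comp M.subtype).codRestrict N fun m => m.2
      haveI := hnil
      refine Subgroup.isNilpotent_of_ker_le_center g fun m hm => ?_
      rw [MonoidHom.mem_ker] at hm
      have hm' : (m : ↥H) ∈ zpowers tH := (QuotientGroup.eq_one_iff _).1 (congrArg Subtype.val hm)
      rw [mem_center_iff]
      intro y
      apply Subtype.ext
      show (y : ↥H) * m = m * y
      rcases (memT _).1 hm' with e | e <;> rw [e]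
      · simp
      · exact hz _
    refine ⟨M.map H.subtype, map_subtype_le _, ?_, ?_, ?_, ?_, ⟨_, htM, rfl⟩, ⟨_, hQM, rfl⟩, ?_,
      ?_, ?_⟩
    · rw [subgroupOf, comap_map_eq_self_of_injective H.subtype_injective]
      infer_instance
    · exact Group.nilpotent_of_mulEquiv (M.equivMapOfInjective H.subtype H.subtype_injective)
    · rwa [← Nat.card_congr (M.equivMapOfInjective H.subtype H.subtype_injective).toEquiv]
    · rw [relIndex, subgroupOf, comap_map_eq_self_of_injective H.subtype_injective, hi6]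
    · refine ⟨_, hvM, ?_⟩
      show ((x * w * x⁻¹ : ↥H) : G) = _
      rw [map_mul, map_mul, map_inv]
      rfl
    · exact fun h => hτM ((mem_map_iff_mem H.subtype_injective).1 h)
    · exact fun h => hxM ((mem_map_iff_mem H.subtype_injective).1 h)
  · -- an elementary group extended by `A₅`
    exfalso
    haveI := hE
    haveI := hsimp
    obtain ⟨e5⟩ := CfsgLib.Geom.equiv_altFive_of_simple_sixty (G := (↥H ⧸ zpowers tH) ⧸ E) hi
    let σ : ↥H →* alternatingGroup (Fin 5) :=
      e5.toMonoidHom.comp ((QuotientGroup.mk' E).comp π)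
    have hσ : Function.Surjective σ :=
      e5.surjective.comp ((QuotientGroup.mk'_surjective _).comp (QuotientGroup.mk'_surjective _))
    have hker : ∀ g : ↥H, σ g = 1 ↔ π g ∈ E := fun g => by
      rw [← QuotientGroup.eq_one_iff (N := E) (π g)]
      exact e5.map_eq_one_iff
    have hP : ∀ p : ↥H, σ p = 1 → Mod tH (p * p) 1 := fun p hp =>
      πeq _ _ (by rw [map_mul, map_one, hE2 _ ((hker p).1 hp)])
    have hx1 : σ x ≠ 1 := fun h => hπx <| by
      have h2 := hE2 _ ((hker x).1 h)
      have h3' : π x * π x * π x = 1 := by rw [← map_mul, ← map_mul, x3, map_one]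
      rwa [h2, one_mul] at h3'
    have hfpf : ∀ p : ↥H, σ p = 1 → Mod tH (x * p * x⁻¹) p → Mod tH p 1 := by
      intro p hp hfx
      have hpe : π p ∈ E := (hker p).1 hp
      have hc : π p * π x = π x * π p := by
        have : π (x * p * x⁻¹) = π p := by
          rcases hfx with e | e <;> rw [e]
          rw [map_mul, show π tH = 1 from (QuotientGroup.eq_one_iff _).2 (mem_zpowers _), mul_one]
        rw [map_mul, map_mul, map_inv, mul_inv_eq_iff_eq_mul] at this
        exact this.symm
      have hp1 : π p = 1 := by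
        have hdo : orderOf (π p) ∣ 3 := hyp.ord ▸ orderOf_dvd_of_mem_zpowers (hcx p hc)
        have hd2 : orderOf (π p) ∣ 2 := orderOf_dvd_of_pow_eq_one (by rw [pow_two]; exact hE2 _ hpe)
        exact orderOf_eq_one_iff.1 (Nat.eq_one_of_dvd_coprimes (by norm_num) hdo hd2)
      exact πeq _ _ (by rw [hp1, map_one])
    have hτ1 : σ τ ≠ 1 := fun h => hx1 <| by
      have h5 : σ (τ * x * τ⁻¹) = σ x := by rw [map_mul, map_mul, map_inv, h, one_mul, inv_one, mul_one]
      rwa [τx, map_mul, mul_eq_left] at h5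
    have hσt : σ tH = 1 := (hker tH).2 (by
      rw [show π tH = 1 from (QuotientGroup.eq_one_iff _).2 (mem_zpowers _)]; exact one_mem _)
    have hσw : σ w = 1 := by
      by_contra hne
      -- the image of `GL₂(3)` would have order 24
      set f := σ.comp ψ with hf
      have hk : ∀ g, f g = 1 → g = 1 ∨ g = -1 := by
        intro g hg
        rcases gl_closure g with h | h | ⟨a, h⟩ | ⟨a, b, h⟩
        · exact Or.inl h
        · exact Or.inr h
        · exact absurd (show f uM = 1 by
            rw [← h, map_mul, map_mul, map_mul, map_inv, map_inv, hg]; group) hne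
        · exact absurd (show f uM = 1 by
            rw [← h, map_mul, map_mul, map_mul, map_mul, map_mul, map_inv, map_inv, hg]; group) hne
      have hk2 : Nat.card f.ker = 2 := by
        have : (f.ker : Set (GL (Fin 2) (ZMod 3))) = {1, -1} := by
          ext g
          simp only [SetLike.mem_coe, MonoidHom.mem_ker, Set.mem_insert_iff, Set.mem_singleton_iff]
          refine ⟨hk g, ?_⟩
          rintro (rfl | rfl)
          · exact map_one f
          · show σ (ψ (-1)) = 1
            rw [ψ_neg, hσt]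
        rw [← SetLike.coe_sort_coe, Nat.card_coe_set_eq, this, Set.ncard_pair]
        exact fun h => gl_facts.2.2.2.2.2.2.2.2.2 h.symm
      have h48 : Nat.card (GL (Fin 2) (ZMod 3)) = 48 := by
        rw [Matrix.card_GL_field]; simp [Fin.prod_univ_two]
      have h24 := f.ker.card_eq_card_quotient_mul_card_subgroup
      rw [h48, hk2, Nat.card_congr (QuotientGroup.quotientKerEquivRange f).toEquiv] at h24
      have h60 := f.range.card_subgroup_dvd_card
      rw [show Nat.card f.range = 24 by omega, nat_card_alternatingGroup, Nat.card_fin,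
        show Nat.factorial 5 / 2 = 60 from rfl] at h60
      norm_num at h60
    exact no_five tt t1 hz σ hσ hP (by rw [← map_pow, pow_succ, pow_two, x3, map_one]) hx1 hfpf
      hσw ww (by rw [← map_mul, τ2, map_one]) hτ1 (Or.inr τw)
  · -- order 168: `τ` would be conjugate to an element of order four
    exfalso
    haveI := hsimp
    haveI : Fact (Nat.Prime 2) := ⟨Nat.prime_two⟩
    set a := π w with ha
    set b := π (x * w * x⁻¹) with hb
    have hπt : π tH = 1 := (QuotientGroup.eq_one_iff _).2 (mem_zpowers _)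
    -- the four-group and the Sylow subgroup
    set fψ := π.comp ψ with hfψ
    obtain ⟨hq1, hq2, hq3, hq4⟩ := And.intro qList_mul (And.intro qList_inv (And.intro qList_tau qList_sq))
    let Q8 : Subgroup (GL (Fin 2) (ZMod 3)) :=
      { carrier := {p | p ∈ qList}
        one_mem' := by simp [qList]
        mul_mem' := fun {p q} hp hq => hq1 p hp q hq
        inv_mem' := fun {p} hp => hq2 p hp }
    let T16 : Subgroup (GL (Fin 2) (ZMod 3)) :=
      { carrier := {p | p ∈ qList ∨ p * tauM ∈ qList}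
        one_mem' := by simp [qList]
        mul_mem' := fun {p q} hp hq => by
          simp only [Set.mem_setOf_eq] at hp hq ⊢
          have hτ' : tauM * tauM = 1 := ft2
          rcases hp with hp | hp <;> rcases hq with hq | hq
          · exact Or.inl (hq1 _ hp _ hq)
          · exact Or.inr (by rw [mul_assoc]; exact hq1 _ hp _ hq)
          · refine Or.inr ?_
            have := hq1 _ hp _ (hq3 _ hq)
            rwa [show p * tauM * (tauM * q * tauM) = p * (tauM * tauM) * q * tauM by group, hτ',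
              mul_one] at this
          · refine Or.inl ?_
            have := hq1 _ hp _ (hq3 _ hq)
            rwa [show p * tauM * (tauM * (q * tauM) * tauM) =
              p * (tauM * tauM) * q * (tauM * tauM) by group, hτ', mul_one, mul_one] at this
        inv_mem' := fun {p} hp => by
          simp only [Set.mem_setOf_eq] at hp ⊢
          rcases hp with hp | hp
          · exact Or.inl (hq2 _ hp)
          · refine Or.inr ?_
            have := hq3 _ (hq2 _ hp)
            rwa [mul_inv_rev, inv_eq_of_mul_eq_one_right ft2, ← mul_assoc, ft2, one_mul] at this }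
    have hQT : Q8 ≤ T16 := fun p hp => Or.inl hp
    have hcount := qList_count
    have hQ8 : Nat.card Q8 = 8 := by
      rw [← hcount.1]
      exact Nat.subtype_card _ fun p => by simp [Q8]
    have hT16 : Nat.card T16 = 16 := by
      rw [← hcount.2]
      exact Nat.subtype_card _ fun p => by simp [T16]
    have hkerψ : ∀ p, fψ p = 1 → p = 1 ∨ p = -1 := fun p hp => by
      rcases (memT _).1 ((QuotientGroup.eq_one_iff _).1 hp) with e | e
      · exact Or.inl (ψ_inj (e.trans (map_one ψ).symm))
      · exact Or.inr (ψ_inj (e.trans ψ_neg.symm))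
    have hmap : ∀ K : Subgroup (GL (Fin 2) (ZMod 3)), (-1 : GL (Fin 2) (ZMod 3)) ∈ K →
        2 * Nat.card (K.map fψ) = Nat.card K := fun K hK => by
      have hk : Nat.card (fψ.comp K.subtype).ker = 2 := by
        have : ((fψ.comp K.subtype).ker : Set ↥K) = {1, ⟨-1, hK⟩} := by
          ext g
          simp only [SetLike.mem_coe, MonoidHom.mem_ker, Set.mem_insert_iff, Set.mem_singleton_iff]
          refine ⟨fun hg => (hkerψ _ hg).imp Subtype.ext Subtype.ext, ?_⟩
          rintro (rfl | rfl)
          · exact map_one _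
          · show π (ψ (-1)) = 1
            rw [ψ_neg, hπt]
        rw [← SetLike.coe_sort_coe, Nat.card_coe_set_eq, this, Set.ncard_pair]
        exact fun h => gl_facts.2.2.2.2.2.2.2.2.2 (congrArg Subtype.val h).symm
      have hq := (fψ.comp K.subtype).ker.card_eq_card_quotient_mul_card_subgroup
      rw [hk, Nat.card_congr (QuotientGroup.quotientKerEquivRange _).toEquiv,
        MonoidHom.range_comp, Subgroup.range_subtype] at hq
      rw [hq, mul_comm]
    have hT8 : Nat.card (T16.map fψ) = 8 := by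
      have := hmap T16 (Or.inl (by simp [qList]))
      rw [hT16] at this; omega
    have hQ4 : Nat.card (Q8.map fψ) = 4 := by
      have := hmap Q8 (by simp [Q8, qList])
      rw [hQ8] at this; omega
    have h168' : (168 : ℕ).factorization 2 = 3 := by
      rw [Nat.factorization_def _ Nat.prime_two, show (168 : ℕ) = 2 ^ 3 * 21 by norm_num,
        padicValNat.mul (by norm_num) (by norm_num), padicValNat.prime_pow,
        padicValNat.eq_zero_of_not_dvd (by norm_num)]
    let P : Sylow 2 (↥H ⧸ zpowers tH) := Sylow.ofCard (T16.map fψ) (by rw [h168, h168', hT8]; rfl)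
    have hrel : (Q8.map fψ).relIndex (P : Subgroup (↥H ⧸ zpowers tH)) = 2 := by
      have h := Subgroup.card_mul_index ((Q8.map fψ).subgroupOf (T16.map fψ))
      rw [Nat.card_congr (Subgroup.subgroupOfEquivOfLe (Subgroup.map_mono hQT)).toEquiv, hQ4, hT8] at h
      show ((Q8.map fψ).subgroupOf (T16.map fψ)).index = 2
      omega
    rcases CfsgLib.Transfer.thompson_transfer_involution P (Q := Q8.map fψ)
        (Subgroup.map_mono hQT) hrel (u := π τ) (by rw [pow_two, ← map_mul, τ2, map_one])
        ⟨tauM, Or.inr (by rw [ft2]; simp [qList]), rfl⟩ with ⟨M, hMn, hM2, -⟩ | ⟨g, p, hp, hgp⟩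
    · rcases IsSimpleGroup.eq_bot_or_eq_top_of_normal M hMn with h | h <;> rw [h] at hM2
      · rw [Subgroup.index_bot, h168] at hM2; omega
      · rw [Subgroup.index_top] at hM2; omega
    · obtain ⟨g, rfl⟩ := QuotientGroup.mk'_surjective _ g
      rw [← map_mul, ← map_inv, ← map_mul] at hgp
      have hsq : p * p = -1 ∨ p = 1 ∨ p = -1 := by
        exact hq4 p hp
      have hne : ψ p * ψ p = tH → False := fun hpp => by
        rcases πeq _ _ hgp with e | e <;> rw [e] at hpp
        · rw [show g * τ * g⁻¹ * (g * τ * g⁻¹) = g * (τ * τ) * g⁻¹ by group, τ2, mul_one,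
            mul_inv_cancel] at hpp
          exact t1 hpp.symm
        · rw [mul_assoc, ← mul_assoc tH, ← hz, mul_assoc _ tH tH, tt, mul_one,
            show g * τ * g⁻¹ * (g * τ * g⁻¹) = g * (τ * τ) * g⁻¹ by group, τ2, mul_one,
            mul_inv_cancel] at hpp
          exact t1 hpp.symm
      have hone : π (g * τ * g⁻¹) = 1 → False := fun h1 => by
        rw [map_mul, map_mul, map_inv, conj_eq_one_iff] at h1
        rcases (memT _).1 ((QuotientGroup.eq_one_iff _).1 h1) with e | e
        · exact ft1 (ψ_inj (e.trans (map_one ψ).symm))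
        · exact ftn (ψ_inj (e.trans ψ_neg.symm))
      rcases hsq with h | h | h
      · exact hne (by rw [← map_mul, h, ψ_neg])
      · exact hone (by rw [← hgp, h, map_one])
      · refine hone ?_
        rw [← hgp]
        show π (ψ p) = 1
        rw [h, ψ_neg, hπt]

end Loc

end CfsgLib.Recog.MTwelveAmalgam
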