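import Cfsg.Agent.Lib.Recog.MTwelveAmalgam.Sym
import Cfsg.Agent.Lib.Solvable.Nilpotent
import Mathlib.GroupTheory.Perm.Cycle.Type

/-!
# Fixed points of the symmetric group of degree three on the centre of `E`

An involution of the centre fixed by `u` lies in `D_t`; a common fixed point of `u` and `u'` lies in
all three `D`'s; without one there is a natural plane inside all three.
-/

set_option autoImplicit false
set_option linter.unusedSectionVars false

namespace CfsgLib.Recog.MTwelveAmalgam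

open Subgroup

universe u

namespace Cfg

variable {G : Type u} [Group G] [Finite G] (C : Cfg G)

/-- Lying in all three `D`'s. -/
def InAll (g : G) : Prop := g ∈ C.Lt.D ∧ g ∈ C.Lτ.D ∧ g ∈ C.Lz.D

/-- Conjugation by `u`. -/
def a (g : G) : G := C.u * g * C.u⁻¹

/-- Conjugation by `u'`. -/
def b (g : G) : G := C.u' * g * C.u'⁻¹

theorem a_mul (g h : G) : C.a (g * h) = C.a g * C.a h := by simp only [a]; group

theorem b_mul (g h : G) : C.b (g * h) = C.b g * C.b h := by simp only [b]; group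

theorem a_inj {g h : G} (e : C.a g = C.a h) : g = h := mul_left_cancel (mul_right_cancel e)

theorem a_a' {g : G} (hg : C.Cz g) : C.a (C.a g) = g := C.a_a hg.1

theorem b_b {g : G} (hg : C.Cz g) : C.b (C.b g) = g := C.swap.a_a' (C.Cz_swap.2 hg)

theorem Cz_a {g : G} (hg : C.Cz g) : C.Cz (C.a g) := C.a_Cz hg

theorem Cz_b {g : G} (hg : C.Cz g) : C.Cz (C.b g) := C.Cz_swap.1 (C.swap.a_Cz (C.Cz_swap.2 hg))

theorem aba {g : G} (hg : C.Cz g) : C.a (C.b (C.a g)) = C.b (C.a (C.b g)) := C.braid hg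

theorem Cz_comm {g h : G} (hg : C.Cz g) (hh : C.Cz h) : g * h = h * g := hh.2 g hg.1

/-- An involution of `E` fixed by `u` lies in `D_t`. -/
theorem fixed_mem_Dt {f : G} (hf : f ∈ C.E) (hf2 : f * f = 1) (ha : C.a f = f) : f ∈ C.Lt.D := by
  by_contra hD
  obtain ⟨hft, hfτ, -⟩ := C.mem_E.1 hf
  have hR : f ∉ C.Lt.R := fun h => hD (C.Lt.mem_D.2 ⟨h, by
    rw [show C.Lt.r = C.τ from C.φt_tau]; exact hfτ⟩)
  obtain ⟨h, hht, hh⟩ := C.Lt.outside hft hf2 hR
  rw [show C.Lt.r = C.τ from C.φt_tau] at hh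
  set L := C.Lτ.conj h
  have ht' : L.t = f := by rw [Loc.conj_t]; exact hh
  have hr' : L.r = C.t := by
    rw [Loc.conj_r, show C.Lτ.r = C.t from C.φτ_tau]; exact C.Lt.t_conj hht
  have htR : C.t ∉ L.R := hr' ▸ L.r_not_R
  have hu : C.u * L.t = L.t * C.u := by
    rw [ht']; exact mul_inv_eq_iff_eq_mul.1 ha
  have h2 : ∃ k, orderOf C.τ = 2 ^ k := ⟨1, by rw [C.Lτ.orderOf_t]; rfl⟩
  rcases L.two_r (g := C.τ) (by rw [ht']; exact hfτ.symm) (by rw [hr']; exact C.tτ.symm) h2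
    with h1 | h1
  · have h3 := L.R_conj hu h1
    rw [C.uτ] at h3
    have h4 := mul_mem (inv_mem h1) h3
    rw [inv_mul_cancel_left] at h4
    exact htR h4
  · rw [hr'] at h1
    have h3 := L.R_conj hu h1
    rw [show C.u * (C.τ * C.t) * C.u⁻¹ = C.u * C.τ * C.u⁻¹ * (C.u * C.t * C.u⁻¹) by group,
      C.uτ, C.ut, mul_assoc, C.tt, mul_one] at h3
    have h4 := mul_mem (inv_mem h3) h1
    rw [inv_mul_cancel_left] at h4
    exact htR h4

/-- A common fixed point lies in all three. -/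
theorem fixed_InAll {f : G} (hf : C.Cz f) (hf2 : f * f = 1) (ha : C.a f = f) (hb : C.b f = f) :
    C.InAll f := by
  have h1 := C.fixed_mem_Dt hf.1 hf2 ha
  have h2 : f ∈ C.Lτ.D := C.swap.fixed_mem_Dt (by rw [C.swap_E]; exact hf.1) hf2 hb
  refine ⟨h1, h2, ?_⟩
  rw [← ha]
  exact C.a_Dτ h2

theorem InAll_b {g : G} (hg : C.InAll g) : C.InAll (C.b g) :=
  ⟨C.swap.a_Dz (by rw [C.swap_Dz]; exact hg.2.2), C.swap.a_Dt hg.2.1,
    C.swap_Dz ▸ C.swap.a_Dτ hg.1⟩

/-- The intersection of two `D`'s. -/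
noncomputable def Δ : Subgroup G := C.Lt.D ⊓ C.Lτ.D

theorem t_not_Dτ : C.t ∉ C.Lτ.D := by
  have := C.Lτ.r_not_D
  rwa [show C.Lτ.r = C.t from C.φτ_tau] at this

theorem τ_not_Dt : C.τ ∉ C.Lt.D := by
  have := C.Lt.r_not_D
  rwa [show C.Lt.r = C.τ from C.φt_tau] at this

theorem t_not_Δ : C.t ∉ C.Δ := fun h => C.t_not_Dτ h.2

theorem τ_not_Δ : C.τ ∉ C.Δ := fun h => C.τ_not_Dt h.1

theorem tτ_not_Δ : C.t * C.τ ∉ C.Δ := fun h =>
  C.τ_not_Dt ((C.Lt.D.mul_mem_cancel_left C.Lt.t_D).1 h.1)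

/-- Every element of `D_t` is in `Δ` up to `t`. -/
theorem Dt_decomp {g : G} (hg : g ∈ C.Lt.D) : g ∈ C.Δ ∨ g * C.t ∈ C.Δ := by
  rcases (C.Eτ.symm ▸ C.Dt_le hg : g ∈ C.Lτ.E) with h | h
  · exact Or.inl ⟨hg, h⟩
  · rw [show C.Lτ.r = C.t from C.φτ_tau] at h
    exact Or.inr ⟨mul_mem hg C.Lt.t_D, h⟩

theorem card_Δ : 2 * Nat.card C.Δ = Nat.card C.Lt.D := by
  classical
  refine le_antisymm ?_ ?_
  · have hlt : C.Δ < C.Lt.D := lt_of_le_of_ne inf_le_left fun h => C.t_not_Δ (h ▸ C.Lt.t_D)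
    obtain ⟨j, hj⟩ := card_dvd_of_le hlt.le
    have : j ≠ 1 := fun h => hlt.ne (eq_of_le_of_card_ge hlt.le (by rw [hj, h, mul_one]))
    have : j ≠ 0 := fun h => by
      have := Nat.card_pos (α := C.Lt.D)
      rw [hj, h] at this; omega
    rw [hj, mul_comm]
    exact Nat.mul_le_mul_left _ (by omega)
  · let f : ↥C.Lt.D → ↥C.Δ ⊕ ↥C.Δ := fun g =>
      if h : (g : G) ∈ C.Δ then Sum.inl ⟨g, h⟩
      else Sum.inr ⟨g * C.t, (C.Dt_decomp g.2).resolve_left h⟩
    have hf : Function.Injective f := by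
      intro g g' h
      simp only [f] at h
      split_ifs at h with h1 h2
      · exact Subtype.ext (congrArg Subtype.val (Sum.inl.inj h) :)
      · exact Subtype.ext (mul_right_cancel (congrArg Subtype.val (Sum.inr.inj h) :))
    refine (Nat.card_le_card_of_injective f hf).trans ?_
    rw [Nat.card_sum]; omega

/-- A non-trivial central involution of `E` outside the four-group. -/
theorem exists_central (h4 : 4 ≤ Nat.card C.Lt.D) :
    ∃ g, g ∈ C.Δ ∧ C.Cz g ∧ g * g = 1 ∧ g ≠ 1 := by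
  haveI : Fact (Nat.Prime 2) := ⟨Nat.prime_two⟩
  haveI := C.Lt.E_two.isNilpotent
  set N := C.Δ.subgroupOf C.E
  have hN : N.Normal := ⟨fun n hn e => by
    rw [mem_subgroupOf] at hn ⊢
    have he := inv_mem e.2
    simp only [Subgroup.coe_mul, Subgroup.coe_inv]
    constructor
    · show (e : G) * n * (e : G)⁻¹ ∈ C.Lt.D
      have hn' := C.Dt_le hn.1
      have hne : (e : G) * n ∈ C.E := mul_mem e.2 hn'
      rw [C.Lt.E_mul_iff hne he, C.Lt.E_mul_iff e.2 hn', inv_mem_iff]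
      exact ⟨fun h => h.2 hn.1, fun h => iff_of_true h hn.1⟩
    · show (e : G) * n * (e : G)⁻¹ ∈ C.Lτ.D
      have hn' : (n : G) ∈ C.Lτ.E := C.Lτ.D_le_E hn.2
      have he' : (e : G)⁻¹ ∈ C.Lτ.E := C.Eτ.symm ▸ he
      have hee : (e : G) ∈ C.Lτ.E := C.Eτ.symm ▸ e.2
      rw [C.Lτ.E_mul_iff (mul_mem hee hn') he', C.Lτ.E_mul_iff hee hn', inv_mem_iff]
      exact ⟨fun h => h.2 hn.2, fun h => iff_of_true h hn.2⟩⟩
  have hle : C.Δ ≤ C.E := inf_le_left.trans C.Dt_le
  have hne : N ≠ ⊥ := fun h => by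
    have h1 : Nat.card N = 1 := by rw [h, card_bot]
    rw [Nat.card_congr (subgroupOfEquivOfLe hle).toEquiv] at h1
    have := C.card_Δ
    omega
  have h := CfsgLib.Solvable.normal_inf_center_ne_bot N hne
  obtain ⟨g, hg⟩ := exists_prime_orderOf_dvd_card' (G := ↥(N ⊓ center ↥C.E)) 2 (by
    obtain ⟨k, hk⟩ := IsPGroup.iff_card.1 (C.Lt.E_two.to_subgroup (N ⊓ center ↥C.E))
    rw [hk]
    refine dvd_pow_self 2 fun hk0 => h ?_
    rw [hk0, pow_zero] at hk
    exact card_eq_one.1 hk)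
  have ho : orderOf ((g : ↥C.E) : G) = 2 := by rw [Subgroup.orderOf_coe, Subgroup.orderOf_coe, hg]
  refine ⟨((g : ↥C.E) : G), g.2.1, ⟨(g : ↥C.E).2, fun e he => ?_⟩, ?_, fun h1 => ?_⟩
  · exact congrArg Subtype.val (mem_center_iff.1 g.2.2 ⟨e, he⟩)
  · rw [← pow_two, ← ho, pow_orderOf_eq_one]
  · rw [h1, orderOf_one] at ho
    norm_num at ho

section NoFixed

variable (hno : ∀ g, C.Cz g → g * g = 1 → C.a g = g → C.b g = g → g = 1)

include hno

/-- The rotation has no fixed point. -/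
theorem sigma_fix {P : G} (hP : C.Cz P) (h : C.a (C.b P) = P) : P = 1 := by
  have main : ∀ {P : G}, C.Cz P → P * P = 1 → C.a (C.b P) = P → P = 1 := by
    intro P hP hP2 h
    have hba : C.b P = C.a P := by rw [← C.a_a' (C.Cz_b hP), h]
    have hP' := C.Cz_mul hP (C.Cz_a hP)
    have hc := C.Cz_comm hP (C.Cz_a hP)
    have h1 : P * C.a P = 1 := hno _ hP'
      (by rw [show P * C.a P * (P * C.a P) = P * (C.a P * P) * C.a P by group, ← hc,
            ← mul_assoc, hP2, one_mul, ← C.a_mul, hP2]; simp [a])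
      (by rw [C.a_mul, C.a_a' hP, hc])
      (by rw [C.b_mul, hba, ← hba, C.b_b hP, hba, hc])
    have haP : C.a P = P := by
      rw [eq_inv_of_mul_eq_one_right h1]; exact inv_eq_of_mul_eq_one_right hP2
    exact hno P hP hP2 haP (by rw [hba, haP])
  by_contra hne
  obtain ⟨k, hk⟩ := (C.mem_E.1 hP.1).2.2
  rcases k with _ | k
  · exact hne (orderOf_eq_one_iff.1 (by rw [hk]; rfl))
  · have ho : orderOf (P ^ 2 ^ k) = 2 := by
      rw [orderOf_pow' _ (by positivity), hk, pow_succ, Nat.gcd_mul_right_left,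
        Nat.mul_div_cancel_left _ (by positivity)]
    have hpow : ∀ g : G, ∀ n : ℕ, C.a (g ^ n) = C.a g ^ n ∧ C.b (g ^ n) = C.b g ^ n := fun g n =>
      ⟨by simp only [a]; rw [conj_pow], by simp only [b]; rw [conj_pow]⟩
    have h1 := main (C.Cz_pow hP (2 ^ k)) (by rw [← pow_two]; exact orderOf_dvd_iff_pow_eq_one.1 ho.dvd)
      (by rw [(hpow _ _).2, (hpow _ _).1, h])
    rw [h1, orderOf_one] at ho
    norm_num at ho

/-- The product over an orbit of the rotation is trivial. -/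
theorem rel {g : G} (hg : C.Cz g) : g * C.a (C.b g) * C.b (C.a g) = 1 := by
  have h1 := C.Cz_a (C.Cz_b hg)
  have h2 := C.Cz_b (C.Cz_a hg)
  refine C.sigma_fix hno (C.Cz_mul (C.Cz_mul hg h1) h2) ?_
  have e1 : C.a (C.b (C.b (C.a g))) = g := by rw [C.b_b (C.Cz_a hg), C.a_a' hg]
  have e2 : C.a (C.b (C.a (C.b g))) = C.b (C.a g) := by
    rw [← C.aba hg, C.a_a' (C.Cz_b (C.Cz_a hg))]
  rw [C.b_mul, C.b_mul, C.a_mul, C.a_mul, e1, e2, C.Cz_comm (C.Cz_mul h1 h2) hg, mul_assoc]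

/-- The natural plane. -/
theorem exists_natural (h4 : 4 ≤ Nat.card C.Lt.D) :
    ∃ n, C.Cz n ∧ n * n = 1 ∧ C.a n = n ∧ C.InAll n ∧ n ≠ 1 := by
  obtain ⟨g, hgΔ, hg, hg2, hg1⟩ := C.exists_central h4
  by_contra hcon
  push Not at hcon
  -- then every fixed involution is trivial or `t`
  have key : ∀ m, C.Cz m → m * m = 1 → C.a m = m → m = 1 ∨ m = C.t := by
    intro m hm hm2 ham
    have hD := C.fixed_mem_Dt hm.1 hm2 ham
    have hz : ∀ m', m' ∈ C.Lτ.D → C.a m' = m' → m' ∈ C.Lz.D := fun m' h1 h2 => h2 ▸ C.a_Dτ h1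
    by_cases hτ : m ∈ C.Lτ.D
    · exact Or.inl (hcon m hm hm2 ham ⟨hD, hτ, hz m hτ ham⟩)
    · have hmt : m * C.t ∈ C.Δ := (C.Dt_decomp hD).resolve_left fun h => hτ h.2
      have ham' : C.a (m * C.t) = m * C.t := by rw [C.a_mul, ham, show C.a C.t = C.t from C.ut]
      have h1 := hcon _ (C.Cz_mul hm C.Cz_t)
        (by rw [show m * C.t * (m * C.t) = m * (C.t * m) * C.t by group, hm.2 _ C.t_E,
          ← mul_assoc, hm2, one_mul, C.tt]) ham' ⟨hmt.1, hmt.2, hz _ hmt.2 ham'⟩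
      exact Or.inr (by rw [← mul_one m, ← C.tt, ← mul_assoc, h1, one_mul])
  -- so both conjugations are trivial modulo the four-group on `g`
  have hsq : ∀ {p q : G}, C.Cz p → C.Cz q → p * p = 1 → q * q = 1 → p * q * (p * q) = 1 :=
    fun {p q} hp hq h1 h2 => by
      rw [show p * q * (p * q) = p * (q * p) * q by group, C.Cz_comm hq hp, ← mul_assoc, h1,
        one_mul, h2]
  have ha2 : C.a g * C.a g = 1 := by rw [← C.a_mul, hg2]; simp [a]
  have hb2 : C.b g * C.b g = 1 := by rw [← C.b_mul, hg2]; simp [b]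
  have hA : C.a g = g ∨ C.a g = g * C.t := by
    rcases key (g * C.a g) (C.Cz_mul hg (C.Cz_a hg)) (hsq hg (C.Cz_a hg) hg2 ha2)
      (by rw [C.a_mul, C.a_a' hg, C.Cz_comm hg (C.Cz_a hg)]) with h | h
    · left
      calc C.a g = g * (g * C.a g) := by rw [← mul_assoc, hg2, one_mul]
        _ = g := by rw [h, mul_one]
    · right
      calc C.a g = g * (g * C.a g) := by rw [← mul_assoc, hg2, one_mul]
        _ = _ := by rw [h]
  have hB : C.b g = g ∨ C.b g = g * C.τ := by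
    set P := g * C.b g with hP
    have hPc : C.Cz P := C.Cz_mul hg (C.Cz_b hg)
    have hP2 : P * P = 1 := hsq hg (C.Cz_b hg) hg2 hb2
    have hPb : C.b P = P := by
      show C.b (g * C.b g) = g * C.b g
      rw [C.b_mul, C.b_b hg, C.Cz_comm hg (C.Cz_b hg)]
    have hQ2 : C.b (C.a P) * C.b (C.a P) = 1 := by
      rw [← C.b_mul, ← C.a_mul, hP2]; simp [a, b]
    rcases key (C.b (C.a P)) (C.Cz_b (C.Cz_a hPc)) hQ2 (by rw [C.aba hPc, hPb]) with h | h
    · left
      have e : P = 1 := by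
        have h1 : C.a P = 1 := by rw [← C.b_b (C.Cz_a hPc), h]; simp [b]
        rw [← C.a_a' hPc, h1]; simp [a]
      calc C.b g = g * P := by rw [hP, ← mul_assoc, hg2, one_mul]
        _ = g := by rw [e, mul_one]
    · right
      have e : P = C.τ := by
        have h1 : C.a P = C.b C.t := by rw [← C.b_b (C.Cz_a hPc), h]
        rw [show C.b C.t = C.t * C.τ from C.swap.uτ] at h1
        rw [← C.a_a' hPc, h1, C.a_mul, show C.a C.t = C.t from C.ut,
          show C.a C.τ = C.τ * C.t from C.uτ, ← mul_assoc, C.tτ, mul_assoc, C.tt, mul_one]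
      calc C.b g = g * P := by rw [hP, ← mul_assoc, hg2, one_mul]
        _ = _ := by rw [e]
  have hV : ∀ {s}, s = 1 ∨ s = C.t ∨ s = C.τ ∨ s = C.t * C.τ → g ≠ s := by
    rintro s (rfl | rfl | rfl | rfl) h <;> subst h
    exacts [hg1 rfl, C.t_not_Δ hgΔ, C.τ_not_Δ hgΔ, C.tτ_not_Δ hgΔ]
  have hrel := C.rel hno hg
  have hat : C.a C.t = C.t := C.ut
  have haτ : C.a C.τ = C.τ * C.t := C.uτ
  have hbt : C.b C.t = C.t * C.τ := C.swap.uτ
  have hbτ : C.b C.τ = C.τ := C.swap.ut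
  have hgt : C.t * g = g * C.t := hg.2 _ C.t_E
  have hgτ : C.τ * g = g * C.τ := hg.2 _ C.τ_E
  have htτ := C.tτ
  -- the orbit product is `g` modulo the four-group
  have hmod : ∃ s, (s = 1 ∨ s = C.t ∨ s = C.τ ∨ s = C.t * C.τ) ∧
      g * C.a (C.b g) * C.b (C.a g) = g * s := by
    have e1 : ∀ s s', (∀ e ∈ ({C.t, C.τ} : Set G), e * g = g * e) →
        s * g = g * s → g * (g * s) * (g * s') = g * (s * s') := fun s s' _ hs => by
      calc g * (g * s) * (g * s') = g * g * (s * g) * s' := by group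
        _ = g * (s * s') := by rw [hg2, one_mul, hs]; group
    have hcases : ∀ p q : G, (∃ s, (s = 1 ∨ s = C.t ∨ s = C.τ ∨ s = C.t * C.τ) ∧ p = g * s) →
        (∃ s, (s = 1 ∨ s = C.t ∨ s = C.τ ∨ s = C.t * C.τ) ∧ q = g * s) →
        ∃ s, (s = 1 ∨ s = C.t ∨ s = C.τ ∨ s = C.t * C.τ) ∧ g * p * q = g * s := by
      rintro p q ⟨s, hs, rfl⟩ ⟨s', hs', rfl⟩
      refine ⟨s * s', ?_, e1 s s' (fun e he => by
        rcases he with rfl | rfl <;> assumption) ?_⟩
      · have k1 : ∀ x, C.t * (C.t * x) = x := fun x => by rw [← mul_assoc, C.tt, one_mul]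
        have k2 : ∀ x, C.τ * (C.τ * x) = x := fun x => by rw [← mul_assoc, C.ττ, one_mul]
        have k3 : ∀ x, C.τ * (C.t * x) = C.t * (C.τ * x) := fun x => by
          rw [← mul_assoc, ← htτ, mul_assoc]
        rcases hs with rfl | rfl | rfl | rfl <;> rcases hs' with rfl | rfl | rfl | rfl <;>
          simp only [mul_assoc, C.tt, C.ττ, htτ.symm, k1, k2, k3, mul_one, one_mul, true_or, or_true]
      · rcases hs with rfl | rfl | rfl | rfl
        · simp
        · exact hgt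
        · exact hgτ
        · rw [mul_assoc, hgτ, ← mul_assoc, hgt, mul_assoc]
    refine hcases _ _ ?_ ?_
    · rcases hB with h | h <;> rcases hA with h' | h' <;> rw [h]
      · exact ⟨1, Or.inl rfl, by rw [h', mul_one]⟩
      · exact ⟨C.t, Or.inr (Or.inl rfl), h'⟩
      · exact ⟨C.t * C.τ, Or.inr (Or.inr (Or.inr rfl)), by rw [C.a_mul, h', haτ, htτ]⟩
      · exact ⟨C.τ, Or.inr (Or.inr (Or.inl rfl)), by
          rw [C.a_mul, h', haτ, ← htτ, mul_assoc, ← mul_assoc C.t C.t, C.tt, one_mul]⟩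
    · rcases hA with h | h <;> rcases hB with h' | h' <;> rw [h]
      · exact ⟨1, Or.inl rfl, by rw [h', mul_one]⟩
      · exact ⟨C.τ, Or.inr (Or.inr (Or.inl rfl)), h'⟩
      · exact ⟨C.t * C.τ, Or.inr (Or.inr (Or.inr rfl)), by rw [C.b_mul, h', hbt]⟩
      · exact ⟨C.t, Or.inr (Or.inl rfl), by
          rw [C.b_mul, h', hbt, mul_assoc, ← mul_assoc C.τ, ← htτ, mul_assoc C.t, C.ττ, mul_one]⟩
  obtain ⟨s, hs, e⟩ := hmod
  rw [hrel] at e
  refine hV hs ?_
  calc g = g⁻¹ := (inv_eq_of_mul_eq_one_right hg2).symm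
    _ = g⁻¹ * (g * s) := by rw [← e, mul_one]
    _ = s := by group

/-- The three points of the natural plane are distinct. -/
theorem natural_facts {n : G} (hn : C.Cz n) (hn2 : n * n = 1) (ha : C.a n = n) (h1 : n ≠ 1) :
    C.b n ≠ 1 ∧ C.b n ≠ n ∧ C.a (n * C.b n) = C.b n ∧ C.b (n * C.b n) = n * C.b n := by
  have hb : C.b n ≠ n := fun h => h1 (hno n hn hn2 ha h)
  have hb1 : C.b n ≠ 1 := fun h => h1 (by rw [← C.b_b hn, h]; simp [b])
  have hbn2 : C.b n * C.b n = 1 := by rw [← C.b_mul, hn2]; simp [b]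
  refine ⟨hb1, hb, ?_, by rw [C.b_mul, C.b_b hn, C.Cz_comm hn (C.Cz_b hn)]⟩
  have h := C.rel hno hn
  rw [ha] at h
  rw [C.a_mul, ha]
  calc n * C.a (C.b n) = n * C.a (C.b n) * (C.b n * C.b n) := by rw [hbn2, mul_one]
    _ = n * C.a (C.b n) * C.b n * C.b n := by group
    _ = C.b n := by rw [h, one_mul]

/-- An abelian `E` has order congruent to one modulo three. -/
theorem card_E_mod (hab : ∀ g ∈ C.E, C.Cz g) : Nat.card C.E % 3 = 1 := by
  classical
  haveI := Fintype.ofFinite ↥C.E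
  haveI : Fact (Nat.Prime 3) := ⟨Nat.prime_three⟩
  let σ : Function.End ↥C.E := fun g => ⟨C.a (C.b g), (C.Cz_a (C.Cz_b (hab g g.2))).1⟩
  have hσ : σ ^ 3 ^ 1 = 1 := by
    funext g
    refine Subtype.ext ?_
    show C.a (C.b (C.a (C.b (C.a (C.b g))))) = g
    have hg := hab g g.2
    rw [show C.a (C.b (C.a (C.b g))) = C.b (C.a g) by
      rw [← C.aba hg, C.a_a' (C.Cz_b (C.Cz_a hg))], C.b_b (C.Cz_a hg), C.a_a' hg]
  have h := Equiv.Perm.card_fixedPoints_modEq hσ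
  have h1 : Fintype.card (Function.fixedPoints σ) = 1 := by
    refine Fintype.card_eq_one_iff.2 ⟨⟨1, ?_⟩, fun ⟨g, hg⟩ => Subtype.ext (Subtype.ext ?_)⟩
    · exact Subtype.ext (by show C.a (C.b 1) = 1; simp [a, b])
    · exact C.sigma_fix hno (hab g g.2) (congrArg Subtype.val hg)
  rw [h1] at h
  rw [Nat.card_eq_fintype_card]
  exact h

end NoFixed

end Cfg

end CfsgLib.Recog.MTwelveAmalgam
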