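import Cfsg.Agent.Lib.Recog.MTwelveAmalgam.Sigma
import Cfsg.Agent.Lib.Recog.MTwelveAmalgam.Eps
import Cfsg.Agent.Lib.Recog.MTwelveAmalgam.Key

/-!
# A fixed central involution with non-trivial signs bounds `D` by four
-/

set_option autoImplicit false
set_option linter.unusedSectionVars false

namespace CfsgLib.Recog.MTwelveAmalgam

open Subgroup

universe u

namespace Cfg

variable {G : Type u} [Group G] [Finite G] (C : Cfg G)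

theorem rt : C.Lt.r = C.τ := C.φt_tau

theorem rτ : C.Lτ.r = C.t := C.φτ_tau

theorem uy_conj : C.u⁻¹ * C.Lτ.X * C.u⁻¹⁻¹ = C.Lz.X ∨ C.u⁻¹ * C.Lτ.X * C.u⁻¹⁻¹ = C.Lz.X⁻¹ := by
  rw [C.Lz_X, inv_inv]; exact C.u_y

theorem uz_conj : C.u * C.Lz.X * C.u⁻¹ = C.Lτ.X ∨ C.u * C.Lz.X * C.u⁻¹ = C.Lτ.X⁻¹ := by
  rw [C.Lz_X]
  rcases C.u_y with h | h
  · left; rw [← h]; group
  · right; rw [← inv_inv C.z, ← h]; group

theorem uz_t : C.u * C.Lz.t * C.u⁻¹ = C.τ := by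
  rw [C.Lz_t, show C.u * (C.τ * C.t) * C.u⁻¹ = C.u * C.τ * C.u⁻¹ * (C.u * C.t * C.u⁻¹) by group,
    C.uτ, C.ut, mul_assoc, C.tt, mul_one]

/-- The key lemma: a fixed involution in all three `D`'s has non-trivial sign at `y` and `z`. -/
theorem key_one {w : G} (hA : C.InAll w) (hw2 : w * w = 1) (ha : C.a w = w) (hw1 : w ≠ 1) :
    C.Lτ.One w ∧ C.Lz.One w := by
  obtain ⟨-, h2, h3⟩ := hA
  have hu' : C.u⁻¹ * w * C.u⁻¹⁻¹ = w := by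
    conv_lhs => rw [← ha, a]
    group
  rcases C.Lτ.zero_or_one (C.Lτ.D_le h2) hw2 with hy | hy
  · exfalso
    have hz : C.Lz.Zero w := hu' ▸ C.Lτ.zero_conj C.uy_conj hw2 hy
    have hwt : w * C.τ = C.τ * w := C.Lτ.R_comm (C.Lτ.D_le h2)
    have hwr : w * C.t = C.t * w := by
      have := (C.Lτ.mem_D.1 h2).2
      rwa [C.rτ] at this
    have hyτ : C.Lτ.X * C.τ = C.τ * C.Lτ.X := C.Lτ.φ_comm xM
    have e1 := (C.Lτ.eps (C.Lτ.D_le h2) hw2).1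
    have e2 := (C.Lz.eps (C.Lz.D_le h3) hw2).1
    rw [Loc.c, C.Lz_X] at e2
    unfold Loc.c at e1
    unfold Loc.Zero Loc.c at hy hz
    rw [C.Lz_X] at hz
    refine hw1 (key (p := C.τ) (q := C.t) (x := C.Lτ.X) (z := C.z) C.ττ C.tt C.Lτ.X3 C.z_three
      C.zy.symm ?_ C.ty C.τz C.tz hw2 ?_ ?_ e1 e2 hy hz C.Lτ.cent_x C.Lt.t_ne_one C.z_ne C.l1y)
    · rw [← hyτ, mul_assoc, C.ττ, mul_one]
    · rw [← hwt, mul_assoc, C.ττ, mul_one]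
    · rw [← hwr, mul_assoc, C.tt, mul_one]
  · exact ⟨hy, hu' ▸ C.Lτ.one_conj C.uy_conj (by
      rw [inv_inv, C.Lz_t]; exact C.uτ') hw2 hy⟩

/-- With non-trivial signs at `x` and `y` the pair `(w t, c w)` is conjugate to `(t, τ)`. -/
theorem pair_one {w : G} (hA : C.InAll w) (hw2 : w * w = 1) (hy : C.Lτ.One w)
    (hx : C.Lt.One w) : ∃ h : G, h * C.t * h⁻¹ = w * C.t ∧ h * C.τ * h⁻¹ = C.Lt.c w := by
  obtain ⟨h1, h2, -⟩ := hA
  have hwt : w * C.t = C.t * w := C.Lt.R_comm (C.Lt.D_le h1)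
  have hwτ : w * C.τ = C.τ * w := C.Lτ.R_comm (C.Lτ.D_le h2)
  set h₁ := C.Lτ.c w
  have e1 : h₁ * C.t * h₁⁻¹ = C.t * w * C.τ := by
    have := C.Lτ.one_flip h2 hw2 hy
    rwa [C.rτ] at this
  have e2 : h₁ * C.τ * h₁⁻¹ = C.τ :=
    C.Lτ.t_conj (C.Lτ.R_comm (C.Lτ.c_R (C.Lτ.D_le h2)))
  set g := h₁ * C.u'
  have g1 : g * C.t * g⁻¹ = w * C.t := by
    calc g * C.t * g⁻¹ = h₁ * (C.u' * C.t * C.u'⁻¹) * h₁⁻¹ := by simp only [g]; group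
      _ = h₁ * (C.t * C.τ) * h₁⁻¹ := by rw [show C.u' * C.t * C.u'⁻¹ = C.t * C.τ from C.swap.uτ]
      _ = h₁ * C.t * h₁⁻¹ * (h₁ * C.τ * h₁⁻¹) := by group
      _ = _ := by rw [e1, e2, mul_assoc, C.ττ, mul_one, hwt]
  have g2 : g * C.τ * g⁻¹ = C.τ := by
    calc g * C.τ * g⁻¹ = h₁ * (C.u' * C.τ * C.u'⁻¹) * h₁⁻¹ := by simp only [g]; group
      _ = _ := by rw [show C.u' * C.τ * C.u'⁻¹ = C.τ from C.swap.ut, e2]
  set L := C.Lt.conj g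
  have ht : L.t = w * C.t := by rw [Loc.conj_t]; exact g1
  have hr : L.r = C.τ := by rw [Loc.conj_r, C.rt]; exact g2
  set q := C.Lt.c w with hq
  have hqw : q * w = w * q := (C.Lt.eps (C.Lt.D_le h1) hw2).1
  have hqt : q * C.t = C.t * q := C.Lt.R_comm (C.Lt.c_R (C.Lt.D_le h1))
  have hq2 : q * q = 1 := C.Lt.c_sq hw2
  have hqR : q ∉ L.R := fun h => L.noQ h hq2 (by
    have e := C.Lt.r_c (C.Lt.mem_D.1 h1).2
    rw [hx, C.rt] at e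
    rw [hr, ht, hq, e, ← mul_assoc, ← hq, hqw])
  obtain ⟨h, hht, hh⟩ := L.outside (s := q)
    (by rw [ht, ← mul_assoc, hqw, mul_assoc, hqt, mul_assoc]) hq2 hqR
  refine ⟨h * g, ?_, ?_⟩
  · calc h * g * C.t * (h * g)⁻¹ = h * (g * C.t * g⁻¹) * h⁻¹ := by group
      _ = h * L.t * h⁻¹ := by rw [g1, ← ht]
      _ = L.t := L.t_conj hht
      _ = _ := ht
  · calc h * g * C.τ * (h * g)⁻¹ = h * (g * C.τ * g⁻¹) * h⁻¹ := by group
      _ = h * L.r * h⁻¹ := by rw [g2, ← hr]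
      _ = q := hh

/-- `w` and `c w` are central modulo `t` in `R`. -/
theorem central_mod {w : G} (hz : C.Cz w) (hw : w ∈ C.Lt.D) (ha : C.a w = w) {n : G}
    (hn : n ∈ C.Lt.R) : C.Lt.MT (n * w) (w * n) ∧ C.Lt.MT (n * C.Lt.c w) (C.Lt.c w * n) := by
  set L := C.Lt
  have hU : w * L.U = L.U * w := (mul_inv_eq_iff_eq_mul.1 ha).symm
  have hfix : ∀ a ∈ L.R, L.MT (L.r * a * L.r) a → a * w = w * a := fun a haR h => by
    rcases L.fixed_cases haR h with hd | ⟨d, hd, rfl⟩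
    · exact hz.2 a (C.Dt_le hd)
    · rw [mul_assoc, ← hU, ← mul_assoc, hz.2 d (C.Dt_le hd), mul_assoc]
  obtain ⟨a, haR, b, hbR, h1, h2, h3⟩ := L.gen hn
  have hwR := L.D_le hw
  have ea := hfix a haR h1
  have eb := hfix b hbR h2
  have hcb := L.c_R hbR
  have hcw := L.c_R hwR
  refine ⟨L.MT_comm haR hcb hn hwR (Or.inl ea) (L.pair hbR hwR (Or.inl eb)) h3,
    L.MT_comm haR hcb hn hcw ?_ (Or.inl (by rw [← L.c_mul, eb, L.c_mul])) h3⟩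
  exact L.MT_symm (L.pair hwR haR (Or.inl ea.symm))

/-- The bound. -/
theorem small {w : G} (hz : C.Cz w) (hA : C.InAll w) (hw2 : w * w = 1) (ha : C.a w = w)
    (hw1 : w ≠ 1) (hx : C.Lt.One w) : Nat.card C.Lt.D ≤ 4 := by
  obtain ⟨h, e1, e2⟩ := C.pair_one hA hw2 (C.key_one hA hw2 ha hw1).1 hx
  obtain ⟨S', hS', h1, c1⟩ := C.Lt.half C.Lt.R le_rfl
    (fun n hn => (C.central_mod hz hA.1 ha hn).1)
  obtain ⟨S, hS, h2, c2⟩ := C.Lt.half S' hS'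
    (fun n hn => (C.central_mod hz hA.1 ha (hS' hn)).2)
  have hb := C.Lt.pair_bound e1 (by rw [C.rt]; exact e2) S
    (C.Lt.R_two.to_le (hS.trans hS')) fun g hg => ⟨by
      rw [← mul_assoc, h1 g (hS hg), mul_assoc, C.Lt.R_comm (hS' (hS hg)), mul_assoc], h2 g hg⟩
  rw [C.Lt.card_R_sq] at c1
  have hd : 0 < Nat.card C.Lt.D := Nat.card_pos
  have : Nat.card C.Lt.D * Nat.card C.Lt.D ≤ 4 * Nat.card C.Lt.D := by omega
  exact Nat.le_of_mul_le_mul_right this hd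

end Cfg

end CfsgLib.Recog.MTwelveAmalgam
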