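import Cfsg.Agent.Lib.Recog.MTwelveAmalgam.Uniq
import Cfsg.Agent.Lib.Recog.MTwelveAmalgam.Cfg

/-!
# The three frames on the four-group and their symmetries

The third frame `Lz` lives at `τ * t`, with reflection `t` and `X = z`. The three share `E`; the
elements `u`, `u'` induce the symmetric group of degree three on the centre of `E`.
-/

set_option autoImplicit false
set_option linter.unusedSectionVars false

namespace CfsgLib.Recog.MTwelveAmalgam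

open Subgroup

universe u

variable {G : Type u} [Group G] [Finite G]

theorem Loc.E_mul_iff (L : Loc G) {a b : G} (ha : a ∈ L.E) (hb : b ∈ L.E) :
    a * b ∈ L.D ↔ (a ∈ L.D ↔ b ∈ L.D) := by
  by_cases hA : a ∈ L.D
  · exact (Subgroup.mul_mem_cancel_left L.D hA).trans (iff_true_left hA).symm
  · by_cases hB : b ∈ L.D
    · rw [Subgroup.mul_mem_cancel_right L.D hB]
      simp [hA, hB]
    · refine iff_of_true ?_ (iff_of_false hA hB)
      have ha' : a * L.r ∈ L.D := ha.resolve_left hA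
      have hb' : b * L.r ∈ L.D := hb.resolve_left hB
      have e : a * L.r * (b * L.r) = a * b := by
        rw [(L.mem_E.1 hb).2.1, ← mul_assoc, mul_assoc a L.r L.r, L.rr, mul_one]
      exact e ▸ mul_mem ha' hb'

theorem Loc.r_not_D (L : Loc G) : L.r ∉ L.D := fun h => L.r_not_R (L.D_le h)

namespace Cfg

variable (C : Cfg G)

theorem tτ : C.t * C.τ = C.τ * C.t := by
  have := C.Lt.φ_comm tauM
  rw [C.φt_tau] at this
  exact this.symm

theorem tt : C.t * C.t = 1 := C.Lt.tt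

theorem ττ : C.τ * C.τ = 1 := C.Lτ.tt

/-- Exchange of the two sides. -/
def swap : Cfg G where
  Lt := C.Lτ
  Lτ := C.Lt
  φt_tau := C.φτ_tau
  φτ_tau := C.φt_tau
  z := C.z
  z_three := C.z_three
  z_ne := C.z_ne
  zx := C.zy
  zy := C.zx
  tz := C.τz
  τz := C.tz
  ty := by
    have h := C.Lt.rXr
    rw [show C.Lt.r = C.Lτ.t from C.φt_tau] at h
    exact h
  u_y := C.u'_x
  u'_x := C.u_y
  l1x := C.l1y
  l1y := C.l1x

theorem uτ' : C.u⁻¹ * C.τ * C.u = C.τ * C.t := by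
  have h := C.Lt.rUr
  rw [show C.Lt.r = C.τ from C.φt_tau] at h
  calc C.u⁻¹ * C.τ * C.u = C.u⁻¹ * (C.τ * C.u * C.τ) * C.τ := by
        rw [show C.u⁻¹ * (C.τ * C.u * C.τ) * C.τ = C.u⁻¹ * (C.τ * C.u * (C.τ * C.τ)) by group,
          C.ττ]
        group
    _ = C.t * C.τ := by rw [h]; group
    _ = _ := C.tτ

theorem uτ : C.u * C.τ * C.u⁻¹ = C.τ * C.t := by
  have h := congrArg (fun g => C.u * g * C.u⁻¹) C.uτ'
  have e : C.u * C.t * C.u⁻¹ = C.t := C.Lt.t_conj (C.Lt.φ_comm uM)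
  rw [show C.u * (C.τ * C.t) * C.u⁻¹ = C.u * C.τ * C.u⁻¹ * (C.u * C.t * C.u⁻¹) by group, e,
    show C.u * (C.u⁻¹ * C.τ * C.u) * C.u⁻¹ = C.τ by group] at h
  calc C.u * C.τ * C.u⁻¹ = C.u * C.τ * C.u⁻¹ * (C.t * C.t) := by rw [C.tt, mul_one]
    _ = C.u * C.τ * C.u⁻¹ * C.t * C.t := by group
    _ = _ := by rw [← h]

theorem ut : C.u * C.t * C.u⁻¹ = C.t := C.Lt.t_conj (C.Lt.φ_comm uM)

theorem exists_w : ∃ w, w⁻¹ * C.y * w = C.z ∧ w⁻¹ * C.τ * w = C.τ * C.t ∧ w * C.t = C.t * w ∧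
    (w = C.u ∨ w = C.u * C.t) := by
  have hu : C.u * C.t = C.t * C.u := C.Lt.φ_comm uM
  rcases C.u_y with h | h
  · exact ⟨C.u, h, C.uτ', hu, Or.inl rfl⟩
  · refine ⟨C.u * C.t, ?_, ?_, by rw [← mul_assoc, ← hu],
      Or.inr rfl⟩
    · calc (C.u * C.t)⁻¹ * C.y * (C.u * C.t) = C.t⁻¹ * (C.u⁻¹ * C.y * C.u) * C.t := by group
        _ = C.t * C.z⁻¹ * C.t := by rw [inv_eq_of_mul_eq_one_right C.tt, h]
        _ = (C.t * C.z * C.t)⁻¹ := by
          rw [mul_inv_rev, mul_inv_rev, inv_eq_of_mul_eq_one_right C.tt, mul_assoc]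
        _ = C.z := by rw [C.tz, inv_inv]
    · calc (C.u * C.t)⁻¹ * C.τ * (C.u * C.t) = C.t⁻¹ * (C.u⁻¹ * C.τ * C.u) * C.t := by group
        _ = C.t * (C.τ * C.t) * C.t := by rw [inv_eq_of_mul_eq_one_right C.tt, C.uτ']
        _ = C.t * C.τ := by rw [← mul_assoc, mul_assoc _ C.t C.t, C.tt, mul_one]
        _ = _ := C.tτ

/-- The element carrying the second frame to the third. -/
noncomputable def w : G := C.exists_w.choose

/-- The third frame. -/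
noncomputable def Lz : Loc G := C.Lτ.conj C.w⁻¹

theorem Lz_t : C.Lz.t = C.τ * C.t := by
  rw [Lz, Loc.conj_t, inv_inv]; exact C.exists_w.choose_spec.2.1

theorem Lz_X : C.Lz.X = C.z := by
  rw [Lz, Loc.conj_Xeq, inv_inv]; exact C.exists_w.choose_spec.1

theorem Lz_r : C.Lz.r = C.t := by
  have hw : C.w * C.t = C.t * C.w := C.exists_w.choose_spec.2.2.1
  rw [Lz, Loc.conj_r, inv_inv, show C.Lτ.r = C.t from C.φτ_tau,
    mul_assoc, ← hw, ← mul_assoc, inv_mul_cancel, one_mul]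

/-- The common 2-part of the centraliser of the four-group. -/
noncomputable abbrev E : Subgroup G := C.Lt.E

theorem mem_E {g : G} : g ∈ C.E ↔
    g * C.t = C.t * g ∧ g * C.τ = C.τ * g ∧ ∃ k, orderOf g = 2 ^ k := by
  rw [Loc.mem_E, show C.Lt.r = C.τ from C.φt_tau]

theorem Eτ : C.Lτ.E = C.E := C.Lτ.E_eq fun g => by
  rw [show C.Lτ.r = C.t from C.φτ_tau, show C.Lt.r = C.τ from C.φt_tau]
  exact and_comm

theorem Ez : C.Lz.E = C.E := C.Lz.E_eq fun g => by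
  rw [C.Lz_r, C.Lz_t, show C.Lt.r = C.τ from C.φt_tau]
  constructor
  · rintro ⟨h1, h2⟩
    refine ⟨h2, mul_right_cancel (b := C.t) ?_⟩
    rw [mul_assoc, h1, mul_assoc C.τ g, h2, mul_assoc]
  · rintro ⟨h1, h2⟩
    exact ⟨by rw [← mul_assoc, h2, mul_assoc, h1, mul_assoc], h1⟩

theorem swap_E : C.swap.E = C.E := C.Eτ

theorem dτ : Nat.card C.Lτ.D = Nat.card C.Lt.D := by
  have h := C.Lτ.card_E
  rw [C.Eτ, C.Lt.card_E] at h
  omega

theorem dz : Nat.card C.Lz.D = Nat.card C.Lt.D := by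
  have h := C.Lz.card_E
  rw [C.Ez, C.Lt.card_E] at h
  omega

theorem t_E : C.t ∈ C.E := C.Lt.t_E

theorem τ_E : C.τ ∈ C.E := by
  have := C.Lt.r_E
  rwa [show C.Lt.r = C.τ from C.φt_tau] at this

theorem Dt_le : C.Lt.D ≤ C.E := C.Lt.D_le_E

theorem Dτ_le : C.Lτ.D ≤ C.E := C.Eτ ▸ C.Lτ.D_le_E

theorem Dz_le : C.Lz.D ≤ C.E := C.Ez ▸ C.Lz.D_le_E

theorem swap_Dz : C.swap.Lz.D = C.Lz.D := by
  refine C.Lz.D_eq ?_ (Or.inr ?_)
  · rw [C.swap.Lz_t, C.Lz_t]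
    exact C.tτ
  · rw [C.swap.Lz_r, C.Lz_r, C.Lz_t, ← mul_assoc, C.tτ, mul_assoc, C.tt, mul_one]
    rfl

theorem a_Dt {g : G} (hg : g ∈ C.Lt.D) : C.u * g * C.u⁻¹ ∈ C.Lt.D := by
  have h := C.Lt.D_conj_le C.u hg
  rwa [C.Lt.D_eq (L' := C.Lt.conj C.u) (by rw [Loc.conj_t]; exact C.ut) (Or.inr (by
    rw [Loc.conj_r, show C.Lt.r = C.τ from C.φt_tau]; exact C.uτ))] at h

theorem a_Dτ {g : G} (hg : g ∈ C.Lτ.D) : C.u * g * C.u⁻¹ ∈ C.Lz.D := by
  have h := C.Lτ.D_conj_le C.u hg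
  rwa [C.Lz.D_eq (L' := C.Lτ.conj C.u) (by rw [Loc.conj_t, C.Lz_t]; exact C.uτ) (Or.inl (by
    rw [Loc.conj_r, show C.Lτ.r = C.t from C.φτ_tau, C.Lz_r]; exact C.ut))] at h

theorem a_Dz {g : G} (hg : g ∈ C.Lz.D) : C.u * g * C.u⁻¹ ∈ C.Lτ.D := by
  have h := C.Lz.D_conj_le C.u hg
  rwa [C.Lτ.D_eq (L' := C.Lz.conj C.u) (by
    rw [Loc.conj_t, C.Lz_t, show C.u * (C.τ * C.t) * C.u⁻¹ =
      C.u * C.τ * C.u⁻¹ * (C.u * C.t * C.u⁻¹) by group, C.uτ, C.ut, mul_assoc, C.tt, mul_one])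
    (Or.inl (by rw [Loc.conj_r, C.Lz_r, show C.Lτ.r = C.t from C.φτ_tau]; exact C.ut))] at h

theorem a_E {g : G} (hg : g ∈ C.E) : C.u * g * C.u⁻¹ ∈ C.E := by
  rw [← C.Ez]
  rw [← C.Eτ] at hg
  rcases hg with h | h
  · exact Or.inl (C.a_Dτ h)
  · refine Or.inr ?_
    have := C.a_Dτ h
    rw [show C.Lτ.r = C.t from C.φτ_tau] at this
    rw [C.Lz_r]
    rwa [show C.u * (g * C.t) * C.u⁻¹ = C.u * g * C.u⁻¹ * (C.u * C.t * C.u⁻¹) by group, C.ut] at this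

/-- The centre of `E`, as a predicate. -/
def Cz (g : G) : Prop := g ∈ C.E ∧ ∀ e ∈ C.E, e * g = g * e

theorem Cz_swap {g : G} : C.swap.Cz g ↔ C.Cz g := by
  rw [Cz, Cz, C.swap_E]

theorem Cz_t : C.Cz C.t := ⟨C.t_E, fun _ he => (C.mem_E.1 he).1⟩

theorem Cz_τ : C.Cz C.τ := ⟨C.τ_E, fun _ he => (C.mem_E.1 he).2.1⟩

theorem Cz_mul {g h : G} (hg : C.Cz g) (hh : C.Cz h) : C.Cz (g * h) :=
  ⟨mul_mem hg.1 hh.1, fun e he => by rw [← mul_assoc, hg.2 e he, mul_assoc, hh.2 e he, mul_assoc]⟩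

theorem Cz_pow {g : G} (hg : C.Cz g) (n : ℕ) : C.Cz (g ^ n) :=
  ⟨pow_mem hg.1 n, fun e he => ((show Commute e g from hg.2 e he).pow_right n).eq⟩

theorem a_Cz {g : G} (hg : C.Cz g) : C.Cz (C.u * g * C.u⁻¹) := by
  refine ⟨C.a_E hg.1, fun e he => ?_⟩
  have hinj : Function.Injective fun e : ↥C.E => (⟨C.u * e * C.u⁻¹, C.a_E e.2⟩ : ↥C.E) :=
    fun a b h => Subtype.ext (mul_left_cancel (mul_right_cancel (congrArg Subtype.val h)))
  obtain ⟨⟨e', he'⟩, h⟩ := (Finite.injective_iff_surjective.1 hinj) ⟨e, he⟩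
  have h' : C.u * e' * C.u⁻¹ = e := congrArg Subtype.val h
  rw [← h']
  calc C.u * e' * C.u⁻¹ * (C.u * g * C.u⁻¹) = C.u * (e' * g) * C.u⁻¹ := by group
    _ = _ := by rw [hg.2 e' he']; group

theorem a_a {g : G} (hg : g ∈ C.E) : C.u * (C.u * g * C.u⁻¹) * C.u⁻¹ = g := by
  calc C.u * (C.u * g * C.u⁻¹) * C.u⁻¹ = C.u * C.u * g * (C.u * C.u)⁻¹ := by group
    _ = C.t * g * C.t⁻¹ := by rw [show C.u * C.u = C.t from C.Lt.UU]
    _ = _ := by rw [← (C.mem_E.1 hg).1, mul_inv_cancel_right]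

/-- The centraliser of the four-group fixes the centre of `E`. -/
theorem act_triv {g k : G} (hg : C.Cz g) (hkt : k * C.t = C.t * k) (hkτ : k * C.τ = C.τ * k) :
    k * g = g * k := by
  haveI : Fact (Nat.Prime 2) := ⟨Nat.prime_two⟩
  obtain ⟨a, m, hm, ho⟩ := Nat.exists_eq_pow_mul_and_not_dvd (orderOf_pos k).ne' 2 (by norm_num)
  have hpos : 0 < 2 ^ a := by positivity
  have hmpos : 0 < m := Nat.pos_of_ne_zero fun h => by simp [h] at hm
  have hcop : (2 ^ a).Coprime m :=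
    Nat.Coprime.pow_left a ((Nat.prime_two.coprime_iff_not_dvd).2 hm)
  -- the 2-part
  have h2 : k ^ m * g = g * k ^ m := by
    refine hg.2 _ (C.mem_E.2 ⟨((show Commute k C.t from hkt).pow_left m).eq,
      ((show Commute k C.τ from hkτ).pow_left m).eq, a, ?_⟩)
    rw [orderOf_pow, ho, Nat.gcd_mul_left_left, Nat.mul_div_cancel _ hmpos]
  -- the odd part
  have h' : k ^ (2 ^ a) * g = g * k ^ (2 ^ a) := by
    set j := k ^ (2 ^ a)
    have hjt : j * C.t = C.t * j := ((show Commute k C.t from hkt).pow_left _).eq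
    have hjτ : j * C.τ = C.τ * j := ((show Commute k C.τ from hkτ).pow_left _).eq
    have hjo : orderOf j = m := by
      rw [orderOf_pow, ho, Nat.gcd_mul_right_left, Nat.mul_div_cancel_left _ hpos]
    have hj6 : (orderOf j).Coprime 6 := by
      rw [hjo, show (6 : ℕ) = 2 * 3 from rfl]
      refine Nat.Coprime.mul_right (Nat.coprime_comm.1 ((Nat.prime_two.coprime_iff_not_dvd).2 hm))
        (Nat.coprime_comm.1 ((Nat.prime_three.coprime_iff_not_dvd).2 fun h3 => ?_))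
      obtain ⟨l, hl⟩ := h3
      have h1 : j ^ l = 1 := C.Lt.no_three ((show Commute j C.t from hjt).pow_left l).eq
        (by rw [show C.Lt.r = C.τ from C.φt_tau]; exact ((show Commute j C.τ from hjτ).pow_left l).eq)
        (by rw [← pow_add, ← pow_add, show l + l + l = 3 * l by ring, ← hl, ← hjo, pow_orderOf_eq_one])
      have := Nat.le_of_dvd (by omega) (orderOf_dvd_of_pow_eq_one h1)
      rw [hjo] at this
      omega
    rcases hg.1 with h | h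
    · exact C.Lt.coprime_comm hjt hj6 (C.Lt.D_le h)
    · have e := C.Lt.coprime_comm hjt hj6 (C.Lt.D_le h)
      rw [show C.Lt.r = C.τ from C.φt_tau, ← mul_assoc] at e
      refine mul_right_cancel (b := C.τ) ?_
      rw [e, mul_assoc g C.τ, ← hjτ, mul_assoc]
  obtain ⟨c, d, hcd⟩ : ∃ c d : ℤ, c * (2 ^ a : ℕ) + d * (m : ℕ) = 1 :=
    ⟨Nat.gcdA (2 ^ a) m, Nat.gcdB (2 ^ a) m, by
      rw [mul_comm _ ((2 ^ a : ℕ) : ℤ), mul_comm _ (m : ℤ), ← Nat.gcd_eq_gcd_ab, hcop.gcd_eq_one]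
      rfl⟩
  have hk : (k ^ (2 ^ a)) ^ c * (k ^ m) ^ d = k := by
    rw [← zpow_natCast, ← zpow_natCast, ← zpow_mul, ← zpow_mul, ← zpow_add,
      mul_comm _ c, mul_comm _ d, hcd, zpow_one]
  rw [← hk]
  exact (((show Commute (k ^ (2 ^ a)) g from h').zpow_left c).mul_left
    ((show Commute (k ^ m) g from h2).zpow_left d)).eq

/-- `u u' u` and `u' u u'` agree on the centre of `E`. -/
theorem braid {g : G} (hg : C.Cz g) :
    C.u * (C.u' * (C.u * g * C.u⁻¹) * C.u'⁻¹) * C.u⁻¹ =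
      C.u' * (C.u * (C.u' * g * C.u'⁻¹) * C.u⁻¹) * C.u'⁻¹ := by
  set A := C.u * C.u' * C.u
  set B := C.u' * C.u * C.u'
  have hb : C.u' * C.t * C.u'⁻¹ = C.t * C.τ := C.swap.uτ
  have hb' : C.u' * C.τ * C.u'⁻¹ = C.τ := C.swap.ut
  have hm : ∀ h a b : G, h * (a * b) * h⁻¹ = h * a * h⁻¹ * (h * b * h⁻¹) := fun h a b => by group
  have h3 : C.u * (C.t * C.τ) * C.u⁻¹ = C.τ := by
    rw [hm, C.ut, C.uτ, ← mul_assoc, C.tτ, mul_assoc, C.tt, mul_one]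
  have h4 : C.u' * (C.τ * C.t) * C.u'⁻¹ = C.t := by
    rw [hm, hb', hb, ← mul_assoc, ← C.tτ, mul_assoc, C.ττ, mul_one]
  have hA : A * C.t * A⁻¹ = C.τ ∧ A * C.τ * A⁻¹ = C.t := by
    constructor
    · rw [show A * C.t * A⁻¹ = C.u * (C.u' * (C.u * C.t * C.u⁻¹) * C.u'⁻¹) * C.u⁻¹ by
        simp only [A]; group, C.ut, hb, h3]
    · rw [show A * C.τ * A⁻¹ = C.u * (C.u' * (C.u * C.τ * C.u⁻¹) * C.u'⁻¹) * C.u⁻¹ by
        simp only [A]; group, C.uτ, h4, C.ut]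
  have hB : B * C.t * B⁻¹ = C.τ ∧ B * C.τ * B⁻¹ = C.t := by
    constructor
    · rw [show B * C.t * B⁻¹ = C.u' * (C.u * (C.u' * C.t * C.u'⁻¹) * C.u⁻¹) * C.u'⁻¹ by
        simp only [B]; group, hb, h3, hb']
    · rw [show B * C.τ * B⁻¹ = C.u' * (C.u * (C.u' * C.τ * C.u'⁻¹) * C.u⁻¹) * C.u'⁻¹ by
        simp only [B]; group, hb', C.uτ, h4]
  have hfix : ∀ {x y : G}, A * x * A⁻¹ = y → B * x * B⁻¹ = y → B⁻¹ * A * x = x * (B⁻¹ * A) := by
    intro x y h1 h2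
    calc B⁻¹ * A * x = B⁻¹ * (A * x * A⁻¹) * A := by group
      _ = B⁻¹ * (B * x * B⁻¹) * A := by rw [h1, h2]
      _ = _ := by group
  have h := C.act_triv hg (hfix hA.1 hB.1) (hfix hA.2 hB.2)
  calc C.u * (C.u' * (C.u * g * C.u⁻¹) * C.u'⁻¹) * C.u⁻¹ = B * (B⁻¹ * A * g) * A⁻¹ := by
        simp only [A, B]; group
    _ = B * g * B⁻¹ := by rw [h]; group
    _ = _ := by simp only [B]; group

end Cfg

end CfsgLib.Recog.MTwelveAmalgam
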