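import Cfsg.Agent.Lib.Recog.MTwelveAmalgam.Pair
import Mathlib.Data.Fintype.Perm

/-!
# The radical depends on the involution only

The quotient of the centraliser of the involution by `N` is symmetric of degree three; so `R` is the
set of 2-elements of any normal nilpotent 3'-subgroup of index six.
-/

set_option autoImplicit false
set_option linter.unusedSectionVars false

namespace CfsgLib.Recog.MTwelveAmalgam

open Subgroup

universe u v

section Six

variable {Q : Type v} [Group Q] [Finite Q] {c e : Q}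

/-- The hypotheses: order six, an element of order three and an involution inverting it. -/
structure Six (c e : Q) : Prop where
  card : Nat.card Q = 6
  c3 : orderOf c = 3
  e2 : e * e = 1
  e1 : e ≠ 1
  rel : e * c * e = c⁻¹

namespace Six

theorem index (h : Six c e) : (zpowers c).index = 2 := by
  have h1 := (zpowers c).card_mul_index
  rw [Nat.card_zpowers, h.c3, h.card] at h1
  omega

theorem not_comm (h : Six c e) : e * c ≠ c * e := fun hc => by
  have h1 := h.rel
  rw [hc, mul_assoc, h.e2, mul_one] at h1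
  have h2 : orderOf c ∣ 2 := orderOf_dvd_of_pow_eq_one (by
    rw [pow_two]; nth_rewrite 2 [h1]; exact mul_inv_cancel c)
  rw [h.c3] at h2
  norm_num at h2

theorem e_notMem (h : Six c e) : e ∉ zpowers c := fun he => by
  obtain ⟨k, rfl⟩ := mem_zpowers_iff.1 he
  exact h.not_comm ((Commute.refl c).zpow_left k).eq

/-- No element of order three commutes with the involution. -/
theorem no_three (h : Six c e) {g : Q} (hg3 : g * g * g = 1) (hge : g * e = e * g) : g = 1 := by
  by_contra hg1
  have hgc : g ∈ zpowers c := by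
    have : g = g * g * (g * g) := by rw [← mul_assoc, hg3, one_mul]
    rw [this]
    exact Subgroup.mul_self_mem_of_index_two h.index _
  have ho : orderOf g = 3 := orderOf_eq_prime (by rw [pow_succ, pow_two]; exact hg3) hg1
  have heq : zpowers g = zpowers c := eq_of_le_of_card_ge (zpowers_le.2 hgc)
    (by rw [Nat.card_zpowers, Nat.card_zpowers, ho, h.c3])
  obtain ⟨k, hk⟩ := mem_zpowers_iff.1 (show c ∈ zpowers g from heq ▸ mem_zpowers c)
  exact h.not_comm (by rw [← hk]; exact ((show Commute e g from hge.symm).zpow_right k).eq)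

/-- No non-trivial normal subgroup has order prime to three. -/
theorem normal_bot (h : Six c e) (K : Subgroup Q) (hK : K.Normal) (h3 : ¬ 3 ∣ Nat.card K) :
    K = ⊥ := by
  have hd : Nat.card K ∣ 2 := by
    have h6 : Nat.card K ∣ 2 * 3 := (card_subgroup_dvd_card K).trans (by rw [h.card])
    exact (((Nat.prime_three.coprime_iff_not_dvd).2 h3).symm).dvd_of_dvd_mul_right h6
  rcases (Nat.dvd_prime Nat.prime_two).1 hd with h2 | h2
  · exact card_eq_one.1 h2
  exfalso
  haveI : Fact (Nat.Prime 2) := ⟨Nat.prime_two⟩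
  obtain ⟨⟨k, hk⟩, hko⟩ := exists_prime_orderOf_dvd_card' (G := K) 2 (by rw [h2])
  rw [Subgroup.orderOf_mk] at hko
  have hz : K = zpowers k := (eq_of_le_of_card_ge (zpowers_le.2 hk)
    (by rw [h2, Nat.card_zpowers, hko])).symm
  have hcen : ∀ g : Q, g * k = k * g := fun g => by
    obtain ⟨i, hi⟩ := mem_zpowers_iff.1 (show g * k * g⁻¹ ∈ zpowers k from hz ▸ hK.conj_mem k hk g)
    rw [← zpow_mod_orderOf, hko] at hi
    rcases Int.emod_two_eq_zero_or_one i with e' | e' <;> rw [Nat.cast_ofNat, e'] at hi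
    · rw [zpow_zero, eq_comm, conj_eq_one_iff] at hi
      rw [hi, orderOf_one] at hko; norm_num at hko
    · rw [zpow_one] at hi
      exact mul_inv_eq_iff_eq_mul.1 hi.symm
  have hkc : k ∉ zpowers c := fun h' => by
    have := orderOf_dvd_of_mem_zpowers h'
    rw [hko, h.c3] at this
    norm_num at this
  obtain ⟨i, hi⟩ := mem_zpowers_iff.1 ((Subgroup.mul_mem_iff_of_index_two h.index).2
    (iff_of_false hkc h.e_notMem))
  have hki : k * k = 1 := by rw [← pow_two, ← hko, pow_orderOf_eq_one]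
  have he : e = k * c ^ i := by rw [hi, ← mul_assoc, hki, one_mul]
  exact h.not_comm (by
    rw [he]
    exact ((show Commute k c from (hcen c).symm).mul_left ((Commute.refl c).zpow_left i)).eq)

/-- Such a group is symmetric of degree three. -/
theorem equiv_perm (h : Six c e) : Nonempty (Q ≃* Equiv.Perm (Fin 3)) := by
  set K := zpowers e
  have he : orderOf e = 2 := orderOf_eq_prime (by rw [pow_two, h.e2]) h.e1
  have hK : Nat.card K = 2 := by rw [Nat.card_zpowers, he]
  have hi : K.index = 3 := by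
    have h1 := K.card_mul_index
    rw [hK, h.card] at h1
    omega
  have hcore : K.normalCore = ⊥ := h.normal_bot _ K.normalCore_normal fun hd => by
    have h1 := hd.trans (card_dvd_of_le K.normalCore_le)
    rw [hK] at h1
    norm_num at h1
  let f : Q ⧸ K ≃ Fin 3 := Finite.equivFinOfCardEq ((Subgroup.index_eq_card K).symm.trans hi)
  let g : Q →* Equiv.Perm (Fin 3) := f.permCongrHom.toMonoidHom.comp (MulAction.toPermHom Q (Q ⧸ K))
  have hg : Function.Injective g := by
    refine f.permCongrHom.injective.comp ((MonoidHom.ker_eq_bot_iff _).1 ?_)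
    rw [← Subgroup.normalCore_eq_ker]; exact hcore
  refine ⟨MulEquiv.ofBijective g (hg.bijective_of_nat_card_le ?_)⟩
  rw [h.card, Nat.card_perm, Nat.card_fin]; rfl

end Six

end Six

namespace Loc

variable {G : Type u} [Group G] [Finite G] (L : Loc G)

/-- The quotient `H / N` is symmetric of degree three. -/
theorem six [(L.N.subgroupOf L.H).Normal] :
    Six (QuotientGroup.mk' (L.N.subgroupOf L.H) ⟨L.X, L.φ_mem _⟩)
      (QuotientGroup.mk' (L.N.subgroupOf L.H) ⟨L.r, L.φ_mem _⟩) := by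
  haveI : Fact (Nat.Prime 3) := ⟨Nat.prime_three⟩
  set q := QuotientGroup.mk' (L.N.subgroupOf L.H)
  refine ⟨L.N_index, ?_, ?_, ?_, ?_⟩
  · refine orderOf_eq_prime ?_ fun h => L.X_N ?_
    · rw [← map_pow, pow_succ, pow_two]; exact (congrArg q (Subtype.ext L.X3)).trans (map_one q)
    · exact (QuotientGroup.eq_one_iff (⟨L.X, L.φ_mem _⟩ : ↥L.H)).1 h
  · rw [← map_mul]; exact (congrArg q (Subtype.ext L.rr)).trans (map_one q)
  · exact fun h => L.r_N ((QuotientGroup.eq_one_iff (⟨L.r, L.φ_mem _⟩ : ↥L.H)).1 h)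
  · rw [← map_mul, ← map_mul, ← map_inv]; exact congrArg q (Subtype.ext L.rXr)

/-- No element of order three commutes with the pair. -/
theorem no_three {g : G} (hg : g * L.t = L.t * g) (hr : g * L.r = L.r * g) (h3 : g * g * g = 1) :
    g = 1 := by
  haveI := L.N_normal
  set q := QuotientGroup.mk' (L.N.subgroupOf L.H)
  have h := L.six.no_three (g := q ⟨g, L.mem_H.2 hg⟩)
    (by rw [← map_mul, ← map_mul]; exact (congrArg q (Subtype.ext h3)).trans (map_one q))
    (by rw [← map_mul, ← map_mul]; exact congrArg q (Subtype.ext hr))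
  have hN : g ∈ L.N := (QuotientGroup.eq_one_iff (⟨g, L.mem_H.2 hg⟩ : ↥L.H)).1 h
  by_contra hg1
  refine L.N_three ?_
  haveI : Fact (Nat.Prime 3) := ⟨Nat.prime_three⟩
  rw [← orderOf_eq_prime (show (⟨g, hN⟩ : ↥L.N) ^ 3 = 1 from Subtype.ext (by
    rw [pow_succ, pow_two]; exact h3)) fun h => hg1 (congrArg Subtype.val h)]
  exact orderOf_dvd_natCard _

/-- A normal 3'-subgroup of `H` lies in `N`. -/
theorem le_N {K : Subgroup ↥L.H} (hK : K.Normal) (h3 : ¬ 3 ∣ Nat.card K) :
    K ≤ L.N.subgroupOf L.H := by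
  haveI := L.N_normal
  set q := QuotientGroup.mk' (L.N.subgroupOf L.H)
  have h := L.six.normal_bot (K.map q) (hK.map q (QuotientGroup.mk'_surjective _)) fun h =>
    h3 (h.trans (card_map_dvd K q))
  rwa [Subgroup.map_eq_bot_iff, QuotientGroup.ker_mk'] at h

/-- Frames at the same involution have the same `R`. -/
theorem R_le {L' : Loc G} (h : L'.t = L.t) : L'.R ≤ L.R := fun g hg => by
  obtain ⟨hN, hk⟩ := L'.mem_R.1 hg
  refine L.mem_R.2 ⟨?_, hk⟩
  have hH : L'.H = L.H := by rw [Loc.H, Loc.H, h]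
  have hn : (L'.N.subgroupOf L.H).Normal := hH ▸ L'.N_normal
  have hle : L'.N ≤ L.H := hH ▸ L'.N_le
  have hN' := L.le_N hn (by rw [Nat.card_congr (subgroupOfEquivOfLe hle).toEquiv]; exact L'.N_three)
  exact hN' (show (⟨g, hle hN⟩ : ↥L.H) ∈ L'.N.subgroupOf L.H from hN)

theorem R_eq {L' : Loc G} (h : L'.t = L.t) : L'.R = L.R := le_antisymm (L.R_le h) (L'.R_le h.symm)

/-- The radical of a conjugate frame. -/
theorem R_conj_le (h : G) {g : G} (hg : g ∈ L.R) : h * g * h⁻¹ ∈ (L.conj h).R := by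
  obtain ⟨hN, k, hk⟩ := L.mem_R.1 hg
  refine (L.conj h).mem_R.2 ⟨?_, k, by rw [← MulAut.conj_apply, MulEquiv.orderOf_eq, hk]⟩
  set L' := L.conj h
  set K := (L.N.map (MulAut.conj h : G →* G)).subgroupOf L'.H
  have hle : L.N.map (MulAut.conj h : G →* G) ≤ L'.H := by
    rintro _ ⟨n, hn, rfl⟩
    rw [L'.mem_H, L.conj_t]
    have e := L.mem_H.1 (L.N_le hn)
    show h * n * h⁻¹ * (h * L.t * h⁻¹) = h * L.t * h⁻¹ * (h * n * h⁻¹)
    calc _ = h * (n * L.t) * h⁻¹ := by group
      _ = _ := by rw [e]; group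
  have hK : K.Normal := ⟨fun n hn a => by
    obtain ⟨m, hm, hmn⟩ := (mem_subgroupOf.1 hn : (n : G) ∈ L.N.map (MulAut.conj h : G →* G))
    have ha : (h⁻¹ * (a : G) * h) * L.t = L.t * (h⁻¹ * a * h) := by
      have e := L'.mem_H.1 a.2
      rw [L.conj_t] at e
      calc (h⁻¹ * (a : G) * h) * L.t = h⁻¹ * (a * (h * L.t * h⁻¹)) * h := by group
        _ = _ := by rw [e]; group
    refine mem_subgroupOf.2 ⟨_, L.N_conj ha hm, ?_⟩
    show h * (h⁻¹ * a * h * m * (h⁻¹ * a * h)⁻¹) * h⁻¹ = a * n * (a : G)⁻¹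
    rw [← hmn]
    show _ = (a : G) * (h * m * h⁻¹) * (a : G)⁻¹
    group⟩
  have h3 : ¬ 3 ∣ Nat.card K := by
    rw [Nat.card_congr (subgroupOfEquivOfLe hle).toEquiv,
      Nat.card_congr (L.N.equivMapOfInjective _ (MulAut.conj h).injective).toEquiv.symm]
    exact L.N_three
  exact L'.le_N hK h3 (show (⟨h * g * h⁻¹, hle ⟨g, hN, rfl⟩⟩ : ↥L'.H) ∈ K from ⟨g, hN, rfl⟩)

theorem D_conj_le (h : G) {g : G} (hg : g ∈ L.D) : h * g * h⁻¹ ∈ (L.conj h).D := by
  obtain ⟨h1, h2⟩ := L.mem_D.1 hg
  refine (L.conj h).mem_D.2 ⟨L.R_conj_le h h1, ?_⟩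
  rw [L.conj_r]
  calc h * g * h⁻¹ * (h * L.r * h⁻¹) = h * (g * L.r) * h⁻¹ := by group
    _ = _ := by rw [h2]; group

/-- `D` depends on the involution and the reflection modulo it. -/
theorem D_eq {L' : Loc G} (h : L'.t = L.t) (hr : L'.r = L.r ∨ L'.r = L.r * L.t) : L'.D = L.D := by
  ext g
  rw [L'.mem_D, L.mem_D, L.R_eq h]
  refine and_congr_right fun hg => ?_
  have ht := L.R_comm hg
  rcases hr with e | e <;> rw [e]
  constructor <;> intro h'
  · refine mul_right_cancel (b := L.t) ?_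
    rw [mul_assoc, h', mul_assoc L.r g L.t, ht, mul_assoc]
  · rw [← mul_assoc, h', mul_assoc, ht, mul_assoc]

theorem card_D_conj (h : G) : Nat.card (L.conj h).D = Nat.card L.D := by
  have he := (Nat.card_congr (L.E.equivMapOfInjective (MulAut.conj h : G →* G)
    (MulAut.conj h).injective).toEquiv)
  have hE : (L.conj h).E = L.E.map (MulAut.conj h : G →* G) := by
    ext g
    have e1 : ∀ b : G, g * (h * b * h⁻¹) = h * b * h⁻¹ * g ↔
        h⁻¹ * g * h * b = b * (h⁻¹ * g * h) := fun b => by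
      constructor <;> intro e
      · calc h⁻¹ * g * h * b = h⁻¹ * (g * (h * b * h⁻¹)) * h := by group
          _ = _ := by rw [e]; group
      · calc g * (h * b * h⁻¹) = h * (h⁻¹ * g * h * b) * h⁻¹ := by group
          _ = _ := by rw [e]; group
    have e2 : orderOf (h⁻¹ * g * h) = orderOf g := by
      rw [show h⁻¹ * g * h = MulAut.conj h⁻¹ g by simp, MulEquiv.orderOf_eq]
    rw [(L.conj h).mem_E, L.conj_t, L.conj_r, e1, e1, ← e2, ← L.mem_E]
    exact ⟨fun hg => ⟨_, hg, by simp [mul_assoc]⟩, fun ⟨m, hm, e⟩ => by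
      rw [← e]; simpa [mul_assoc] using hm⟩
  rw [← hE, L.card_E, (L.conj h).card_E] at he
  omega

end Loc

end CfsgLib.Recog.MTwelveAmalgam
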